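import Mathlib
import Cfsg.Agent.Lib.H18.Syl

/-! Normalizers grow in `p`-groups; uniqueness of normal Sylow subgroups in subgroups. -/

set_option autoImplicit false

namespace Cfsg.Agent.H18

variable {G : Type*} [Group G]

/-- Normalizers grow in `p`-groups. -/
theorem exists_mem_sdiff_normalizer {p : ℕ} [Fact p.Prime] [Finite G] {P D : Subgroup G}
    (hP : IsPGroup p P) (hD : D < P) :
    ∃ x ∈ P, x ∉ D ∧ x ∈ Subgroup.normalizer (D : Set G) := by
  have := hP.isNilpotent
  have hnc := Group.normalizerCondition_of_isNilpotent (G := P)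
  have h1 : D.subgroupOf P < ⊤ := by
    rw [lt_top_iff_ne_top]
    intro h
    rw [Subgroup.subgroupOf_eq_top] at h
    exact absurd (le_antisymm hD.le h) hD.ne
  have h2 := hnc _ h1
  obtain ⟨⟨x, hxP⟩, hx1, hx2⟩ := SetLike.exists_of_lt h2
  refine ⟨x, hxP, fun h => hx2 (Subgroup.mem_subgroupOf.2 h), ?_⟩
  rw [Subgroup.mem_normalizer_iff]
  intro y
  rw [Subgroup.mem_normalizer_iff] at hx1
  constructor
  · intro hy
    have hyP : y ∈ P := hD.le hy
    have := (hx1 ⟨y, hyP⟩).1 (Subgroup.mem_subgroupOf.2 hy)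
    exact Subgroup.mem_subgroupOf.1 this
  · intro hy
    have hyP : y ∈ P := by
      have h3 := P.mul_mem (P.mul_mem (P.inv_mem hxP) (hD.le hy)) hxP
      simpa [mul_assoc] using h3
    have h3 := (hx1 ⟨y, hyP⟩).2 (Subgroup.mem_subgroupOf.2 hy)
    exact Subgroup.mem_subgroupOf.1 h3

/-- In a group with a normal Sylow `p`-subgroup, that subgroup contains all `p`-subgroups. -/
theorem le_of_isPGroup_of_normal_sylow {p : ℕ} [Fact p.Prime] [Finite G] (R : Sylow p G)
    (hR : (R : Subgroup G).Normal) {U : Subgroup G} (hU : IsPGroup p U) : U ≤ R := by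
  obtain ⟨S, hS⟩ := hU.exists_le_sylow
  have := Sylow.unique_of_normal R hR
  rwa [Subsingleton.elim S R] at hS

/-- In a `p`-group, a strict inclusion of subgroups multiplies the order by at least `p`. -/
theorem card_mul_le_of_lt {p : ℕ} [Fact p.Prime] [Finite G] (hG : IsPGroup p G) {H K : Subgroup G}
    (h : H < K) : p * Nat.card H ≤ Nat.card K := by
  have hp := (Fact.out : p.Prime)
  obtain ⟨a, ha⟩ := (IsPGroup.iff_card).1 (hG.to_subgroup K)
  obtain ⟨b, hb⟩ := (IsPGroup.iff_card).1 (hG.to_subgroup H)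
  have hlt : Nat.card H < Nat.card K := by
    by_contra hge
    push Not at hge
    exact h.ne (Subgroup.eq_of_le_of_card_ge h.le hge)
  rw [ha, hb] at hlt
  rw [ha, hb]
  have hba : b < a := (Nat.pow_lt_pow_iff_right hp.one_lt).1 hlt
  calc p * p ^ b = p ^ (b + 1) := by ring
    _ ≤ p ^ a := Nat.pow_le_pow_right hp.pos hba

/-- Two `p`-subgroups of `L` of the same order and of index prime to `p` in `L` are conjugate in `L`. -/
theorem exists_conj_in_of_not_dvd {p : ℕ} [Fact p.Prime] [Finite G] {L P Q : Subgroup G}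
    (hPL : P ≤ L) (hQL : Q ≤ L) (hP : IsPGroup p P) (hQ : IsPGroup p Q) (hr : ¬ p ∣ P.relIndex L)
    (hc : Nat.card Q = Nat.card P) : ∃ x ∈ L, Q = P.map (MulAut.conj x).toMonoidHom := by
  have hr' : ¬ p ∣ Q.relIndex L := by
    have h1 := card_inf_mul_relIndex P L
    have h2 := card_inf_mul_relIndex Q L
    rw [inf_eq_left.2 hPL] at h1
    rw [inf_eq_left.2 hQL, hc, ← h1] at h2
    have := Nat.eq_of_mul_eq_mul_left Nat.card_pos h2
    rwa [this]
  have hP' : IsPGroup p (P.subgroupOf L) := hP.comap_of_injective L.subtype L.subtype_injective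
  have hQ' : IsPGroup p (Q.subgroupOf L) := hQ.comap_of_injective L.subtype L.subtype_injective
  let S1 : Sylow p L := hP'.toSylow hr
  let S2 : Sylow p L := hQ'.toSylow hr'
  obtain ⟨m, hm⟩ := MulAction.exists_smul_eq L S1 S2
  refine ⟨m, m.2, ?_⟩
  ext y
  rw [mem_conj]
  constructor
  · intro hy
    have hyL : y ∈ L := hQL hy
    have h4 : (⟨y, hyL⟩ : L) ∈ (S2 : Subgroup L) := Subgroup.mem_subgroupOf.2 hy
    rw [← hm, Sylow.coe_subgroup_smul] at h4
    obtain ⟨z, hz, e⟩ := h4
    have hz' : (z : G) ∈ P := Subgroup.mem_subgroupOf.1 hz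
    have e' : (m : G) * z * (m : G)⁻¹ = y := by
      have := congrArg Subtype.val e
      simpa using this
    rw [← e']
    simpa [mul_assoc] using hz'
  · intro hy
    have hyL : y ∈ L := by
      have h5 := hPL hy
      have := L.mul_mem (L.mul_mem m.2 h5) (L.inv_mem m.2)
      simpa [mul_assoc] using this
    have h4 : (⟨y, hyL⟩ : L) ∈ (S2 : Subgroup L) := by
      rw [← hm, Sylow.coe_subgroup_smul]
      refine ⟨m⁻¹ * ⟨y, hyL⟩ * m, ?_, ?_⟩
      · exact Subgroup.mem_subgroupOf.2 (by simpa using hy)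
      · simp [mul_assoc]
    exact Subgroup.mem_subgroupOf.1 h4

end Cfsg.Agent.H18
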