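import Mathlib
import Cfsg.Agent.Lib.H18.Basic

/-! Wielandt's join theorem for subnormal subgroups of finite groups. -/

set_option autoImplicit false

namespace Cfsg.Agent.H18

open Subgroup

universe u

theorem sup_map_subtype_subgroupOf {G : Type*} [Group G] {P X Y : Subgroup G} (hX : X ≤ P) (hY : Y ≤ P) :
    (X.subgroupOf P ⊔ Y.subgroupOf P).map P.subtype = X ⊔ Y := by
  rw [Subgroup.map_sup, Subgroup.map_subgroupOf_eq_of_le hX, Subgroup.map_subgroupOf_eq_of_le hY]

/-- normal join subnormal is subnormal -/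
theorem isSubnormal_normal_sup {G : Type*} [Group G] {K B : Subgroup G} [hK : K.Normal]
    (hB : B.IsSubnormal) : (K ⊔ B).IsSubnormal := by
  have h1 := (hB.map (f := QuotientGroup.mk' K) (QuotientGroup.mk'_surjective K)).comap (QuotientGroup.mk' K)
  rw [Subgroup.comap_map_eq, QuotientGroup.ker_mk', sup_comm] at h1
  exact h1

/-- Wielandt's theorem: the join of two subnormal subgroups of a finite group is subnormal. -/
theorem isSubnormal_sup {G : Type u} [Group G] [Finite G] {A B : Subgroup G}
    (hA : A.IsSubnormal) (hB : B.IsSubnormal) : (A ⊔ B).IsSubnormal := by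
  classical
  induction h : Nat.card G using Nat.strong_induction_on generalizing G with
  | _ n ih =>
  subst h
  have ih_sub : ∀ P : Subgroup G, P ≠ ⊤ → P.IsSubnormal → ∀ X Y : Subgroup G, X ≤ P → Y ≤ P →
      X.IsSubnormal → Y.IsSubnormal → (X ⊔ Y).IsSubnormal := by
    intro P hP hPs X Y hX hY hXs hYs
    have hlt : Nat.card P < Nat.card G := by
      apply Nat.lt_of_le_of_ne (Subgroup.card_le_card_group P)
      intro e
      exact hP (Subgroup.eq_top_of_card_eq P e)
    have h1 := ih _ hlt (G := P) (A := X.subgroupOf P) (B := Y.subgroupOf P) hXs.subgroupOf hYs.subgroupOf rfl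
    have h2 := h1.trans' hPs
    rwa [sup_map_subtype_subgroupOf hX hY] at h2
  rcases hA.lt_normal with rfl | ⟨K₀, hK₀, hAK₀, hK₀t⟩
  · simp
  set K := normalClosure (A : Set G) with hKdef
  haveI hKn : K.Normal := by rw [hKdef]; infer_instance
  have hAK : A ≤ K := Subgroup.le_normalClosure
  have hKK₀ : K ≤ K₀ := Subgroup.normalClosure_le_normal hAK₀
  have hKne : K ≠ ⊤ := by
    intro e
    rw [e] at hKK₀
    exact absurd (lt_of_le_of_lt hKK₀ hK₀t) (lt_irrefl _)
  set J := A ⊔ B with hJ
  -- case split on K ⊔ B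
  by_cases hKB : K ⊔ B = ⊤
  swap
  · exact ih_sub (K ⊔ B) hKB (isSubnormal_normal_sup hB) A B (hAK.trans le_sup_left) le_sup_right hA hB
  -- maximal `X`
  let S : Set (Subgroup G) := {X | A ≤ X ∧ X ≤ J ∧ X ≤ K ∧ X.IsSubnormal}
  have hSne : S.Nonempty := ⟨A, le_rfl, le_sup_left, hAK, hA⟩
  obtain ⟨X, hXm⟩ := S.toFinite.exists_maximal hSne
  obtain ⟨hAX, hXJ, hXK, hXs⟩ := hXm.1
  have hconj : ∀ j ∈ J, X.map (MulAut.conj j).toMonoidHom ≤ X := by
    intro j hj
    have hmem : X ⊔ X.map (MulAut.conj j).toMonoidHom ∈ S := by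
      refine ⟨hAX.trans le_sup_left, ?_, ?_, ?_⟩
      · apply sup_le hXJ
        rintro _ ⟨x, hx, rfl⟩
        exact J.mul_mem (J.mul_mem hj (hXJ hx)) (J.inv_mem hj)
      · apply sup_le hXK
        rintro _ ⟨x, hx, rfl⟩
        exact hKn.conj_mem x (hXK hx) j
      · refine ih_sub K hKne hKn.isSubnormal _ _ hXK ?_ hXs ?_
        · rintro _ ⟨x, hx, rfl⟩
          exact hKn.conj_mem x (hXK hx) j
        · exact hXs.map (MulAut.conj j).surjective
    have := hXm.2 hmem le_sup_left
    exact le_sup_right.trans this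
  have hBconj : ∀ b ∈ B, ∀ x ∈ X, b * x * b⁻¹ ∈ X := by
    intro b hb x hx
    exact hconj b (le_sup_right (a := A) hb) ⟨x, hx, rfl⟩
  -- `X = K`
  have hXKeq : K ≤ X := by
    have hXs' : (X.subgroupOf K).IsSubnormal := hXs.subgroupOf
    rcases hXs'.lt_normal with h | ⟨K₂, hK₂, hXK₂, hK₂t⟩
    · intro k hk
      have : (⟨k, hk⟩ : K) ∈ X.subgroupOf K := by rw [h]; trivial
      exact this
    · exfalso
      -- the conjugates of `X` by `K`
      let T : Set G := {t | ∃ k ∈ K, ∃ x ∈ X, t = k * x * k⁻¹}
      have hTconj : ∀ g : G, ∀ t ∈ T, g * t * g⁻¹ ∈ T := by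
        rintro g t ⟨k, hk, x, hx, rfl⟩
        have hg : g ∈ K ⊔ B := by rw [hKB]; trivial
        obtain ⟨k₀, hk₀, b, hb, rfl⟩ := mem_sup_normal_left.1 hg
        refine ⟨k₀ * (b * k * b⁻¹), K.mul_mem hk₀ (hKn.conj_mem k hk b), b * x * b⁻¹, hBconj b hb x hx, ?_⟩
        group
      have hTnorm : (closure T).Normal := by
        constructor
        intro t ht g
        induction ht using Subgroup.closure_induction with
        | mem x hx => exact subset_closure (hTconj g x hx)
        | one => simp
        | mul x y _ _ hx hy =>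
          have : g * (x * y) * g⁻¹ = (g * x * g⁻¹) * (g * y * g⁻¹) := by group
          rw [this]
          exact mul_mem hx hy
        | inv x _ hx =>
          have : g * x⁻¹ * g⁻¹ = (g * x * g⁻¹)⁻¹ := by group
          rw [this]
          exact inv_mem hx
      have hAT : A ≤ closure T := by
        intro a ha
        exact subset_closure ⟨1, K.one_mem, a, hAX ha, by simp⟩
      have hKT : K ≤ closure T := Subgroup.normalClosure_le_normal hAT
      have hTK₂ : closure T ≤ K₂.map K.subtype := by
        rw [Subgroup.closure_le]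
        rintro _ ⟨k, hk, x, hx, rfl⟩
        refine ⟨⟨k, hk⟩ * ⟨x, hXK hx⟩ * ⟨k, hk⟩⁻¹, ?_, rfl⟩
        apply hK₂.conj_mem
        exact hXK₂ (show (⟨x, hXK hx⟩ : K) ∈ X.subgroupOf K from hx)
      apply (lt_iff_le_not_ge.1 hK₂t).2
      rintro ⟨k, hk⟩ -
      obtain ⟨y, hy, e⟩ := hTK₂ (hKT hk)
      have : y = ⟨k, hk⟩ := Subtype.ext e
      rwa [← this]
  have : J = ⊤ := by
    rw [eq_top_iff, ← hKB]
    exact sup_le (hXKeq.trans hXJ) le_sup_right
  rw [this]
  exact Subgroup.IsSubnormal.top

/-- In a finite nilpotent group every subgroup is subnormal. -/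
theorem isSubnormal_of_isNilpotent {X : Type*} [Group X] [Finite X] [Group.IsNilpotent X] (H : Subgroup X) :
    H.IsSubnormal := by
  classical
  induction h : H.index using Nat.strong_induction_on generalizing H with
  | _ n ih =>
  subst h
  by_cases hH : H = ⊤
  · subst hH; exact Subgroup.IsSubnormal.top
  have hlt : H < normalizer (H : Set X) :=
    Group.normalizerCondition_of_isNilpotent H (lt_top_iff_ne_top.2 hH)
  have hidx : (normalizer (H : Set X)).index < H.index := by
    have h1 : (normalizer (H : Set X)).index * H.relIndex (normalizer (H : Set X)) = H.index :=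
      Subgroup.relIndex_mul_index (le_normalizer) |> fun h => by rw [mul_comm]; exact h
    have h2 : H.index ≠ 0 := Subgroup.index_ne_zero_of_finite
    have h3 : 1 < H.relIndex (normalizer (H : Set X)) := by
      have h4 : H.relIndex (normalizer (H : Set X)) ≠ 0 := by
        intro e
        rw [e, mul_zero] at h1
        exact h2 h1.symm
      have h5 : H.relIndex (normalizer (H : Set X)) ≠ 1 := by
        intro e
        rw [Subgroup.relIndex_eq_one] at e
        exact absurd (lt_of_lt_of_le hlt e) (lt_irrefl _)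
      omega
    rw [← h1]
    have h4 : 0 < (normalizer (H : Set X)).index := Nat.pos_of_ne_zero Subgroup.index_ne_zero_of_finite
    nlinarith
  have h1 := ih _ hidx _ rfl
  refine Subgroup.IsSubnormal.step H _ le_normalizer h1 ?_
  exact Subgroup.normal_subgroupOf_of_le_normalizer le_rfl

end Cfsg.Agent.H18
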