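import Mathlib
import Cfsg.Agent.Lib.H18.Basic
import Cfsg.Agent.Lib.H18.Join
import Cfsg.Agent.Lib.H05.Comp

/-! Wielandt's zipper lemma. -/

set_option autoImplicit false

namespace Cfsg.Agent.H18

open Subgroup

universe u

/-- `(X ⊔ T).subgroupOf H` distributes when both are below `H`. -/
theorem sup_subgroupOf_of_le {G : Type*} [Group G] {H X T : Subgroup G} (hX : X ≤ H) (hT : T ≤ H) :
    (X ⊔ T).subgroupOf H = X.subgroupOf H ⊔ T.subgroupOf H := by
  apply Subgroup.map_injective H.subtype_injective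
  rw [sup_map_subtype_subgroupOf hX hT, Subgroup.map_subgroupOf_eq_of_le (sup_le hX hT)]

/-- Subnormal-in transport under conjugation. -/
theorem snIn_conj {G : Type*} [Group G] {X H : Subgroup G} (g : G)
    (h : (X.subgroupOf H).IsSubnormal) :
    ((X.map (MulAut.conj g).toMonoidHom).subgroupOf (H.map (MulAut.conj g).toMonoidHom)).IsSubnormal := by
  have h1 := h.map (f := (MulAut.conj g).toMonoidHom.subgroupMap H) ((MulAut.conj g).toMonoidHom.subgroupMap_surjective H)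
  have e : (X.subgroupOf H).map ((MulAut.conj g).toMonoidHom.subgroupMap H) =
      (X.map (MulAut.conj g).toMonoidHom).subgroupOf (H.map (MulAut.conj g).toMonoidHom) := by
    ext ⟨y, hy⟩
    rw [Subgroup.mem_subgroupOf]
    constructor
    · rintro ⟨⟨x, hx⟩, hx2, e⟩
      have e2 : (MulAut.conj g) x = y := congrArg Subtype.val e
      exact ⟨x, hx2, e2⟩
    · intro hy2
      obtain ⟨x, hx, e⟩ := hy2
      obtain ⟨x', hx', e'⟩ := hy
      have hxx' : x = x' := (MulAut.conj g).injective (e.trans e'.symm)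
      subst hxx'
      exact ⟨⟨x, hx'⟩, hx, Subtype.ext e⟩
  rwa [e] at h1

/-- Wielandt's zipper lemma. -/
theorem zipper {G : Type u} [Group G] [Finite G] {S : Subgroup G} (h1 : ¬ S.IsSubnormal)
    (h2 : ∀ H : Subgroup G, S ≤ H → H ≠ ⊤ → (S.subgroupOf H).IsSubnormal) :
    ∃! M : Subgroup G, IsCoatom M ∧ S ≤ M := by
  classical
  have hStop : S ≠ ⊤ := by
    rintro rfl
    exact h1 Subgroup.IsSubnormal.top
  obtain ⟨M₀, hM₀, hSM₀⟩ := (eq_top_or_exists_le_coatom S).resolve_left hStop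
  refine ⟨M₀, ⟨hM₀, hSM₀⟩, ?_⟩
  by_contra hcon
  push Not at hcon
  obtain ⟨L₀, ⟨hL₀, hSL₀⟩, hne₀⟩ := hcon
  -- maximal intersection
  let PP : Set (Subgroup G) :=
    {D | ∃ K L : Subgroup G, IsCoatom K ∧ IsCoatom L ∧ K ≠ L ∧ S ≤ K ∧ S ≤ L ∧ D = K ⊓ L}
  have hPP : PP.Nonempty := ⟨_, L₀, M₀, hL₀, hM₀, hne₀, hSL₀, hSM₀, rfl⟩
  obtain ⟨D, hD⟩ := PP.toFinite.exists_maximal hPP
  obtain ⟨K, L, hK, hL, hKL, hSK, hSL, hDe⟩ := hD.1
  have hDK : D ≤ K := hDe ▸ inf_le_left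
  have hDL : D ≤ L := hDe ▸ inf_le_right
  have hSD : S ≤ D := hDe ▸ le_inf hSK hSL
  have hKnD : ¬ K ≤ D := by
    intro h
    have h3 : K ≤ L := h.trans hDL
    exact hKL ((hK.le_iff_eq hL.1).1 h3).symm
  have hLnD : ¬ L ≤ D := by
    intro h
    have h3 : L ≤ K := h.trans hDK
    exact hKL ((hL.le_iff_eq hK.1).1 h3)
  -- conjugates of `S` inside `D`
  let TT : Set (Subgroup G) := {T | T ≤ D ∧ ∃ g : G, T = S.map (MulAut.conj g).toMonoidHom}
  let Y : Subgroup G := sSup TT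
  have hYD : Y ≤ D := sSup_le fun T hT => hT.1
  have hSY : S ≤ Y := le_sSup ⟨hSD, 1, (map_conj_one S).symm⟩
  have hTY : ∀ T ∈ TT, T ≤ Y := fun T hT => le_sSup hT
  have hDne : D ≠ ⊤ := by
    intro h
    apply hK.1
    rw [eq_top_iff, ← h]
    exact hDK
  have hYne : Y ≠ ⊤ := by
    intro h
    apply hDne
    rw [eq_top_iff, ← h]
    exact hYD
  -- conjugation preserves the family
  have hconj_le : ∀ z : G, Y.map (MulAut.conj z).toMonoidHom ≤ D → Y.map (MulAut.conj z).toMonoidHom ≤ Y := by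
    intro z hz
    rw [Subgroup.map_le_iff_le_comap]
    refine sSup_le ?_
    rintro T ⟨hTD, g, rfl⟩
    rw [← Subgroup.map_le_iff_le_comap]
    refine hTY _ ⟨?_, z * g, (map_conj_mul S z g).symm⟩
    refine le_trans ?_ hz
    exact Subgroup.map_mono (hTY _ ⟨hTD, g, rfl⟩)
  have hDY : D ≤ normalizer (Y : Set G) := by
    intro d hd
    rw [mem_normalizer_of_map_conj_eq_iff_le]
    apply hconj_le
    rintro _ ⟨y, hy, rfl⟩
    exact D.mul_mem (D.mul_mem hd (hYD hy)) (D.inv_mem hd)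
  -- `Y` is subnormal in each proper overgroup
  have hYsn : ∀ H : Subgroup G, Y ≤ H → H ≠ ⊤ → (Y.subgroupOf H).IsSubnormal := by
    intro H hYH hHne
    let ZZ : Set (Subgroup G) := {X | X ≤ Y ∧ (X.subgroupOf H).IsSubnormal}
    have hZZ : ZZ.Nonempty := ⟨⊥, bot_le, by
      rw [Subgroup.bot_subgroupOf]; exact Subgroup.IsSubnormal.bot⟩
    obtain ⟨X, hX⟩ := ZZ.toFinite.exists_maximal hZZ
    obtain ⟨hXY, hXs⟩ := hX.1
    have hYX : Y ≤ X := by
      refine sSup_le ?_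
      rintro T ⟨hTD, g, rfl⟩
      have hTYle : S.map (MulAut.conj g).toMonoidHom ≤ Y := hTY _ ⟨hTD, g, rfl⟩
      have hTH : S.map (MulAut.conj g).toMonoidHom ≤ H := hTYle.trans hYH
      have hTs : ((S.map (MulAut.conj g).toMonoidHom).subgroupOf H).IsSubnormal := by
        have h3 : S ≤ H.map (MulAut.conj g⁻¹).toMonoidHom := map_conj_le_iff.1 hTH
        have h4 : H.map (MulAut.conj g⁻¹).toMonoidHom ≠ ⊤ := by
          intro e
          apply hHne
          have := congrArg (fun W => W.map (MulAut.conj g).toMonoidHom) e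
          simp only [map_conj_inv_map_conj] at this
          rw [this]
          rw [eq_top_iff]
          intro x _
          rw [mem_conj]
          trivial
        have h5 := snIn_conj g (h2 _ h3 h4)
        rwa [map_conj_inv_map_conj] at h5
      have hmem : X ⊔ S.map (MulAut.conj g).toMonoidHom ∈ ZZ := by
        refine ⟨sup_le hXY hTYle, ?_⟩
        rw [sup_subgroupOf_of_le (hXY.trans hYH) hTH]
        exact isSubnormal_sup hXs hTs
      exact le_sup_right.trans (hX.2 hmem le_sup_left)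
    have : X = Y := le_antisymm hXY hYX
    rw [← this]
    exact hXs
  -- the key step
  have key : ∀ K' : Subgroup G, IsCoatom K' → D ≤ K' → ¬ K' ≤ D →
      ∃ x ∈ K', x ∉ D ∧ x ∈ normalizer (Y : Set G) := by
    intro K' hK' hDK' hK'D
    have hYK' : Y ≤ K' := hYD.trans hDK'
    let WW : Set (Subgroup G) :=
      {Z | Y ≤ Z ∧ Z ≤ K' ∧ D ≤ normalizer (Z : Set G) ∧ (Z.subgroupOf K').IsSubnormal ∧ ¬ Z ≤ D}
    have hWW : WW.Nonempty := by
      refine ⟨K', hYK', le_rfl, hDK'.trans le_normalizer, ?_, hK'D⟩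
      rw [Subgroup.subgroupOf_self]
      exact Subgroup.IsSubnormal.top
    obtain ⟨Z, hZ⟩ := WW.toFinite.exists_minimal hWW
    obtain ⟨hYZ, hZK', hDZ, hZs, hZD⟩ := hZ.1
    have hZne : Z ≠ ⊤ := by
      intro e
      apply hK'.1
      rw [eq_top_iff, ← e]
      exact hZK'
    have hYZs := hYsn Z hYZ hZne
    rcases hYZs.lt_normal with h3 | ⟨Z₂, hZ₂, hYZ₂, hZ₂t⟩
    · exfalso
      apply hZD
      intro z hz
      have : (⟨z, hz⟩ : Z) ∈ Y.subgroupOf Z := by rw [h3]; trivial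
      exact hYD this
    -- the normal closure of `Y` in `Z`
    let C : Set G := {t | ∃ z ∈ Z, ∃ y ∈ Y, t = z * y * z⁻¹}
    let Z' : Subgroup G := closure C
    have hYZ' : Y ≤ Z' := fun y hy => subset_closure ⟨1, Z.one_mem, y, hy, by simp⟩
    have hZ'Z : Z' ≤ Z := by
      rw [Subgroup.closure_le]
      rintro _ ⟨z, hz, y, hy, rfl⟩
      exact Z.mul_mem (Z.mul_mem hz (hYZ hy)) (Z.inv_mem hz)
    have hZ'Z₂ : Z' ≤ Z₂.map Z.subtype := by
      rw [Subgroup.closure_le]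
      rintro _ ⟨z, hz, y, hy, rfl⟩
      refine ⟨⟨z, hz⟩ * ⟨y, hYZ hy⟩ * ⟨z, hz⟩⁻¹, ?_, rfl⟩
      apply hZ₂.conj_mem
      exact hYZ₂ (show (⟨y, hYZ hy⟩ : Z) ∈ Y.subgroupOf Z from hy)
    have hZZ' : ¬ Z ≤ Z' := by
      intro h
      apply (lt_iff_le_not_ge.1 hZ₂t).2
      rintro ⟨z, hz⟩ -
      obtain ⟨y, hy, e⟩ := hZ'Z₂ (h hz)
      have : y = ⟨z, hz⟩ := Subtype.ext e
      rwa [← this]
    have hCconj : ∀ z ∈ Z, ∀ t ∈ C, z * t * z⁻¹ ∈ C := by
      rintro z hz _ ⟨w, hw, y, hy, rfl⟩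
      exact ⟨z * w, Z.mul_mem hz hw, y, hy, by group⟩
    have hZ'n : (Z'.subgroupOf Z).Normal := by
      constructor
      rintro ⟨t, ht⟩ htm ⟨z, hz⟩
      rw [Subgroup.mem_subgroupOf] at htm ⊢
      change z * t * z⁻¹ ∈ Z'
      have htm' : t ∈ Z' := htm
      induction htm' using Subgroup.closure_induction with
      | mem x hx => exact subset_closure (hCconj z hz x hx)
      | one => simp
      | mul x y hx' hy' hx hy =>
        have : z * (x * y) * z⁻¹ = (z * x * z⁻¹) * (z * y * z⁻¹) := by group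
        rw [this]
        exact mul_mem (hx (hZ'Z hx') hx') (hy (hZ'Z hy') hy')
      | inv x hx' hx =>
        have : z * x⁻¹ * z⁻¹ = (z * x * z⁻¹)⁻¹ := by group
        rw [this]
        exact inv_mem (hx (hZ'Z hx') hx')
    have hDZ' : D ≤ normalizer (Z' : Set G) := by
      intro d hd
      rw [mem_normalizer_of_map_conj_eq_iff_le, Subgroup.map_le_iff_le_comap]
      change closure C ≤ _
      rw [Subgroup.closure_le]
      rintro _ ⟨z, hz, y, hy, rfl⟩
      have h4 : d * z * d⁻¹ ∈ Z := (Subgroup.mem_normalizer_iff.1 (hDZ hd) z).1 hz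
      have h5 : d * y * d⁻¹ ∈ Y := (Subgroup.mem_normalizer_iff.1 (hDY hd) y).1 hy
      change d * (z * y * z⁻¹) * d⁻¹ ∈ Z'
      apply Subgroup.subset_closure
      exact ⟨d * z * d⁻¹, h4, d * y * d⁻¹, h5, by group⟩
    have hZ's : (Z'.subgroupOf K').IsSubnormal :=
      H05.sn_extend hZ'Z hZK' hZ'n.isSubnormal hZs
    have hZ'D : Z' ≤ D := by
      by_contra h
      have hmem : Z' ∈ WW := ⟨hYZ', hZ'Z.trans hZK', hDZ', hZ's, h⟩
      exact hZZ' (hZ.2 hmem hZ'Z)
    have hZN : Z ≤ normalizer (Y : Set G) := by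
      intro z hz
      rw [mem_normalizer_of_map_conj_eq_iff_le]
      apply hconj_le
      rintro _ ⟨y, hy, rfl⟩
      exact hZ'D (subset_closure ⟨z, hz, y, hy, rfl⟩)
    obtain ⟨x, hxZ, hxD⟩ := Set.not_subset.1 hZD
    exact ⟨x, hZK' hxZ, hxD, hZN hxZ⟩
  obtain ⟨x, hxK, hxD, hxN⟩ := key K hK hDK hKnD
  obtain ⟨x', hxL, hxD', hxN'⟩ := key L hL hDL hLnD
  -- the normalizer of `Y`
  have hNne : normalizer (Y : Set G) ≠ ⊤ := by
    intro e
    have hYN : Y.Normal := Subgroup.normalizer_eq_top_iff.1 e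
    exact h1 ((h2 Y hSY hYne).trans hSY hYN.isSubnormal)
  obtain ⟨M, hM, hNM⟩ := (eq_top_or_exists_le_coatom (normalizer (Y : Set G))).resolve_left hNne
  have hSM : S ≤ M := hSY.trans (le_normalizer.trans hNM)
  have hMK : M = K := by
    by_contra h
    have hmem : M ⊓ K ∈ PP := ⟨M, K, hM, hK, h, hSM, hSK, rfl⟩
    have hle : D ≤ M ⊓ K := le_inf (hDY.trans hNM) hDK
    exact hxD (hD.2 hmem hle ⟨hNM hxN, hxK⟩)
  have hML : M = L := by
    by_contra h
    have hmem : M ⊓ L ∈ PP := ⟨M, L, hM, hL, h, hSM, hSL, rfl⟩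
    have hle : D ≤ M ⊓ L := le_inf (hDY.trans hNM) hDL
    exact hxD' (hD.2 hmem hle ⟨hNM hxN', hxL⟩)
  exact hKL (hMK.symm.trans hML)

end Cfsg.Agent.H18
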