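import Mathlib
import Cfsg.Prelude.Def_OddOrderLocal
import Cfsg.Agent.Lib.H03.Metacyclic
import Cfsg.Agent.Lib.H18.Basic
import Cfsg.Agent.Lib.H18.Syl

/-! Normal form for metacyclic `p`-groups, `p` odd. -/

set_option autoImplicit false
set_option linter.unusedSectionVars false

namespace Cfsg.Agent.H18

open Cfsg

section numbers

variable {p : ℕ} [hp : Fact p.Prime]

theorem mc_val_pow (hp2 : p ≠ 2) {r : ℕ} (hr1 : 1 < r) (hpr : p ∣ r - 1) {l : ℕ} (hl : l ≠ 0) :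
    padicValNat p (r ^ l - 1) = padicValNat p (r - 1) + padicValNat p l := by
  have hodd : Odd p := hp.out.odd_of_ne_two hp2
  have hx : ¬ p ∣ r := by
    intro h
    have h1 : p ∣ 1 := by
      have h2 := Nat.dvd_sub h hpr
      have h3 : r - (r - 1) = 1 := by omega
      rwa [h3] at h2
    exact hp.out.one_lt.ne' (Nat.dvd_one.1 h1)
  have h := padicValNat.pow_sub_pow (p := p) hodd (x := r) (y := 1) hr1 (by simpa using hpr) hx hl
  simpa using h

theorem mc_dvd_iff (hp2 : p ≠ 2) {r : ℕ} (hr1 : 1 < r) (hpr : p ∣ r - 1) (t x l : ℕ) :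
    p ^ t ∣ x * (r ^ l - 1) ↔ p ^ (t - padicValNat p (r - 1)) ∣ x * l := by
  by_cases hl : l = 0
  · subst hl
    simp
  by_cases hx : x = 0
  · subst hx
    simp
  have hrl : r ^ l - 1 ≠ 0 := by
    have : 1 < r ^ l := Nat.one_lt_pow hl hr1
    omega
  rw [padicValNat_dvd_iff_le (mul_ne_zero hx hrl), padicValNat_dvd_iff_le (mul_ne_zero hx hl),
    padicValNat.mul hx hrl, padicValNat.mul hx hl, mc_val_pow hp2 hr1 hpr hl]
  omega

theorem mc_sum_mul (d t : ℕ) :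
    (∑ u ∈ Finset.range t, (d + 1) ^ u) * d + 1 = (d + 1) ^ t := by
  induction t with
  | zero => simp
  | succ t ih =>
    rw [Finset.sum_range_succ, add_mul, pow_succ]
    have : (∑ u ∈ Finset.range t, (d + 1) ^ u) * d + (d + 1) ^ t * d + 1
        = ((∑ u ∈ Finset.range t, (d + 1) ^ u) * d + 1) + (d + 1) ^ t * d := by ring
    rw [this, ih]
    ring

theorem mc_val_geom (hp2 : p ≠ 2) {q : ℕ} (hq : 1 ≤ q) (hpq : p ∣ q - 1) {t : ℕ} (ht : t ≠ 0) :
    padicValNat p (∑ u ∈ Finset.range t, q ^ u) = padicValNat p t := by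
  rcases eq_or_lt_of_le hq with rfl | hq1
  · simp
  have h1 := mc_val_pow hp2 hq1 hpq ht
  obtain ⟨d, rfl⟩ : ∃ d, q = d + 1 := ⟨q - 1, by omega⟩
  have h2 := mc_sum_mul d t
  have h3 : (d + 1) ^ t - 1 = (∑ u ∈ Finset.range t, (d + 1) ^ u) * d := by omega
  have hd : d ≠ 0 := by omega
  have hS : (∑ u ∈ Finset.range t, (d + 1) ^ u) ≠ 0 := by
    have : 0 < ∑ u ∈ Finset.range t, (d + 1) ^ u :=
      Finset.sum_pos (fun u _ => by positivity) (by simpa using ht)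
    omega
  rw [h3, padicValNat.mul hS hd] at h1
  simp only [Nat.add_sub_cancel] at h1
  omega

theorem mc_geom_ne_zero {q t : ℕ} (hq : 1 ≤ q) (ht : t ≠ 0) :
    (∑ u ∈ Finset.range t, q ^ u) ≠ 0 := by
  have : 0 < ∑ u ∈ Finset.range t, q ^ u :=
    Finset.sum_pos (fun u _ => by positivity) (by simpa using ht)
  omega

theorem mc_dvd_of_not {n t c j : ℕ} (h : p ^ n ∣ c * j) (hj : ¬ p ^ t ∣ j) (ht : t ≤ n) :
    p ^ (n + 1 - t) ∣ c := by
  by_cases hc : c = 0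
  · subst hc
    simp
  have hj0 : j ≠ 0 := by
    rintro rfl
    simp at hj
  rw [padicValNat_dvd_iff_le (mul_ne_zero hc hj0), padicValNat.mul hc hj0] at h
  rw [padicValNat_dvd_iff_le hj0] at hj
  rw [padicValNat_dvd_iff_le hc]
  omega

end numbers

section grouplemmas

variable {G : Type*} [Group G]

theorem mc_orderOf_pow_prime_pow {p : ℕ} [hp : Fact p.Prime] {y : G} {m : ℕ} (h : orderOf y = p ^ m)
    (w : ℕ) : orderOf (y ^ p ^ w) = p ^ (m - w) := by
  have hp0 : 0 < p := hp.out.pos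
  rcases le_total w m with hw | hw
  · rw [orderOf_pow_of_dvd (pow_ne_zero _ hp0.ne') (by rw [h]; exact pow_dvd_pow _ hw), h,
      Nat.pow_div hw hp0]
  · have h1 : y ^ p ^ w = 1 := by
      rw [← orderOf_dvd_iff_pow_eq_one, h]
      exact pow_dvd_pow _ hw
    rw [h1, orderOf_one, Nat.sub_eq_zero_of_le hw, pow_zero]

/-- A lower bound for the index. -/
theorem mc_le_index [Finite G] (K : Subgroup G) (y : G) {w : ℕ} (hw : 0 < w)
    (h : ∀ c : ℕ, y ^ c ∈ K → w ∣ c) : w ≤ K.index := by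
  have hinj : Function.Injective (fun c : Fin w => ((y ^ (c : ℕ) : G) : G ⧸ K)) := by
    have key : ∀ c d : Fin w, (c : ℕ) ≤ d → ((y ^ (c : ℕ) : G) : G ⧸ K) = ((y ^ (d : ℕ) : G) : G ⧸ K) → c = d := by
      intro c d hcd heq
      rw [QuotientGroup.eq] at heq
      have h1 : (y ^ (c : ℕ))⁻¹ * y ^ (d : ℕ) = y ^ ((d : ℕ) - c) := by
        rw [inv_mul_eq_iff_eq_mul, ← pow_add]
        congr 1
        omega
      rw [h1] at heq
      have h2 := h _ heq
      have h3 : (d : ℕ) - c < w := by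
        have := d.2
        omega
      have h4 : (d : ℕ) - c = 0 := Nat.eq_zero_of_dvd_of_lt h2 h3
      apply Fin.ext
      omega
    intro c d heq
    rcases le_total (c : ℕ) d with hcd | hcd
    · exact key c d hcd heq
    · exact (key d c hcd heq.symm).symm
  have h1 := Nat.card_le_card_of_injective _ hinj
  simpa [Subgroup.index] using h1

/-- An upper bound for the relative index of a centralizer. -/
theorem mc_relIndex_centralizer_le [Finite G] (H : Subgroup G) (x : G) (D : Subgroup G)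
    (h : ∀ y ∈ H, y * x * y⁻¹ * x⁻¹ ∈ D) :
    (Subgroup.centralizer ({x} : Set G)).relIndex H ≤ Nat.card D := by
  classical
  let K := (Subgroup.centralizer ({x} : Set G)).subgroupOf H
  let φ : H ⧸ K → D := fun q => ⟨(q.out : G) * x * (q.out : G)⁻¹ * x⁻¹, h _ q.out.2⟩
  have hinj : Function.Injective φ := by
    intro q q' heq
    have h1 : (q.out : G) * x * (q.out : G)⁻¹ * x⁻¹ = (q'.out : G) * x * (q'.out : G)⁻¹ * x⁻¹ :=
      congrArg Subtype.val heq
    have h2 : (q.out : G) * x * (q.out : G)⁻¹ = (q'.out : G) * x * (q'.out : G)⁻¹ :=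
      mul_right_cancel h1
    have h3 : q.out⁻¹ * q'.out ∈ K := by
      rw [Subgroup.mem_subgroupOf, Subgroup.mem_centralizer_singleton_iff]
      push_cast
      have h4 : x = (q.out : G)⁻¹ * ((q.out : G) * x * (q.out : G)⁻¹) * (q.out : G) := by group
      have h5 : (q.out : G)⁻¹ * (q'.out : G) * x = (q.out : G)⁻¹ * ((q'.out : G) * x * (q'.out : G)⁻¹) * (q'.out : G) := by group
      rw [h5, ← h2]
      group
    have h6 : ((q.out : H) : H ⧸ K) = ((q'.out : H) : H ⧸ K) := QuotientGroup.eq.2 h3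
    rwa [QuotientGroup.out_eq', QuotientGroup.out_eq'] at h6
  exact Nat.card_le_card_of_injective _ hinj

theorem mc_relIndex_eq_card_map (N : Subgroup G) [N.Normal] (H : Subgroup G) :
    N.relIndex H = Nat.card (H.map (QuotientGroup.mk' N)) := by
  have h3 := Subgroup.relIndex_comap (⊥ : Subgroup (G ⧸ N)) (QuotientGroup.mk' N) H
  have h4 : (⊥ : Subgroup (G ⧸ N)).comap (QuotientGroup.mk' N) = N := by
    ext x
    rw [Subgroup.mem_comap, Subgroup.mem_bot]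
    exact QuotientGroup.eq_one_iff x
  rw [h4] at h3
  rw [h3, Subgroup.relIndex_bot_left]

theorem mc_mem_of_pow_mem {z : G} {L : Subgroup G} {c w : ℕ} (hcop : Nat.Coprime c w) (hz : z ^ w = 1)
    (h : z ^ c ∈ L) : z ∈ L := by
  have h1 : ((Nat.gcd c w : ℕ) : ℤ) = c * Nat.gcdA c w + w * Nat.gcdB c w := Nat.gcd_eq_gcd_ab c w
  rw [hcop] at h1
  have h2 : z = (z ^ c) ^ Nat.gcdA c w := by
    calc z = z ^ (((1 : ℕ) : ℤ)) := by simp
      _ = z ^ ((c : ℤ) * Nat.gcdA c w + w * Nat.gcdB c w) := by rw [h1]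
      _ = _ := by
        rw [zpow_add, zpow_mul, zpow_mul, zpow_natCast, zpow_natCast, hz, one_zpow, mul_one]
  rw [h2]
  exact L.zpow_mem h _

/-- Exponent of a `p`-element relative to a subgroup. -/
theorem mc_exists_exp {p : ℕ} [hp : Fact p.Prime] [Finite G] {y : G} {w : ℕ} (hy : IsPGroup p (Subgroup.zpowers y))
    (L : Subgroup G) (hL : y ^ p ^ w ∈ L) :
    ∃ α ≤ w, ∀ c : ℕ, y ^ c ∈ L ↔ p ^ α ∣ c := by
  classical
  have hex : ∃ α, y ^ p ^ α ∈ L := ⟨w, hL⟩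
  let α := Nat.find hex
  have hα : y ^ p ^ α ∈ L := Nat.find_spec hex
  have hmin : ∀ β < α, y ^ p ^ β ∉ L := fun β hβ => Nat.find_min hex hβ
  refine ⟨α, Nat.find_min' hex hL, fun c => ⟨fun h => ?_, ?_⟩⟩
  · by_cases hc : c = 0
    · subst hc
      simp
    by_contra hnd
    rw [padicValNat_dvd_iff_le hc] at hnd
    push Not at hnd
    set v := padicValNat p c
    obtain ⟨c', hc'⟩ : p ^ v ∣ c := pow_padicValNat_dvd
    have hcop : ¬ p ∣ c' := by
      intro hd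
      have h1 : p ^ (v + 1) ∣ c := by
        rw [hc', pow_succ]
        exact Nat.mul_dvd_mul_left _ hd
      have h2 := (padicValNat_dvd_iff_le hc).1 h1
      omega
    obtain ⟨k, hk⟩ := (IsPGroup.iff_orderOf.1 hy) ⟨y, Subgroup.mem_zpowers y⟩
    have hk' : orderOf y = p ^ k := by
      rw [← hk]
      exact (Subgroup.orderOf_mk y _).symm
    have hc2 : Nat.Coprime c' (p ^ k) := by
      apply Nat.Coprime.pow_right
      exact ((Nat.Prime.coprime_iff_not_dvd hp.out).2 hcop).symm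
    have hzk : (y ^ p ^ v) ^ p ^ k = 1 := by
      rw [← pow_mul, mul_comm, pow_mul, ← hk', pow_orderOf_eq_one, one_pow]
    have hz : (y ^ p ^ v) ^ c' ∈ L := by
      rw [← pow_mul, ← hc']
      exact h
    exact hmin v hnd (mc_mem_of_pow_mem hc2 hzk hz)
  · rintro ⟨k, rfl⟩
    rw [pow_mul]
    exact L.pow_mem hα k

end grouplemmas

/-- Normal form data of a metacyclic `p`-group. -/
structure MC (p : ℕ) (G : Type*) [Group G] where
  a : G
  b : G
  r : ℕ
  m : ℕ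
  e : ℕ
  hr1 : 1 < r
  hpr : p ∣ r - 1
  hnorm : (Subgroup.zpowers a).Normal
  hord : orderOf a = p ^ m
  hconj : b * a * b⁻¹ = a ^ r
  hgen : ∀ g : G, ∃ i j : ℕ, g = a ^ i * b ^ j
  hbe : ∀ j : ℕ, b ^ j ∈ Subgroup.zpowers a ↔ p ^ e ∣ j

namespace MC

variable {p : ℕ} [hp : Fact p.Prime] {G : Type*} [Group G] [Finite G] (D : MC p G)

/-- The valuation of `r - 1`. -/
noncomputable def s : ℕ := padicValNat p (D.r - 1)

/-- The exponent of the derived subgroup. -/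
noncomputable def n : ℕ := D.m - D.s

theorem s_pos : 1 ≤ D.s := by
  have h0 : D.r - 1 ≠ 0 := by
    have := D.hr1
    omega
  have h1 : p ^ 1 ∣ D.r - 1 := by simpa using D.hpr
  exact (padicValNat_dvd_iff_le h0).1 h1

theorem n_le_m : D.n ≤ D.m := Nat.sub_le _ _

theorem b_mul_a (l x : ℕ) : D.b ^ l * D.a ^ x = D.a ^ (x * D.r ^ l) * D.b ^ l := by
  induction l with
  | zero => simp
  | succ l ih =>
    have h1 : D.b * D.a ^ (x * D.r ^ l) = D.a ^ (x * D.r ^ l * D.r) * D.b := by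
      have h2 := H03.conj_pow_eq D.hconj (x * D.r ^ l)
      rw [← h2]
      group
    calc D.b ^ (l + 1) * D.a ^ x = D.b * (D.b ^ l * D.a ^ x) := by rw [pow_succ']; group
      _ = D.b * D.a ^ (x * D.r ^ l) * D.b ^ l := by rw [ih]; group
      _ = D.a ^ (x * D.r ^ (l + 1)) * D.b ^ (l + 1) := by
        rw [h1, pow_succ D.r, pow_succ' D.b, ← mul_assoc x]
        group

theorem mul_form (i j k l : ℕ) :
    D.a ^ i * D.b ^ j * (D.a ^ k * D.b ^ l) = D.a ^ (i + k * D.r ^ j) * D.b ^ (j + l) := by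
  calc D.a ^ i * D.b ^ j * (D.a ^ k * D.b ^ l) = D.a ^ i * (D.b ^ j * D.a ^ k) * D.b ^ l := by group
    _ = _ := by rw [b_mul_a, pow_add, pow_add]; group

theorem pow_form (i j t : ℕ) :
    (D.a ^ i * D.b ^ j) ^ t
      = D.a ^ (i * ∑ u ∈ Finset.range t, (D.r ^ j) ^ u) * D.b ^ (j * t) := by
  have h1 : D.b ^ j * D.a * (D.b ^ j)⁻¹ = D.a ^ (D.r ^ j) := by
    have := b_mul_a D j 1
    rw [pow_one, one_mul] at this
    rw [this]
    group
  rw [H03.mul_pow_formula h1, ← pow_mul D.b]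

theorem a_pow_eq_iff (x y : ℕ) : D.a ^ x = D.a ^ y ↔ x ≡ y [MOD p ^ D.m] := by
  rw [pow_eq_pow_iff_modEq, D.hord]

theorem comm_iff (hp2 : p ≠ 2) (x l : ℕ) :
    D.a ^ x * D.b ^ l = D.b ^ l * D.a ^ x ↔ p ^ D.n ∣ x * l := by
  rw [b_mul_a, mul_left_inj, a_pow_eq_iff]
  have h1 : x ≤ x * D.r ^ l := Nat.le_mul_of_pos_right _ (pow_pos (by have := D.hr1; omega) _)
  rw [Nat.modEq_iff_dvd' h1]
  have h2 : x * D.r ^ l - x = x * (D.r ^ l - 1) := by rw [Nat.mul_sub, mul_one]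
  rw [h2, mc_dvd_iff hp2 D.hr1 D.hpr]
  rfl

/-- The subgroups `⟨a^(p^(s+t))⟩`. -/
noncomputable def Dt (t : ℕ) : Subgroup G := Subgroup.zpowers (D.a ^ p ^ (D.s + t))

theorem normal_zpowers_pow (w : ℕ) : (Subgroup.zpowers (D.a ^ w)).Normal := by
  haveI := D.hnorm
  refine ⟨fun x hx g => ?_⟩
  obtain ⟨k, rfl⟩ := Subgroup.mem_zpowers_iff.1 hx
  have h1 : g * D.a * g⁻¹ ∈ Subgroup.zpowers D.a :=
    (inferInstance : (Subgroup.zpowers D.a).Normal).conj_mem _ (Subgroup.mem_zpowers _) g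
  obtain ⟨c, hc⟩ := Subgroup.mem_zpowers_iff.1 h1
  have h2 : g * (D.a ^ w) ^ k * g⁻¹ = (g * D.a * g⁻¹) ^ ((w : ℤ) * k) := by
    rw [conj_zpow, zpow_mul, zpow_natCast, ← conj_zpow]
  rw [h2, ← hc]
  refine Subgroup.mem_zpowers_iff.2 ⟨c * k, ?_⟩
  rw [← zpow_natCast, ← zpow_mul, ← zpow_mul]
  congr 1
  ring

instance normal_Dt (t : ℕ) : (D.Dt t).Normal := D.normal_zpowers_pow _

theorem comm_mem (hp2 : p ≠ 2) (i j k l t : ℕ) (h1 : p ^ t ∣ i * l) (h2 : p ^ t ∣ k * j) :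
    (D.a ^ k * D.b ^ l) * (D.a ^ i * D.b ^ j) * (D.a ^ k * D.b ^ l)⁻¹ * (D.a ^ i * D.b ^ j)⁻¹
      ∈ D.Dt t := by
  have hr0 : 1 ≤ D.r := by have := D.hr1; omega
  have hA : p ^ (D.s + t) ∣ i * (D.r ^ l - 1) := by
    rw [mc_dvd_iff hp2 D.hr1 D.hpr]
    have : D.s + t - padicValNat p (D.r - 1) = t := by
      show D.s + t - D.s = t
      omega
    rwa [this]
  have hB : p ^ (D.s + t) ∣ k * (D.r ^ j - 1) := by
    rw [mc_dvd_iff hp2 D.hr1 D.hpr]
    have : D.s + t - padicValNat p (D.r - 1) = t := by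
      show D.s + t - D.s = t
      omega
    rwa [this]
  have hmem : ∀ w, p ^ (D.s + t) ∣ w → D.a ^ w ∈ D.Dt t := by
    rintro w ⟨c, rfl⟩
    rw [pow_mul]
    exact Subgroup.pow_mem _ (Subgroup.mem_zpowers _) _
  have e1 : i * D.r ^ l = i + i * (D.r ^ l - 1) := by
    have : 1 ≤ D.r ^ l := Nat.one_le_pow _ _ hr0
    rw [Nat.mul_sub, mul_one]
    have h3 : i ≤ i * D.r ^ l := Nat.le_mul_of_pos_right _ this
    omega
  have e2 : k * D.r ^ j = k + k * (D.r ^ j - 1) := by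
    have : 1 ≤ D.r ^ j := Nat.one_le_pow _ _ hr0
    rw [Nat.mul_sub, mul_one]
    have h3 : k ≤ k * D.r ^ j := Nat.le_mul_of_pos_right _ this
    omega
  have h3 : (D.a ^ k * D.b ^ l) * (D.a ^ i * D.b ^ j)
      = D.a ^ (k + i) * D.a ^ (i * (D.r ^ l - 1)) * D.b ^ (l + j) := by
    rw [mul_form, e1, ← add_assoc, pow_add (D.a) (k + i)]
  have h4 : (D.a ^ i * D.b ^ j) * (D.a ^ k * D.b ^ l)
      = D.a ^ (k + i) * D.a ^ (k * (D.r ^ j - 1)) * D.b ^ (l + j) := by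
    rw [mul_form, e2, ← add_assoc, add_comm i k, pow_add (D.a) (k + i), add_comm j l]
  have h5 : (D.a ^ k * D.b ^ l) * (D.a ^ i * D.b ^ j) * (D.a ^ k * D.b ^ l)⁻¹ * (D.a ^ i * D.b ^ j)⁻¹
      = (D.a ^ k * D.b ^ l) * (D.a ^ i * D.b ^ j) * ((D.a ^ i * D.b ^ j) * (D.a ^ k * D.b ^ l))⁻¹ := by
    group
  have hcomm : Commute (D.a ^ (k + i)) (D.a ^ (i * (D.r ^ l - 1))) := (Commute.refl _).pow_pow _ _
  rw [h5, h3, h4]
  have h6 : D.a ^ (k + i) * D.a ^ (i * (D.r ^ l - 1)) * D.b ^ (l + j)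
        * (D.a ^ (k + i) * D.a ^ (k * (D.r ^ j - 1)) * D.b ^ (l + j))⁻¹
      = D.a ^ (k + i) * (D.a ^ (i * (D.r ^ l - 1)) * (D.a ^ (k * (D.r ^ j - 1)))⁻¹) * (D.a ^ (k + i))⁻¹ := by
    group
  rw [h6]
  exact (inferInstance : (D.Dt t).Normal).conj_mem _
    ((D.Dt t).mul_mem (hmem _ hA) ((D.Dt t).inv_mem (hmem _ hB))) _

theorem card_Dt (t : ℕ) : Nat.card (D.Dt t) = p ^ (D.n - t) := by
  show Nat.card (Subgroup.zpowers (D.a ^ p ^ (D.s + t))) = _
  rw [Nat.card_zpowers, mc_orderOf_pow_prime_pow D.hord]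
  congr 1
  unfold MC.n
  omega

theorem commutator_le_Dt (hp2 : p ≠ 2) : commutator G ≤ D.Dt 0 := by
  rw [commutator_def, Subgroup.commutator_le]
  intro x _ g _
  obtain ⟨k, l, rfl⟩ := D.hgen x
  obtain ⟨i, j, rfl⟩ := D.hgen g
  exact D.comm_mem hp2 i j k l 0 (by simp) (by simp)

open scoped commutatorElement in
theorem commutator_eq (hp2 : p ≠ 2) : commutator G = D.Dt 0 := by
  apply le_antisymm (D.commutator_le_Dt hp2)
  have h1 : D.a ^ (D.r - 1) ∈ commutator G := by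
    have h2 : D.a ^ (D.r - 1) = ⁅D.b, D.a⁆ := by
      rw [commutatorElement_def, D.hconj]
      have : D.r = D.r - 1 + 1 := by have := D.hr1; omega
      nth_rw 2 [this]
      rw [pow_succ]
      group
    rw [h2]
    exact Subgroup.commutator_mem_commutator (Subgroup.mem_top _) (Subgroup.mem_top _)
  obtain ⟨c, hc⟩ : p ^ D.s ∣ D.r - 1 := pow_padicValNat_dvd
  have h0 : D.r - 1 ≠ 0 := by have := D.hr1; omega
  have hcop : ¬ p ∣ c := by
    intro hd
    have h2 : p ^ (D.s + 1) ∣ D.r - 1 := by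
      rw [hc, pow_succ]
      exact Nat.mul_dvd_mul_left _ hd
    have h3 := (padicValNat_dvd_iff_le h0).1 h2
    have h4 : D.s = padicValNat p (D.r - 1) := rfl
    omega
  have hz : (D.a ^ p ^ D.s) ^ p ^ D.m = 1 := by
    rw [← pow_mul, mul_comm, pow_mul, ← D.hord, pow_orderOf_eq_one, one_pow]
  have h2 : (D.a ^ p ^ D.s) ^ c ∈ commutator G := by
    rw [← pow_mul, ← hc]
    exact h1
  have h3 := mc_mem_of_pow_mem (Nat.Coprime.pow_right _ ((Nat.Prime.coprime_iff_not_dvd hp.out).2 hcop).symm) hz h2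
  exact (Subgroup.zpowers_le).2 h3

theorem card_commutator (hp2 : p ≠ 2) : Nat.card (commutator G) = p ^ D.n := by
  rw [D.commutator_eq hp2, card_Dt]
  rfl

theorem pow_mem_a {j : ℕ} (h : p ^ D.e ∣ j) : ∃ w, D.b ^ j = D.a ^ w := by
  have h1 := (D.hbe j).2 h
  rw [← mem_powers_iff_mem_zpowers] at h1
  obtain ⟨w, hw⟩ := h1
  exact ⟨w, hw.symm⟩

theorem n_le_e (hp2 : p ≠ 2) : D.n ≤ D.e := by
  obtain ⟨w, hw⟩ := D.pow_mem_a (dvd_refl _)
  have h1 : D.a ^ 1 * D.b ^ p ^ D.e = D.b ^ p ^ D.e * D.a ^ 1 := by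
    rw [hw, pow_one, ← pow_succ', ← pow_succ]
  have h2 := (D.comm_iff hp2 1 (p ^ D.e)).1 h1
  rw [one_mul] at h2
  exact (Nat.pow_dvd_pow_iff_le_right hp.out.one_lt).1 h2

theorem exp_dvd_of_pow_eq (hp2 : p ≠ 2) {j w : ℕ} (h : D.b ^ j = D.a ^ w) : p ^ D.n ∣ w := by
  have h1 : D.a ^ w * D.b ^ 1 = D.b ^ 1 * D.a ^ w := by
    rw [← h, pow_one, ← pow_succ, ← pow_succ']
  have h2 := (D.comm_iff hp2 w 1).1 h1
  simpa using h2

/-- Uniqueness of the normal form, one case. -/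
theorem form_eq_aux (hp2 : p ≠ 2) {i j k l : ℕ} (h : D.a ^ i * D.b ^ j = D.a ^ k * D.b ^ l) (hjl : j ≤ l)
    {t : ℕ} (ht : t ≤ D.n) : (p ^ t ∣ i ↔ p ^ t ∣ k) ∧ (p ^ t ∣ j ↔ p ^ t ∣ l) := by
  have hl : l = (l - j) + j := by omega
  have h1 : D.a ^ i = D.a ^ k * D.b ^ (l - j) := by
    rw [hl, pow_add, ← mul_assoc] at h
    exact mul_right_cancel h
  have h2 : D.b ^ (l - j) ∈ Subgroup.zpowers D.a := by
    have : D.b ^ (l - j) = (D.a ^ k)⁻¹ * D.a ^ i := by
      rw [h1]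
      group
    rw [this]
    exact Subgroup.mul_mem _ (Subgroup.inv_mem _ (Subgroup.pow_mem _ (Subgroup.mem_zpowers _) _))
      (Subgroup.pow_mem _ (Subgroup.mem_zpowers _) _)
  have h3 := (D.hbe _).1 h2
  obtain ⟨w, hw⟩ := D.pow_mem_a h3
  have h4 := D.exp_dvd_of_pow_eq hp2 hw
  have h5 : D.a ^ i = D.a ^ (k + w) := by
    rw [h1, hw, pow_add]
  rw [a_pow_eq_iff] at h5
  have h6 : i ≡ k + w [MOD p ^ t] :=
    h5.of_dvd (pow_dvd_pow _ (ht.trans D.n_le_m))
  have h7 : p ^ t ∣ w := (pow_dvd_pow _ ht).trans h4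
  have h8 : p ^ t ∣ l - j := (pow_dvd_pow _ (ht.trans (D.n_le_e hp2))).trans h3
  constructor
  · rw [h6.dvd_iff (dvd_refl _)]
    exact (Nat.dvd_add_iff_left h7).symm
  · rw [hl]
    exact Nat.dvd_add_iff_right h8

theorem form_eq (hp2 : p ≠ 2) {i j k l : ℕ} (h : D.a ^ i * D.b ^ j = D.a ^ k * D.b ^ l)
    {t : ℕ} (ht : t ≤ D.n) : (p ^ t ∣ i ↔ p ^ t ∣ k) ∧ (p ^ t ∣ j ↔ p ^ t ∣ l) := by
  rcases le_total j l with hjl | hjl
  · exact D.form_eq_aux hp2 h hjl ht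
  · have := D.form_eq_aux hp2 h.symm hjl ht
    exact ⟨this.1.symm, this.2.symm⟩

/-- The level subgroups. -/
noncomputable def Gt (t : ℕ) : Subgroup G :=
  Subgroup.zpowers (D.a ^ p ^ t) ⊔ Subgroup.zpowers (D.b ^ p ^ t)

theorem mem_Gt_of {t i j : ℕ} (hi : p ^ t ∣ i) (hj : p ^ t ∣ j) : D.a ^ i * D.b ^ j ∈ D.Gt t := by
  obtain ⟨c, rfl⟩ := hi
  obtain ⟨d, rfl⟩ := hj
  rw [pow_mul, pow_mul]
  exact Subgroup.mul_mem _
    ((le_sup_left : _ ≤ D.Gt t) (Subgroup.pow_mem _ (Subgroup.mem_zpowers _) _))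
    ((le_sup_right : _ ≤ D.Gt t) (Subgroup.pow_mem _ (Subgroup.mem_zpowers _) _))

theorem exists_of_mem_Gt {t : ℕ} {g : G} (hg : g ∈ D.Gt t) :
    ∃ i j : ℕ, g = D.a ^ (p ^ t * i) * D.b ^ (p ^ t * j) := by
  haveI := D.normal_zpowers_pow (p ^ t)
  obtain ⟨x, hx, y, hy, rfl⟩ := mem_sup_normal_left.1 hg
  rw [← mem_powers_iff_mem_zpowers] at hx hy
  obtain ⟨c, rfl⟩ := hx
  obtain ⟨d, rfl⟩ := hy
  exact ⟨c, d, by simp only [pow_mul]⟩

theorem mem_Gt_iff (hp2 : p ≠ 2) {t : ℕ} (ht : t ≤ D.n) (i j : ℕ) :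
    D.a ^ i * D.b ^ j ∈ D.Gt t ↔ p ^ t ∣ i ∧ p ^ t ∣ j := by
  constructor
  · intro h
    obtain ⟨c, d, hcd⟩ := D.exists_of_mem_Gt h
    have := D.form_eq hp2 hcd ht
    exact ⟨this.1.2 (dvd_mul_right _ _), this.2.2 (dvd_mul_right _ _)⟩
  · rintro ⟨h1, h2⟩
    exact D.mem_Gt_of h1 h2

theorem index_a : (Subgroup.zpowers D.a).index = p ^ D.e := by
  haveI := D.hnorm
  have h1 : ∀ x : G ⧸ Subgroup.zpowers D.a, x ∈ Subgroup.zpowers ((D.b : G) : G ⧸ Subgroup.zpowers D.a) := by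
    intro x
    induction x using QuotientGroup.induction_on with | _ g => ?_
    obtain ⟨i, j, rfl⟩ := D.hgen g
    refine Subgroup.mem_zpowers_iff.2 ⟨j, ?_⟩
    rw [zpow_natCast, QuotientGroup.mk_mul, ← QuotientGroup.mk_pow]
    have : ((D.a ^ i : G) : G ⧸ Subgroup.zpowers D.a) = 1 :=
      (QuotientGroup.eq_one_iff _).2 (Subgroup.pow_mem _ (Subgroup.mem_zpowers _) _)
    rw [this, one_mul]
  have h2 := orderOf_eq_card_of_forall_mem_zpowers h1
  have h3 : orderOf ((D.b : G) : G ⧸ Subgroup.zpowers D.a) = p ^ D.e := by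
    apply Nat.dvd_antisymm
    · rw [orderOf_dvd_iff_pow_eq_one, ← QuotientGroup.mk_pow, QuotientGroup.eq_one_iff]
      exact (D.hbe _).2 (dvd_refl _)
    · apply (D.hbe _).1
      rw [← QuotientGroup.eq_one_iff, QuotientGroup.mk_pow, pow_orderOf_eq_one]
  rw [Subgroup.index, ← h2, h3]

theorem card_eq : Nat.card G = p ^ (D.m + D.e) := by
  have h1 := (Subgroup.zpowers D.a).card_mul_index
  rw [index_a, Nat.card_zpowers, D.hord, ← pow_add] at h1
  exact h1.symm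

include D in
theorem isPGroup : IsPGroup p G := IsPGroup.of_card D.card_eq

/-- The order of a subgroup from its two exponents. -/
theorem card_of_exps (L : Subgroup G) {α β : ℕ} (hα : α ≤ D.m) (hβ : β ≤ D.e)
    (h1 : ∀ c : ℕ, D.a ^ c ∈ L ↔ p ^ α ∣ c)
    (h2 : ∀ c : ℕ, D.b ^ c ∈ L ⊔ Subgroup.zpowers D.a ↔ p ^ β ∣ c) :
    Nat.card L = p ^ (D.m - α + (D.e - β)) := by
  haveI := D.hnorm
  have e1 : Subgroup.zpowers D.a ⊓ L = Subgroup.zpowers (D.a ^ p ^ α) := by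
    apply le_antisymm
    · intro x hx0
      obtain ⟨hx, hxL⟩ := Subgroup.mem_inf.1 hx0
      rw [← mem_powers_iff_mem_zpowers] at hx
      obtain ⟨c, rfl⟩ := hx
      obtain ⟨d, rfl⟩ := (h1 c).1 hxL
      show D.a ^ (p ^ α * d) ∈ _
      rw [pow_mul]
      exact Subgroup.pow_mem _ (Subgroup.mem_zpowers _) _
    · rw [Subgroup.zpowers_le]
      exact ⟨Subgroup.pow_mem _ (Subgroup.mem_zpowers _) _, (h1 _).2 (dvd_refl _)⟩
  have e2 : L.map (QuotientGroup.mk' (Subgroup.zpowers D.a))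
      = Subgroup.zpowers (((D.b ^ p ^ β : G)) : G ⧸ Subgroup.zpowers D.a) := by
    apply le_antisymm
    · rintro _ ⟨g, hg, rfl⟩
      obtain ⟨i, j, rfl⟩ := D.hgen g
      have h3 : D.b ^ j ∈ L ⊔ Subgroup.zpowers D.a := by
        have h4 : D.b ^ j = (D.a ^ i)⁻¹ * (D.a ^ i * D.b ^ j) := by group
        rw [h4]
        exact Subgroup.mul_mem _ ((le_sup_right : _ ≤ L ⊔ Subgroup.zpowers D.a)
          (Subgroup.inv_mem _ (Subgroup.pow_mem _ (Subgroup.mem_zpowers _) _))) (le_sup_left (a := L) hg)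
      obtain ⟨d, rfl⟩ := (h2 j).1 h3
      refine Subgroup.mem_zpowers_iff.2 ⟨d, ?_⟩
      have : ((D.a ^ i : G) : G ⧸ Subgroup.zpowers D.a) = 1 :=
        (QuotientGroup.eq_one_iff _).2 (Subgroup.pow_mem _ (Subgroup.mem_zpowers _) _)
      show _ = (((D.a ^ i * D.b ^ (p ^ β * d) : G)) : G ⧸ Subgroup.zpowers D.a)
      rw [zpow_natCast, QuotientGroup.mk_mul, this, one_mul, ← QuotientGroup.mk_pow, pow_mul]
    · rw [Subgroup.zpowers_le]
      have h3 := (h2 (p ^ β)).2 (dvd_refl _)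
      obtain ⟨x, hx, y, hy, hxy⟩ := mem_sup_normal_right.1 h3
      refine ⟨x, hx, ?_⟩
      show ((x : G) : G ⧸ Subgroup.zpowers D.a) = _
      rw [← hxy, QuotientGroup.mk_mul, (QuotientGroup.eq_one_iff y).2 hy, mul_one]
  have h3 := card_inf_mul_relIndex (Subgroup.zpowers D.a) L
  rw [e1, mc_relIndex_eq_card_map, e2, Nat.card_zpowers, Nat.card_zpowers,
    mc_orderOf_pow_prime_pow D.hord] at h3
  have h4 : orderOf (D.b ^ p ^ β : G) = orderOf (D.b ^ p ^ β : G) := rfl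
  have h5 : orderOf (((D.b ^ p ^ β : G)) : G ⧸ Subgroup.zpowers D.a) = p ^ (D.e - β) := by
    have h6 : orderOf ((D.b : G) : G ⧸ Subgroup.zpowers D.a) = p ^ D.e := by
      apply Nat.dvd_antisymm
      · rw [orderOf_dvd_iff_pow_eq_one, ← QuotientGroup.mk_pow, QuotientGroup.eq_one_iff]
        exact (D.hbe _).2 (dvd_refl _)
      · apply (D.hbe _).1
        rw [← QuotientGroup.eq_one_iff, QuotientGroup.mk_pow, pow_orderOf_eq_one]
    rw [QuotientGroup.mk_pow]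
    exact mc_orderOf_pow_prime_pow h6 β
  rw [h5, ← pow_add] at h3
  exact h3.symm

theorem card_Gt (hp2 : p ≠ 2) {t : ℕ} (ht : t ≤ D.n) : Nat.card (D.Gt t) = p ^ (D.m - t + (D.e - t)) := by
  apply D.card_of_exps (D.Gt t) (ht.trans D.n_le_m) (ht.trans (D.n_le_e hp2))
  · intro c
    have h := D.mem_Gt_iff hp2 ht c 0
    simp only [pow_zero, mul_one, dvd_zero, and_true] at h
    exact h
  · intro c
    haveI := D.hnorm
    constructor
    · intro h
      obtain ⟨x, hx, y, hy, hxy⟩ := mem_sup_normal_right.1 h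
      obtain ⟨i, j, rfl⟩ := D.exists_of_mem_Gt hx
      rw [← mem_powers_iff_mem_zpowers] at hy
      obtain ⟨w, rfl⟩ := hy
      have h1 : D.a ^ (p ^ t * i) * D.b ^ (p ^ t * j) * D.a ^ w = D.a ^ (p ^ t * i + w * D.r ^ (p ^ t * j)) * D.b ^ (p ^ t * j) := by
        have := D.mul_form (p ^ t * i) (p ^ t * j) w 0
        simpa using this
      rw [h1] at hxy
      have h2 : D.a ^ 0 * D.b ^ c = D.a ^ (p ^ t * i + w * D.r ^ (p ^ t * j)) * D.b ^ (p ^ t * j) := by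
        rw [hxy]
        simp
      have h3 := D.form_eq hp2 h2 ht
      exact h3.2.2 (dvd_mul_right _ _)
    · intro h
      apply le_sup_left (a := D.Gt t)
      have := D.mem_Gt_of (t := t) (i := 0) (j := c) (dvd_zero _) h
      simpa using this

theorem center_eq (hp2 : p ≠ 2) : Subgroup.center G = D.Gt D.n := by
  ext g
  obtain ⟨i, j, rfl⟩ := D.hgen g
  rw [D.mem_Gt_iff hp2 le_rfl, Subgroup.mem_center_iff]
  constructor
  · intro h
    constructor
    · have h1 := h D.b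
      have h2 : D.a ^ i * D.b ^ 1 = D.b ^ 1 * D.a ^ i := by
        rw [pow_one]
        have h3 : D.a ^ i * D.b * D.b ^ j = D.b * D.a ^ i * D.b ^ j := by
          calc D.a ^ i * D.b * D.b ^ j = D.a ^ i * (D.b * D.b ^ j) := by group
            _ = D.a ^ i * (D.b ^ j * D.b) := by rw [pow_mul_comm' D.b j]
            _ = (D.a ^ i * D.b ^ j) * D.b := by group
            _ = D.b * (D.a ^ i * D.b ^ j) := h1.symm
            _ = _ := by group
        exact mul_right_cancel h3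
      have h4 := (D.comm_iff hp2 i 1).1 h2
      simpa using h4
    · have h1 := h D.a
      have h2 : D.a ^ 1 * D.b ^ j = D.b ^ j * D.a ^ 1 := by
        rw [pow_one]
        have h3 : D.a ^ i * (D.a * D.b ^ j) = D.a ^ i * (D.b ^ j * D.a) := by
          calc D.a ^ i * (D.a * D.b ^ j) = (D.a ^ i * D.a) * D.b ^ j := by group
            _ = (D.a * D.a ^ i) * D.b ^ j := by rw [← pow_succ, ← pow_succ']
            _ = D.a * (D.a ^ i * D.b ^ j) := by group
            _ = (D.a ^ i * D.b ^ j) * D.a := h1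
            _ = _ := by group
        exact mul_left_cancel h3
      have h4 := (D.comm_iff hp2 1 j).1 h2
      simpa using h4
  · rintro ⟨h1, h2⟩ g'
    obtain ⟨k, l, rfl⟩ := D.hgen g'
    have h3 := D.comm_mem hp2 i j k l D.n (h1.trans (dvd_mul_right _ _)) (h2.trans (dvd_mul_left _ _))
    have h4 : D.Dt D.n = ⊥ := by
      show Subgroup.zpowers (D.a ^ p ^ (D.s + D.n)) = ⊥
      rw [Subgroup.zpowers_eq_bot, ← orderOf_dvd_iff_pow_eq_one, D.hord]
      apply pow_dvd_pow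
      unfold MC.n
      omega
    rw [h4, Subgroup.mem_bot] at h3
    have h5 := mul_inv_eq_one.1 h3
    exact (mul_inv_eq_iff_eq_mul.1 h5)

theorem index_center (hp2 : p ≠ 2) : (Subgroup.center G).index = p ^ (2 * D.n) := by
  have h1 := (Subgroup.center G).card_mul_index
  have hc : Nat.card (Subgroup.center G) = p ^ (D.m - D.n + (D.e - D.n)) := by
    rw [D.center_eq hp2, D.card_Gt hp2 le_rfl]
  rw [hc, D.card_eq] at h1
  have h2 := D.n_le_m
  have h3 := D.n_le_e hp2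
  have h4 : p ^ (D.m + D.e) = p ^ (D.m - D.n + (D.e - D.n)) * p ^ (2 * D.n) := by
    rw [← pow_add]
    congr 1
    omega
  rw [h4] at h1
  exact Nat.eq_of_mul_eq_mul_left (pow_pos hp.out.pos _) h1

theorem pow_mem_Gt (hp2 : p ≠ 2) (x : G) (t : ℕ) : x ^ p ^ t ∈ D.Gt t := by
  obtain ⟨i, j, rfl⟩ := D.hgen x
  rw [D.pow_form]
  have hr0 : 1 ≤ D.r := by have := D.hr1; omega
  have hq : 1 ≤ D.r ^ j := Nat.one_le_pow _ _ hr0
  have hpq : p ∣ D.r ^ j - 1 := by
    have h1 := (mc_dvd_iff (t := 1) (x := 1) (l := j) hp2 D.hr1 D.hpr).2 (by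
      have : 1 - padicValNat p (D.r - 1) = 0 := by
        have := D.s_pos
        have h2 : D.s = padicValNat p (D.r - 1) := rfl
        omega
      rw [this]
      simp)
    simpa using h1
  apply D.mem_Gt_of
  · apply Dvd.dvd.mul_left
    have h1 := mc_val_geom hp2 hq hpq (t := p ^ t) (pow_ne_zero _ hp.out.ne_zero)
    rw [padicValNat_dvd_iff_le (mc_geom_ne_zero hq (pow_ne_zero _ hp.out.ne_zero)), h1,
      padicValNat.prime_pow]
  · exact dvd_mul_left _ _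

theorem closure_pow_eq (hp2 : p ≠ 2) (t : ℕ) :
    Subgroup.closure {x : G | ∃ y : G, y ^ p ^ t = x} = D.Gt t := by
  apply le_antisymm
  · rw [Subgroup.closure_le]
    rintro _ ⟨y, rfl⟩
    exact D.pow_mem_Gt hp2 y t
  · apply sup_le
    · rw [Subgroup.zpowers_le]
      exact Subgroup.subset_closure ⟨D.a, rfl⟩
    · rw [Subgroup.zpowers_le]
      exact Subgroup.subset_closure ⟨D.b, rfl⟩

/-- Upper bound for class sizes. -/
theorem index_le (hp2 : p ≠ 2) {t : ℕ} {g : G} (hg : g ∈ D.Gt t) :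
    (Subgroup.centralizer ({g} : Set G)).index ≤ p ^ (D.n - t) := by
  rw [← D.card_Dt t, ← Subgroup.relIndex_top_right]
  apply mc_relIndex_centralizer_le
  intro y _
  obtain ⟨k, l, rfl⟩ := D.hgen y
  obtain ⟨i, j, rfl⟩ := D.exists_of_mem_Gt hg
  exact D.comm_mem hp2 _ _ _ _ t (by rw [mul_assoc]; exact dvd_mul_right _ _)
    (by rw [mul_left_comm]; exact dvd_mul_right _ _)

/-- Lower bound for class sizes. -/
theorem lt_index (hp2 : p ≠ 2) {t : ℕ} (ht : t ≤ D.n) {g : G} (hg : g ∉ D.Gt t) :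
    p ^ (D.n - t) < (Subgroup.centralizer ({g} : Set G)).index := by
  obtain ⟨i, j, rfl⟩ := D.hgen g
  rw [D.mem_Gt_iff hp2 ht] at hg
  have hlt : p ^ (D.n - t) < p ^ (D.n + 1 - t) :=
    Nat.pow_lt_pow_right hp.out.one_lt (by omega)
  refine lt_of_lt_of_le hlt ?_
  have hpos : 0 < p ^ (D.n + 1 - t) := pow_pos hp.out.pos _
  by_cases hj : p ^ t ∣ j
  · have hi : ¬ p ^ t ∣ i := fun h => hg ⟨h, hj⟩
    apply mc_le_index _ D.b hpos
    intro c hc
    rw [Subgroup.mem_centralizer_singleton_iff] at hc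
    have h1 : D.a ^ i * D.b ^ c = D.b ^ c * D.a ^ i := by
      have h2 : D.b ^ c * D.a ^ i * D.b ^ j = D.a ^ i * D.b ^ c * D.b ^ j := by
        calc D.b ^ c * D.a ^ i * D.b ^ j = D.b ^ c * (D.a ^ i * D.b ^ j) := by group
          _ = (D.a ^ i * D.b ^ j) * D.b ^ c := hc
          _ = D.a ^ i * (D.b ^ j * D.b ^ c) := by group
          _ = D.a ^ i * (D.b ^ c * D.b ^ j) := by rw [← pow_add, ← pow_add, add_comm]
          _ = _ := by group
      exact (mul_right_cancel h2).symm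
    have h3 := (D.comm_iff hp2 i c).1 h1
    rw [mul_comm] at h3
    exact mc_dvd_of_not h3 hi ht
  · apply mc_le_index _ D.a hpos
    intro c hc
    rw [Subgroup.mem_centralizer_singleton_iff] at hc
    have h1 : D.a ^ c * D.b ^ j = D.b ^ j * D.a ^ c := by
      have h2 : D.a ^ i * (D.a ^ c * D.b ^ j) = D.a ^ i * (D.b ^ j * D.a ^ c) := by
        calc D.a ^ i * (D.a ^ c * D.b ^ j) = (D.a ^ i * D.a ^ c) * D.b ^ j := by group
          _ = (D.a ^ c * D.a ^ i) * D.b ^ j := by rw [← pow_add, ← pow_add, add_comm]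
          _ = D.a ^ c * (D.a ^ i * D.b ^ j) := by group
          _ = (D.a ^ i * D.b ^ j) * D.a ^ c := hc
          _ = _ := by group
      exact mul_left_cancel h2
    have h3 := (D.comm_iff hp2 c j).1 h1
    exact mc_dvd_of_not h3 hj ht

theorem class_iff (hp2 : p ≠ 2) {t : ℕ} (ht : t ≤ D.n) (g : G) :
    g ∈ D.Gt t ↔ (Subgroup.centralizer ({g} : Set G)).index ≤ p ^ (D.n - t) := by
  constructor
  · exact D.index_le hp2
  · intro h
    by_contra hg
    exact absurd h (not_le.2 (D.lt_index hp2 ht hg))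

end MC

theorem exists_mc {p : ℕ} [hp : Fact p.Prime] {G : Type*} [Group G] [Finite G] (hG : IsPGroup p G)
    (hmc : IsMetacyclic G) : Nonempty (MC p G) := by
  classical
  obtain ⟨N, hNn, hcyc, hq⟩ := hmc
  obtain ⟨⟨a, haN⟩, hgen⟩ := hcyc.exists_generator
  have hNa : N = Subgroup.zpowers a := by
    apply le_antisymm
    · intro x hx
      obtain ⟨k, hk⟩ := Subgroup.mem_zpowers_iff.mp (hgen ⟨x, hx⟩)
      refine Subgroup.mem_zpowers_iff.mpr ⟨k, ?_⟩
      exact congrArg Subtype.val hk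
    · exact (Subgroup.zpowers_le).mpr haN
  subst hNa
  obtain ⟨bb, hbb⟩ := hq.exists_generator
  obtain ⟨b, rfl⟩ := QuotientGroup.mk_surjective bb
  obtain ⟨m, hm⟩ := IsPGroup.iff_orderOf.1 hG a
  have hQ : IsPGroup p (G ⧸ Subgroup.zpowers a) := hG.to_quotient _
  obtain ⟨e, he⟩ := IsPGroup.iff_orderOf.1 hQ ((b : G) : G ⧸ Subgroup.zpowers a)
  have hzp : ∀ g : G, g * a * g⁻¹ ∈ Subgroup.zpowers a := fun g =>
    hNn.conj_mem a (Subgroup.mem_zpowers a) g
  have hr₀ : ∃ r₀ : ℕ, 1 ≤ r₀ ∧ p ∣ r₀ - 1 ∧ b * a * b⁻¹ = a ^ r₀ := by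
    by_cases hm0 : m = 0
    · subst hm0
      have ha1 : a = 1 := by
        rw [pow_zero] at hm
        exact orderOf_eq_one_iff.1 hm
      exact ⟨1, le_rfl, by simp, by simp [ha1]⟩
    · obtain ⟨r, hr, hr'⟩ := H03.exists_conj_eq_pow hG hzp hm0 hm b
      have hr1 : 1 ≤ r := by
        rcases Nat.eq_zero_or_pos r with h | h
        · subst h
          have h1 : (0 : ZMod p) = 1 := by simpa using hr'
          exact absurd h1.symm one_ne_zero
        · exact h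
      refine ⟨r, hr1, ?_, hr⟩
      rw [← ZMod.natCast_eq_zero_iff, Nat.cast_sub hr1, hr']
      simp
  obtain ⟨r₀, hr1, hr2, hr3⟩ := hr₀
  have hpow : a ^ p ^ (m + 1) = 1 := by
    rw [← orderOf_dvd_iff_pow_eq_one, hm]
    exact pow_dvd_pow _ (Nat.le_succ m)
  have hp1 : 1 ≤ p ^ (m + 1) := Nat.one_le_pow _ _ hp.out.pos
  refine ⟨{ a := a, b := b, r := r₀ + p ^ (m + 1), m := m, e := e, hr1 := by omega, hpr := ?_,
            hnorm := hNn, hord := hm, hconj := ?_, hgen := ?_, hbe := ?_ }⟩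
  · have h1 : r₀ + p ^ (m + 1) - 1 = (r₀ - 1) + p ^ (m + 1) := by omega
    rw [h1]
    exact dvd_add hr2 (dvd_pow_self _ (by omega))
  · rw [pow_add, hpow, mul_one, hr3]
  · intro g
    have h1 := hbb (g : G ⧸ Subgroup.zpowers a)
    rw [← mem_powers_iff_mem_zpowers] at h1
    obtain ⟨j, hj⟩ := h1
    have h2 : g * (b ^ j)⁻¹ ∈ Subgroup.zpowers a := by
      rw [← QuotientGroup.eq_one_iff, QuotientGroup.mk_mul, QuotientGroup.mk_inv,
        QuotientGroup.mk_pow]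
      have h3 : ((b : G) : G ⧸ Subgroup.zpowers a) ^ j = (g : G ⧸ Subgroup.zpowers a) := hj
      rw [h3]
      simp
    rw [← mem_powers_iff_mem_zpowers] at h2
    obtain ⟨i, hi⟩ := h2
    refine ⟨i, j, ?_⟩
    have h3 : a ^ i = g * (b ^ j)⁻¹ := hi
    rw [h3]
    group
  · intro j
    rw [← QuotientGroup.eq_one_iff, QuotientGroup.mk_pow, ← orderOf_dvd_iff_pow_eq_one, he]

end Cfsg.Agent.H18
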