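import Mathlib
import Cfsg.Agent.Lib.H18.MC
import Cfsg.Agent.Lib.H06.Nilp
import Cfsg.Agent.Lib.H18.PGroup
import Cfsg.Agent.Lib.H18.Syl
import Cfsg.Prelude.Def_Transfer

/-! The order of an extraspecial group: `|E| = p^(2m+1)`. -/

namespace Cfsg.Agent.H18

universe u

theorem prime_of_le_of_ne_one_of_dvd_pow {p k d : ℕ} (hp : p.Prime) (hd : d ∣ p ^ k) (h1 : d ≤ p)
    (h2 : d ≠ 1) : d = p := by
  obtain ⟨i, hi, rfl⟩ := (Nat.dvd_prime_pow hp).mp hd
  have hi1 : i ≤ 1 := by
    by_contra hlt
    have : p ^ 2 ≤ p ^ i := Nat.pow_le_pow_right hp.pos (by omega)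
    nlinarith [hp.two_le]
  interval_cases i
  · exact absurd (pow_zero p) h2
  · exact pow_one p

/-- A finite `p`-group with centre of order `p` and class at most two has order `p^(2m+1)`. -/
theorem card_of_center_prime {p : ℕ} [Fact p.Prime] :
    ∀ (n : ℕ) (E : Type u) [Group E] [Finite E], Nat.card E = n → IsPGroup p E →
      Nat.card (Subgroup.center E) = p → (∀ a b : E, a * b * a⁻¹ * b⁻¹ ∈ Subgroup.center E) →
      ∃ m, Nat.card E = p ^ (2 * m + 1) := by
  classical
  have hp : p.Prime := Fact.out
  intro n
  induction n using Nat.strong_induction_on with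
  | _ n ih =>
    intro E _ _ hn hE hZ hcomm
    by_cases hab : ∀ x : E, x ∈ Subgroup.center E
    · refine ⟨0, ?_⟩
      have : Subgroup.center E = ⊤ := eq_top_iff.2 (fun g _ => hab g)
      rw [this, Subgroup.card_top] at hZ
      rw [hZ]; simp
    · push Not at hab
      obtain ⟨x, hx⟩ := hab
      obtain ⟨y, hy⟩ : ∃ y, y * x ≠ x * y := by
        by_contra hcon
        push Not at hcon
        exact hx (Subgroup.mem_center_iff.mpr hcon)
      obtain ⟨k, hk⟩ := IsPGroup.iff_card.mp hE
      set C₁ := Subgroup.centralizer ({x} : Set E) with hC₁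
      set Cy := Subgroup.centralizer ({y} : Set E) with hCy
      have hi1 := mc_relIndex_centralizer_le (⊤ : Subgroup E) x (Subgroup.center E)
        (fun g _ => hcomm _ _)
      have hi2 := mc_relIndex_centralizer_le C₁ y (Subgroup.center E) (fun g _ => hcomm _ _)
      rw [Subgroup.relIndex_top_right, hZ] at hi1
      rw [hZ] at hi2
      have hyC : y ∉ C₁ := by
        intro h
        exact hy (Subgroup.mem_centralizer_singleton_iff.mp h)
      have hxC : x ∈ C₁ := by
        rw [hC₁, Subgroup.mem_centralizer_singleton_iff]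
      have hxCy : x ∉ Cy := by
        intro h
        exact hy (Subgroup.mem_centralizer_singleton_iff.mp h).symm
      have hc1 : C₁.index = p := by
        apply prime_of_le_of_ne_one_of_dvd_pow hp (k := k) (hk ▸ Subgroup.index_dvd_card C₁) hi1
        intro h
        have h' : C₁ = ⊤ := Subgroup.index_eq_one.mp h
        exact hyC (h' ▸ Subgroup.mem_top y)
      have hc2 : Cy.relIndex C₁ = p := by
        apply prime_of_le_of_ne_one_of_dvd_pow hp (k := k) _ hi2
        · intro h
          rw [Subgroup.relIndex_eq_one] at h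
          exact hxCy (h hxC)
        · have h1 : Cy.relIndex C₁ ∣ Nat.card C₁ := by
            rw [Subgroup.relIndex]
            exact Subgroup.index_dvd_card _
          exact h1.trans (hk ▸ Subgroup.card_subgroup_dvd_card C₁)
      set C₂ := Cy ⊓ C₁ with hC₂
      have hcardC₂ : Nat.card C₂ * p = Nat.card C₁ := by
        have := card_inf_mul_relIndex Cy C₁
        rwa [hc2] at this
      have hcardC₁ : Nat.card C₁ * p = Nat.card E := by
        have := Subgroup.card_mul_index C₁
        rwa [hc1] at this
      -- the centre of C₂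
      have hZC₂ : Subgroup.center E ≤ C₂ := by
        intro z hz
        refine Subgroup.mem_inf.mpr ⟨?_, ?_⟩
        · exact Subgroup.mem_centralizer_singleton_iff.mpr ((Subgroup.mem_center_iff.mp hz) y).symm
        · exact Subgroup.mem_centralizer_singleton_iff.mpr ((Subgroup.mem_center_iff.mp hz) x).symm
      have hwcen : ∀ w ∈ C₂, (∀ c ∈ C₂, c * w = w * c) → w ∈ Subgroup.center E := by
        intro w hw hwc
        set W := Subgroup.centralizer ({w} : Set E) with hW
        have hC₂W : C₂ ≤ W := by
          intro c hc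
          rw [hW, Subgroup.mem_centralizer_singleton_iff]
          exact hwc c hc
        have hxW : x ∈ W := by
          rw [hW, Subgroup.mem_centralizer_singleton_iff]
          exact (Subgroup.mem_centralizer_singleton_iff.mp hw.2).symm
        have hyW : y ∈ W := by
          rw [hW, Subgroup.mem_centralizer_singleton_iff]
          exact (Subgroup.mem_centralizer_singleton_iff.mp hw.1).symm
        have hlt : C₂ < W ⊓ C₁ := by
          refine lt_of_le_of_ne (le_inf hC₂W inf_le_right) ?_
          intro h
          have : x ∈ C₂ := by rw [h]; exact ⟨hxW, hxC⟩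
          exact hxCy this.1
        have h1 := card_mul_le_of_lt hE hlt
        have hC₁W : C₁ ≤ W := by
          have h2 : W ⊓ C₁ = C₁ := by
            apply Subgroup.eq_of_le_of_card_ge inf_le_right
            rw [← hcardC₂, mul_comm]
            exact h1
          exact inf_eq_right.mp h2
        have hlt2 : C₁ < W := lt_of_le_of_ne hC₁W (fun h => hyC (h ▸ hyW))
        have h3 := card_mul_le_of_lt hE hlt2
        have hWtop : W = ⊤ := by
          apply Subgroup.eq_of_le_of_card_ge le_top
          rw [Subgroup.card_top, ← hcardC₁, mul_comm]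
          exact h3
        rw [Subgroup.mem_center_iff]
        intro g
        have hg : g ∈ W := hWtop ▸ Subgroup.mem_top g
        exact Subgroup.mem_centralizer_singleton_iff.mp hg
      have hcenterC₂ : Subgroup.center C₂ = (Subgroup.center E).subgroupOf C₂ := by
        ext w
        rw [Subgroup.mem_subgroupOf]
        constructor
        · intro hw
          apply hwcen w w.2
          intro c hc
          have := (Subgroup.mem_center_iff.mp hw) ⟨c, hc⟩
          exact congrArg Subtype.val this
        · intro hw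
          rw [Subgroup.mem_center_iff]
          intro c
          apply Subtype.ext
          exact (Subgroup.mem_center_iff.mp hw) c
      have hZcard : Nat.card (Subgroup.center C₂) = p := by
        rw [hcenterC₂, card_subgroupOf, inf_eq_left.2 hZC₂, hZ]
      have hcommC₂ : ∀ a b : C₂, a * b * a⁻¹ * b⁻¹ ∈ Subgroup.center C₂ := by
        intro a b
        rw [hcenterC₂, Subgroup.mem_subgroupOf]
        exact hcomm _ _
      have hlt : Nat.card C₂ < n := by
        rw [← hn, ← hcardC₁, ← hcardC₂]
        have : 0 < Nat.card C₂ := Nat.card_pos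
        nlinarith [hp.two_le]
      obtain ⟨m, hm⟩ := ih _ hlt C₂ rfl (hE.to_subgroup C₂) hZcard hcommC₂
      refine ⟨m + 1, ?_⟩
      rw [← hcardC₁, ← hcardC₂, hm]
      ring

/-- An extraspecial `p`-group has order `p^(2m+1)`, `m ≥ 1`. -/
theorem extraspecial_card {p : ℕ} [Fact p.Prime] {E : Type u} [Group E] [Finite E]
    (hE : Cfsg.IsExtraspecial p E) : ∃ m, 1 ≤ m ∧ Nat.card E = p ^ (2 * m + 1) := by
  have hp : p.Prime := Fact.out
  obtain ⟨⟨hP, -, hcomm⟩, hZ⟩ := hE
  obtain ⟨m, hm⟩ := card_of_center_prime (p := p) _ E rfl hP hZ (by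
    intro a b
    rw [← hcomm]
    have := Subgroup.commutator_mem_commutator (Subgroup.mem_top a) (Subgroup.mem_top b)
    rwa [commutatorElement_def] at this)
  refine ⟨m, ?_, hm⟩
  by_contra h
  have hm0 : m = 0 := by omega
  subst hm0
  simp only [mul_zero, zero_add, pow_one] at hm
  haveI := isCyclic_of_prime_card hm
  have hab : IsMulCommutative E := IsCyclic.isMulCommutative
  have hbot : commutator E = ⊥ := by
    rw [eq_bot_iff, commutator_def, Subgroup.commutator_le]
    intro a _ b _
    rw [Subgroup.mem_bot, commutatorElement_eq_one_iff_mul_comm]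
    exact isMulCommutative_iff.mp hab a b
  rw [← hcomm, hbot, Subgroup.card_bot] at hZ
  exact hp.one_lt.ne hZ

section IndexP

variable {S : Type*} [Group S] [Finite S]

theorem normal_of_index_prime' {p : ℕ} [Fact p.Prime] (hS : IsPGroup p S) {A : Subgroup S}
    (hAi : A.index = p) : A.Normal := by
  have hp : p.Prime := Fact.out
  apply Subgroup.normal_of_index_eq_minFac_card
  rw [hAi]
  obtain ⟨k, hk⟩ := IsPGroup.iff_card.mp hS
  have hk0 : k ≠ 0 := by
    rintro rfl
    rw [pow_zero, Nat.card_eq_one_iff_unique] at hk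
    haveI := hk.1
    have : A = ⊤ := Subsingleton.elim _ _
    rw [this, Subgroup.index_top] at hAi
    exact hp.one_lt.ne hAi
  rw [hk, Nat.Prime.pow_minFac hp hk0]

theorem center_map_normal {Q : Subgroup S} (hQn : Q.Normal) :
    ((Subgroup.center Q).map Q.subtype).Normal := by
  constructor
  rintro _ ⟨z, hz, rfl⟩ g
  refine ⟨⟨g * z * g⁻¹, hQn.conj_mem _ z.2 g⟩, ?_, rfl⟩
  show _ ∈ Subgroup.center Q
  rw [Subgroup.mem_center_iff]
  intro q
  have hr : g⁻¹ * (q : S) * g ∈ Q := by
    have := hQn.conj_mem _ q.2 g⁻¹
    simpa using this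
  have h1 := congrArg Subtype.val ((Subgroup.mem_center_iff.mp hz) ⟨_, hr⟩)
  simp only [Subgroup.coe_mul] at h1
  apply Subtype.ext
  simp only [Subgroup.coe_mul]
  calc (q : S) * (g * z * g⁻¹) = g * ((g⁻¹ * (q : S) * g) * z) * g⁻¹ := by group
    _ = g * (z * (g⁻¹ * (q : S) * g)) * g⁻¹ := by rw [h1]
    _ = _ := by group

theorem center_map_le_center {p : ℕ} [Fact p.Prime] (hS : IsPGroup p S) {Q : Subgroup S}
    (hQn : Q.Normal) (hZ : Nat.card (Subgroup.center Q) = p) :
    (Subgroup.center Q).map Q.subtype ≤ Subgroup.center S := by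
  classical
  have hp : p.Prime := Fact.out
  haveI : Group.IsNilpotent S := hS.isNilpotent
  have hcard : Nat.card ((Subgroup.center Q).map Q.subtype) = p := by
    rw [Subgroup.card_map_of_injective Q.subtype_injective, hZ]
  have hne : (Subgroup.center Q).map Q.subtype ≠ ⊥ := by
    intro h
    rw [h, Subgroup.card_bot] at hcard
    exact hp.one_lt.ne hcard
  obtain ⟨y, hy, hy1, hyc⟩ := H06.exists_central_of_normal (center_map_normal hQn) hne
  have hcyc : Subgroup.zpowers y = (Subgroup.center Q).map Q.subtype := by
    apply Subgroup.eq_of_le_of_card_ge ((Subgroup.zpowers_le).2 hy)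
    rw [hcard, Nat.card_zpowers]
    have h1 : orderOf y ∣ p := by
      have h2 : orderOf (⟨y, hy⟩ : (Subgroup.center Q).map Q.subtype) ∣ p :=
        hcard ▸ orderOf_dvd_natCard _
      rwa [Subgroup.orderOf_mk] at h2
    rcases (Nat.dvd_prime hp).mp h1 with h | h
    · rw [orderOf_eq_one_iff] at h
      exact absurd h hy1
    · exact h.ge
  rw [← hcyc, Subgroup.zpowers_le]
  exact hyc

end IndexP

end Cfsg.Agent.H18
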