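import Mathlib
import Cfsg.Agent.Lib.H18.Basic
import Cfsg.Agent.Lib.H18.PGroup
import Cfsg.Agent.Lib.H18.Syl
import Cfsg.Agent.Lib.H01.Coprime
import Cfsg.Agent.Lib.H14.UniqueSub

/-! Groups in which abelian subgroups of equal order are conjugate: passing to quotients. -/

set_option autoImplicit false
set_option linter.unusedSectionVars false

namespace Cfsg.Agent.H18

open scoped commutatorElement

universe u

theorem nat_split (m : ℕ) : ∀ o : ℕ, o ≠ 0 → ∃ o₁ o₂ : ℕ, o = o₁ * o₂ ∧ o₁.Coprime m ∧ ∀ p : ℕ, p.Prime → p ∣ o₂ → p ∣ m := by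
  intro o
  induction o using Nat.recOnMul with
  | zero => exact fun h => absurd rfl h
  | one =>
    intro _
    exact ⟨1, 1, rfl, Nat.coprime_one_left m, fun p hp h => absurd (Nat.dvd_one.1 h) hp.ne_one⟩
  | prime p hp =>
    intro _
    by_cases hpm : p ∣ m
    · refine ⟨1, p, by simp, Nat.coprime_one_left m, ?_⟩
      intro q hq hqp
      rw [(Nat.prime_dvd_prime_iff_eq hq hp).1 hqp]
      exact hpm
    · refine ⟨p, 1, by simp, (Nat.Prime.coprime_iff_not_dvd hp).2 hpm, ?_⟩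
      intro q hq h
      exact absurd (Nat.dvd_one.1 h) hq.ne_one
  | mul a b ha hb =>
    intro hab
    obtain ⟨a₁, a₂, rfl, h1, h2⟩ := ha (left_ne_zero_of_mul hab)
    obtain ⟨b₁, b₂, rfl, h3, h4⟩ := hb (right_ne_zero_of_mul hab)
    refine ⟨a₁ * b₁, a₂ * b₂, by ring, Nat.Coprime.mul_left h1 h3, ?_⟩
    intro p hp h
    rcases (Nat.Prime.dvd_mul hp).1 h with h | h
    · exact h2 p hp h
    · exact h4 p hp h

/-- An abelian group whose Sylow subgroups are cyclic is cyclic. -/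
theorem isCyclic_of_comm_sylow {K : Type*} [Group K] [Finite K] (hc : ∀ x y : K, x * y = y * x)
    (h : ∀ (p : ℕ) (_ : Fact p.Prime) (P : Sylow p K), IsCyclic P) : IsCyclic K := by
  classical
  letI : CommGroup K := { (inferInstance : Group K) with mul_comm := hc }
  rw [IsCyclic.iff_exponent_eq_card]
  apply Nat.dvd_antisymm Group.exponent_dvd_nat_card
  have hne : Nat.card K ≠ 0 := Nat.card_pos.ne'
  have hexp : Monoid.exponent K ≠ 0 := by
    exact Monoid.exponent_ne_zero_of_finite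
  rw [← Nat.factorization_prime_le_iff_dvd hne hexp]
  intro p hp
  haveI : Fact p.Prime := ⟨hp⟩
  obtain ⟨P⟩ : Nonempty (Sylow p K) := inferInstance
  haveI := h p inferInstance P
  obtain ⟨y, hy⟩ := IsCyclic.exists_generator (α := P)
  have h1 : orderOf y = p ^ (Nat.card K).factorization p := by
    rw [orderOf_eq_card_of_forall_mem_zpowers hy, Sylow.card_eq_multiplicity]
  have h2 : orderOf (y : K) ∣ Monoid.exponent K := Monoid.order_dvd_exponent _
  rw [Subgroup.orderOf_coe, h1] at h2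
  exact (hp.pow_dvd_iff_le_factorization hexp).1 h2

section Split
variable {Q : Type*} [Group Q] [Finite Q]

/-- The part of an abelian subgroup with orders prime to `r`. -/
def abPart₁ (B : Subgroup Q) (hB : ∀ a ∈ B, ∀ b ∈ B, a * b = b * a) (r : ℕ) : Subgroup Q where
  carrier := {a | a ∈ B ∧ (orderOf a).Coprime r}
  one_mem' := ⟨B.one_mem, by simp⟩
  mul_mem' := by
    rintro a b ⟨ha, ha'⟩ ⟨hb, hb'⟩
    refine ⟨B.mul_mem ha hb, ?_⟩
    have h1 : orderOf (a * b) ∣ Nat.lcm (orderOf a) (orderOf b) := Commute.orderOf_mul_dvd_lcm (show Commute a b from hB a ha b hb)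
    exact Nat.Coprime.coprime_dvd_left (h1.trans (Nat.lcm_dvd_mul _ _)) (Nat.Coprime.mul_left ha' hb')
  inv_mem' := by
    rintro a ⟨ha, ha'⟩
    exact ⟨B.inv_mem ha, by rwa [orderOf_inv]⟩

/-- The part of an abelian subgroup with orders built from the primes of `r`. -/
def abPart₂ (B : Subgroup Q) (hB : ∀ a ∈ B, ∀ b ∈ B, a * b = b * a) (r : ℕ) : Subgroup Q where
  carrier := {a | a ∈ B ∧ ∀ p : ℕ, p.Prime → p ∣ orderOf a → p ∣ r}
  one_mem' := ⟨B.one_mem, fun p hp h => by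
    rw [orderOf_one] at h
    exact absurd (Nat.dvd_one.1 h) hp.ne_one⟩
  mul_mem' := by
    rintro a b ⟨ha, ha'⟩ ⟨hb, hb'⟩
    refine ⟨B.mul_mem ha hb, ?_⟩
    intro p hp hpd
    have h1 : orderOf (a * b) ∣ Nat.lcm (orderOf a) (orderOf b) := Commute.orderOf_mul_dvd_lcm (show Commute a b from hB a ha b hb)
    have h2 := hpd.trans h1
    have h3 : p ∣ orderOf a * orderOf b := h2.trans (Nat.lcm_dvd_mul _ _)
    rcases (Nat.Prime.dvd_mul hp).1 h3 with h | h
    · exact ha' p hp h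
    · exact hb' p hp h
  inv_mem' := by
    rintro a ⟨ha, ha'⟩
    exact ⟨B.inv_mem ha, by rwa [orderOf_inv]⟩

theorem abPart_inf (B : Subgroup Q) (hB : ∀ a ∈ B, ∀ b ∈ B, a * b = b * a) (r : ℕ) :
    abPart₁ B hB r ⊓ abPart₂ B hB r = ⊥ := by
  rw [eq_bot_iff]
  rintro a ⟨⟨-, h1⟩, ⟨-, h2⟩⟩
  rw [Subgroup.mem_bot]
  by_contra hne
  have h3 : orderOf a ≠ 1 := fun h => hne (orderOf_eq_one_iff.1 h)
  obtain ⟨p, hp, hpd⟩ := Nat.exists_prime_and_dvd h3
  have h4 := h2 p hp hpd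
  exact hp.one_lt.ne' (Nat.eq_one_of_dvd_coprimes h1 hpd h4)

theorem abPart_sup (B : Subgroup Q) (hB : ∀ a ∈ B, ∀ b ∈ B, a * b = b * a) (r : ℕ) :
    abPart₁ B hB r ⊔ abPart₂ B hB r = B := by
  apply le_antisymm
  · exact sup_le (fun a h => h.1) (fun a h => h.1)
  · intro a ha
    have ho : orderOf a ≠ 0 := (orderOf_pos a).ne'
    obtain ⟨o₁, o₂, ho', h1, h2⟩ := nat_split r (orderOf a) ho
    have hcop : o₁.Coprime o₂ := by
      rw [Nat.coprime_iff_gcd_eq_one] 
      by_contra hne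
      obtain ⟨p, hp, hpd⟩ := Nat.exists_prime_and_dvd hne
      have h3 := h2 p hp (hpd.trans (Nat.gcd_dvd_right _ _))
      exact hp.one_lt.ne' (Nat.eq_one_of_dvd_coprimes h1 (hpd.trans (Nat.gcd_dvd_left _ _)) h3)
    let u := Nat.chineseRemainder hcop 1 0
    let v := Nat.chineseRemainder hcop 0 1
    have hu1 : (u : ℕ) ≡ 1 [MOD o₁] := u.2.1
    have hu2 : (u : ℕ) ≡ 0 [MOD o₂] := u.2.2
    have hv1 : (v : ℕ) ≡ 0 [MOD o₁] := v.2.1
    have hv2 : (v : ℕ) ≡ 1 [MOD o₂] := v.2.2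
    have hsum : (u : ℕ) + v ≡ 1 [MOD orderOf a] := by
      rw [ho']
      apply (Nat.modEq_and_modEq_iff_modEq_mul hcop).1
      constructor
      · simpa using hu1.add hv1
      · simpa using hu2.add hv2
    have hmem : a ^ (u : ℕ) * a ^ (v : ℕ) = a := by
      rw [← pow_add, pow_eq_pow_iff_modEq.2 hsum, pow_one]
    rw [← hmem]
    apply Subgroup.mul_mem_sup
    · refine ⟨B.pow_mem ha _, ?_⟩
      have h3 : orderOf (a ^ (u : ℕ)) ∣ o₁ := by
        apply orderOf_dvd_of_pow_eq_one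
        rw [← pow_mul, ← orderOf_dvd_iff_pow_eq_one, ho']
        have h4 : o₂ ∣ (u : ℕ) := (Nat.modEq_zero_iff_dvd).1 hu2
        rw [mul_comm o₁ o₂]
        exact Nat.mul_dvd_mul h4 dvd_rfl
      exact Nat.Coprime.coprime_dvd_left h3 h1
    · refine ⟨B.pow_mem ha _, ?_⟩
      have h3 : orderOf (a ^ (v : ℕ)) ∣ o₂ := by
        apply orderOf_dvd_of_pow_eq_one
        rw [← pow_mul, ← orderOf_dvd_iff_pow_eq_one, ho']
        have h4 : o₁ ∣ (v : ℕ) := (Nat.modEq_zero_iff_dvd).1 hv1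
        rw [mul_comm o₁ o₂]
        exact Nat.mul_dvd_mul dvd_rfl h4 |> fun h => by simpa [mul_comm] using h
      intro p hp hpd
      exact h2 p hp (hpd.trans h3)

end Split

section Lift
variable {G : Type*} [Group G] [Finite G] (M : Subgroup G) [M.Normal]

/-- The lifting condition on `p`-elements outside `M`. -/
def LiftCond : Prop :=
  ∀ p : ℕ, p.Prime → ∀ u : G, (∃ k, orderOf u = p ^ k) → u ∉ M → ∀ k, p ^ k ∣ Nat.card M →
    p ^ k ∣ Nat.card (Subgroup.zpowers u ⊓ M : Subgroup G)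

theorem card_comap_mk (H : Subgroup (G ⧸ M)) :
    Nat.card (H.comap (QuotientGroup.mk' M)) = Nat.card H * Nat.card M := by
  have h1 := Subgroup.card_mul_index (H.comap (QuotientGroup.mk' M))
  have h2 := Subgroup.card_mul_index H
  have h3 := Subgroup.index_comap_of_surjective H (QuotientGroup.mk'_surjective M)
  have h4 := Subgroup.card_eq_card_quotient_mul_card_subgroup M
  rw [h3] at h1
  have h5 : 0 < H.index := Nat.pos_of_ne_zero Subgroup.index_ne_zero_of_finite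
  apply Nat.eq_of_mul_eq_mul_right h5
  rw [h1, h4, ← h2]
  ring

theorem lift_abelian (hC : LiftCond M) (B : Subgroup (G ⧸ M)) (hB : ∀ a ∈ B, ∀ b ∈ B, a * b = b * a)
    (hcyc : IsCyclic (abPart₂ B hB (Nat.card M))) :
    ∃ A : Subgroup G, (∀ a ∈ A, ∀ b ∈ A, a * b = b * a) ∧ A.map (QuotientGroup.mk' M) = B ∧
      (∀ p : ℕ, p.Prime → p ∣ Nat.card (A ⊓ M : Subgroup G) → p ∣ Nat.card B) ∧
      (∀ p : ℕ, p.Prime → p ∣ Nat.card B → ∀ k, p ^ k ∣ Nat.card M → p ^ k ∣ Nat.card (A ⊓ M : Subgroup G)) := by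
  classical
  set π := QuotientGroup.mk' M with hπ
  have hπs : Function.Surjective π := QuotientGroup.mk'_surjective M
  have hπk : ∀ x : G, π x = 1 ↔ x ∈ M := fun x => QuotientGroup.eq_one_iff x
  set K₁ := abPart₁ B hB (Nat.card M) with hK₁
  set K₂ := abPart₂ B hB (Nat.card M) with hK₂
  have hK₁B : K₁ ≤ B := fun a h => h.1
  have hK₂B : K₂ ≤ B := fun a h => h.1
  have hinf : K₁ ⊓ K₂ = ⊥ := abPart_inf B hB _
  have hsup : K₁ ⊔ K₂ = B := abPart_sup B hB _
  have hcK₁ : (Nat.card K₁).Coprime (Nat.card M) := by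
    apply Nat.coprime_of_dvd
    intro q hq h1 h2
    haveI : Fact q.Prime := ⟨hq⟩
    obtain ⟨a, ha⟩ := exists_prime_orderOf_dvd_card' q h1
    have h3 : Nat.Coprime (orderOf (a : G ⧸ M)) (Nat.card M) := a.2.2
    rw [Subgroup.orderOf_coe, ha] at h3
    exact hq.one_lt.ne' (Nat.eq_one_of_dvd_coprimes h3 dvd_rfl h2)
  have hpK₂ : ∀ q : ℕ, q.Prime → q ∣ Nat.card K₂ → q ∣ Nat.card M := by
    intro q hq h1
    haveI : Fact q.Prime := ⟨hq⟩
    obtain ⟨a, ha⟩ := exists_prime_orderOf_dvd_card' q h1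
    have h3 := a.2.2 q hq
    apply h3
    rw [Subgroup.orderOf_coe, ha]
  -- complement
  set L₁ := K₁.comap π with hL₁
  have hML₁ : M ≤ L₁ := by
    intro m hm
    show π m ∈ K₁
    rw [(hπk m).2 hm]
    exact K₁.one_mem
  have hcL₁ : Nat.card L₁ = Nat.card K₁ * Nat.card M := card_comap_mk M K₁
  let N₀ : Subgroup L₁ := M.subgroupOf L₁
  have hcN₀ : Nat.card N₀ = Nat.card M := Nat.card_congr (Subgroup.subgroupOfEquivOfLe hML₁).toEquiv
  have hiN₀ : N₀.index = Nat.card K₁ := by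
    have h1 := Subgroup.card_mul_index N₀
    rw [hcN₀, hcL₁, mul_comm] at h1
    exact Nat.eq_of_mul_eq_mul_right Nat.card_pos h1
  obtain ⟨H, hH⟩ := Subgroup.exists_right_complement'_of_coprime (N := N₀) (by
    rw [hcN₀, hiN₀]
    exact hcK₁.symm)
  set A₁ := H.map L₁.subtype with hA₁
  have hA₁L : A₁ ≤ L₁ := by
    rintro _ ⟨h, -, rfl⟩
    exact h.2
  have hA₁M : A₁ ⊓ M = ⊥ := by
    rw [eq_bot_iff]
    rintro _ ⟨⟨h, hh, rfl⟩, hm⟩
    have h1 : h ∈ N₀ := hm
    have h2 := Subgroup.disjoint_def.1 hH.disjoint h1 hh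
    rw [h2]
    exact Subgroup.one_mem _
  have hA₁img : A₁.map π = K₁ := by
    apply le_antisymm
    · rintro _ ⟨a, ha, rfl⟩
      exact hA₁L ha
    · intro y hy
      obtain ⟨l, rfl⟩ := hπs y
      have hl : (⟨l, hy⟩ : L₁) ∈ N₀ ⊔ H := by
        rw [hH.sup_eq_top]
        exact Subgroup.mem_top _
      obtain ⟨n, hn, h, hh, hnh⟩ := mem_sup_normal_left.1 hl
      refine ⟨h, ⟨h, hh, rfl⟩, ?_⟩
      have h1 : π (n : G) = 1 := (hπk _).2 hn
      have h2 : (n : G) * h = l := congrArg Subtype.val hnh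
      rw [← h2, map_mul, h1, one_mul]
  have hcA₁ : Nat.card A₁ = Nat.card K₁ := by
    have h1 : Nat.card A₁ = Nat.card H :=
      (Nat.card_congr (H.equivMapOfInjective _ L₁.subtype_injective).toEquiv).symm
    have h2 := hH.card_mul_card
    rw [hcN₀, hcL₁, mul_comm] at h2
    rw [h1]
    exact Nat.eq_of_mul_eq_mul_right Nat.card_pos h2
  have hA₁ab : ∀ a ∈ A₁, ∀ b ∈ A₁, a * b = b * a := by
    intro a ha b hb
    have h1 : ⁅a, b⁆ ∈ A₁ := by
      rw [commutatorElement_def]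
      exact A₁.mul_mem (A₁.mul_mem (A₁.mul_mem ha hb) (A₁.inv_mem ha)) (A₁.inv_mem hb)
    have h2 : ⁅a, b⁆ ∈ M := by
      rw [← hπk, commutatorElement_def]
      simp only [map_mul, map_inv]
      have h3 := hB _ (hK₁B (hA₁L ha)) _ (hK₁B (hA₁L hb))
      rw [h3]
      group
    have h3 : ⁅a, b⁆ ∈ A₁ ⊓ M := ⟨h1, h2⟩
    rw [hA₁M, Subgroup.mem_bot] at h3
    exact commutatorElement_eq_one_iff_mul_comm.1 h3
  -- the lift of the generator
  set K := K₂.comap π with hK
  have hMK : M ≤ K := by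
    intro m hm
    show π m ∈ K₂
    rw [(hπk m).2 hm]
    exact K₂.one_mem
  have hcK : Nat.card K = Nat.card K₂ * Nat.card M := card_comap_mk M K₂
  have hcop : (Nat.card A₁).Coprime (Nat.card K) := by
    rw [hcA₁, hcK]
    apply Nat.Coprime.mul_right _ hcK₁
    apply Nat.coprime_of_dvd
    intro q hq h1 h2
    have h3 := hpK₂ q hq h2
    exact hq.one_lt.ne' (Nat.eq_one_of_dvd_coprimes hcK₁ h1 h3)
  obtain ⟨⟨xb, hxb⟩, hgen⟩ := hcyc.exists_generator
  obtain ⟨x₀, hx₀⟩ := hπs xb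
  have hAN : A₁ ≤ Subgroup.normalizer (M : Set G) := by
    rw [Subgroup.normalizer_eq_top_iff.2 inferInstance]
    exact le_top
  have hcomm : ∀ a ∈ A₁, ∀ y : G, π y ∈ B → π a * π y = π y * π a := by
    intro a ha y hy
    exact hB _ (hK₁B (hA₁L ha)) _ hy
  have hAK : A₁ ≤ Subgroup.normalizer (K : Set G) := by
    intro a ha
    rw [Subgroup.mem_normalizer_iff]
    intro y
    constructor
    · intro hy
      show π (a * y * a⁻¹) ∈ K₂
      have h1 := hcomm a ha y (hK₂B hy)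
      rw [map_mul, map_mul, map_inv, h1, mul_assoc, mul_inv_cancel, mul_one]
      exact hy
    · intro hy
      have hy' : π (a * y * a⁻¹) ∈ K₂ := hy
      have h1 : π (a * y * a⁻¹) = π y := by
        have h2 : π y ∈ B := by
          have h3 : π y = π a⁻¹ * π (a * y * a⁻¹) * π a := by
            simp only [map_mul, map_inv]
            group
          rw [h3]
          have h4 : π a ∈ B := hK₁B (hA₁L ha)
          exact B.mul_mem (B.mul_mem (by rw [map_inv]; exact B.inv_mem h4) (hK₂B hy')) h4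
        rw [map_mul, map_mul, map_inv, hcomm a ha y h2, mul_assoc, mul_inv_cancel, mul_one]
      show π y ∈ K₂
      rw [← h1]
      exact hy'
  have hsolv : Group.IsSolvable A₁ := by
    apply Group.isSolvable_of_comm
    intro a b
    exact Subtype.ext (hA₁ab _ a.2 _ b.2)
  obtain ⟨n, hn, hnk⟩ := H01.key_lemma hMK hAN hAK hcop (Or.inl hsolv) (k := x₀) (by
    show π x₀ ∈ K₂
    rw [hx₀]
    exact hxb) (by
    intro a ha
    rw [← hπk]
    simp only [map_mul, map_inv]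
    rw [hx₀]
    have h1 : π a * xb = xb * π a := hB _ (hK₁B (hA₁L ha)) _ (hK₂B hxb)
    rw [← h1]
    group)
  set x := n * x₀ with hx
  have hπx : π x = xb := by
    rw [hx, map_mul, (hπk n).2 hn, one_mul, hx₀]
  have hxC : x ∈ Subgroup.centralizer (A₁ : Set G) := hnk.2
  -- the part of `x` for the primes of `xb`
  have ho : orderOf x ≠ 0 := (orderOf_pos x).ne'
  obtain ⟨o₁, o₂, hoo, h1, h2⟩ := nat_split (orderOf xb) (orderOf x) ho
  let r := Nat.chineseRemainder h1 0 1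
  have hr1 : (r : ℕ) ≡ 0 [MOD o₁] := r.2.1
  have hr2 : (r : ℕ) ≡ 1 [MOD orderOf xb] := r.2.2
  set x' := x ^ (r : ℕ) with hx'
  have hπx' : π x' = xb := by
    rw [hx', map_pow, hπx, pow_eq_pow_iff_modEq.2 hr2, pow_one]
  have ho' : orderOf x' ∣ o₂ := by
    apply orderOf_dvd_of_pow_eq_one
    rw [hx', ← pow_mul, ← orderOf_dvd_iff_pow_eq_one, hoo]
    have h4 : o₁ ∣ (r : ℕ) := (Nat.modEq_zero_iff_dvd).1 hr1
    rw [mul_comm (r : ℕ) o₂, mul_comm o₁ o₂]
    exact Nat.mul_dvd_mul dvd_rfl h4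
  have hzc : ∀ z ∈ Subgroup.zpowers x', ∀ a ∈ A₁, z * a = a * z := by
    rintro _ ⟨k, rfl⟩ a ha
    have h3 : Commute x a := (Subgroup.mem_centralizer_iff.1 hxC a ha).symm
    have h4 : Commute x' a := h3.pow_left _
    exact (h4.zpow_left k)
  have hZn : Subgroup.zpowers x' ≤ Subgroup.normalizer (A₁ : Set G) := by
    intro z hz
    rw [Subgroup.mem_normalizer_iff]
    intro y
    constructor
    · intro hy
      have h3 : z * y * z⁻¹ = y := by
        rw [hzc z hz y hy, mul_assoc, mul_inv_cancel, mul_one]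
      rw [h3]
      exact hy
    · intro hy
      have h3 := hzc z hz _ hy
      have h4 : y = z⁻¹ * (z * y * z⁻¹) * z := by group
      rw [h4, mul_assoc, ← h3, ← mul_assoc, inv_mul_cancel, one_mul]
      exact hy
  set A := A₁ ⊔ Subgroup.zpowers x' with hA
  have hZA : Subgroup.zpowers x' ≤ A := le_sup_right
  have hxA : x' ∈ A := hZA (Subgroup.mem_zpowers _)
  have hab1 : ∀ a ∈ A₁, ∀ v ∈ A, a * v = v * a := by
    intro a ha v hv
    have h3 : A ≤ Subgroup.centralizer ({a} : Set G) := by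
      apply sup_le
      · intro y hy
        rw [Subgroup.mem_centralizer_iff]
        intro w hw
        rw [Set.mem_singleton_iff.1 hw]
        exact hA₁ab _ ha _ hy
      · intro y hy
        rw [Subgroup.mem_centralizer_iff]
        intro w hw
        rw [Set.mem_singleton_iff.1 hw]
        exact (hzc y hy _ ha).symm
    have h4 := h3 hv
    rw [Subgroup.mem_centralizer_iff] at h4
    exact h4 a rfl
  have hab2 : ∀ a ∈ Subgroup.zpowers x', ∀ v ∈ A, a * v = v * a := by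
    intro a ha v hv
    have h3 : A ≤ Subgroup.centralizer ({a} : Set G) := by
      apply sup_le
      · intro y hy
        rw [Subgroup.mem_centralizer_iff]
        intro w hw
        rw [Set.mem_singleton_iff.1 hw]
        exact hzc a ha _ hy
      · intro y hy
        rw [Subgroup.mem_centralizer_iff]
        intro w hw
        rw [Set.mem_singleton_iff.1 hw]
        obtain ⟨k, rfl⟩ := ha
        obtain ⟨l, rfl⟩ := hy
        rw [← zpow_add, ← zpow_add, add_comm]
    have h4 := h3 hv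
    rw [Subgroup.mem_centralizer_iff] at h4
    exact h4 a rfl
  have habA : ∀ a ∈ A, ∀ b ∈ A, a * b = b * a := by
    intro a ha b hb
    have h3 : A ≤ Subgroup.centralizer ({b} : Set G) := by
      apply sup_le
      · intro y hy
        rw [Subgroup.mem_centralizer_iff]
        intro w hw
        rw [Set.mem_singleton_iff.1 hw]
        exact (hab1 y hy _ hb).symm
      · intro y hy
        rw [Subgroup.mem_centralizer_iff]
        intro w hw
        rw [Set.mem_singleton_iff.1 hw]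
        exact (hab2 y hy _ hb).symm
    have h4 := h3 ha
    rw [Subgroup.mem_centralizer_iff] at h4
    exact (h4 b rfl).symm
  have hzK₂ : Subgroup.zpowers xb = K₂ := by
    apply le_antisymm
    · rw [Subgroup.zpowers_le]
      exact hxb
    · intro y hy
      obtain ⟨k, hk⟩ := hgen ⟨y, hy⟩
      refine ⟨k, ?_⟩
      have := congrArg Subtype.val hk
      simpa using this
  have himg : A.map π = B := by
    rw [hA, Subgroup.map_sup, hA₁img, MonoidHom.map_zpowers, hπx', hzK₂]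
    exact hsup
  refine ⟨A, habA, himg, ?_, ?_⟩
  · intro q hq hqd
    haveI : Fact q.Prime := ⟨hq⟩
    obtain ⟨w, hw⟩ := exists_prime_orderOf_dvd_card' q hqd
    have hwA : (w : G) ∈ A₁ ⊔ Subgroup.zpowers x' := w.2.1
    have hwM : (w : G) ∈ M := w.2.2
    obtain ⟨z, hz, a₁, ha₁, hwe⟩ := H01.exists_mul_of_mem_sup (N := Subgroup.zpowers x') (A := A₁) (by
      intro a ha
      rw [Subgroup.mem_normalizer_iff]
      intro y
      constructor
      · intro hy
        have h3 : a * y * a⁻¹ = y := by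
          rw [← hzc y hy a ha, mul_assoc, mul_inv_cancel, mul_one]
        rw [h3]
        exact hy
      · intro hy
        have h3 := hzc _ hy a ha
        have h4 : y = a⁻¹ * (a * y * a⁻¹) * a := by group
        rw [h4, mul_assoc, h3, ← mul_assoc, inv_mul_cancel, one_mul]
        exact hy) (by rw [sup_comm]; exact hwA)
    have h3 : π (w : G) = 1 := (hπk _).2 hwM
    rw [hwe, map_mul] at h3
    have h4 : π a₁ ∈ K₁ := hA₁L ha₁
    have h5 : π z ∈ K₂ := by
      rw [← hzK₂, ← hπx', ← MonoidHom.map_zpowers]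
      exact ⟨z, hz, rfl⟩
    have h6 : π a₁ = (π z)⁻¹ := (eq_inv_of_mul_eq_one_right h3)
    have h7 : π a₁ ∈ K₁ ⊓ K₂ := ⟨h4, by rw [h6]; exact K₂.inv_mem h5⟩
    rw [hinf, Subgroup.mem_bot] at h7
    have h8 : a₁ ∈ A₁ ⊓ M := ⟨ha₁, (hπk _).1 h7⟩
    rw [hA₁M, Subgroup.mem_bot] at h8
    have h9 : (w : G) = z := by rw [hwe, h8, mul_one]
    have h10 : q ∣ orderOf x' := by
      rw [← hw, ← Subgroup.orderOf_coe, h9]
      exact orderOf_dvd_of_mem_zpowers hz
    have h11 := h2 q hq (h10.trans ho')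
    exact h11.trans (Subgroup.orderOf_dvd_natCard B (hK₂B hxb))
  · intro p hp hpd k hk
    rcases k with _ | k
    · simp
    have hpM : p ∣ Nat.card M := (dvd_pow_self p (Nat.succ_ne_zero k)).trans hk
    haveI : Fact p.Prime := ⟨hp⟩
    obtain ⟨a, ha⟩ := exists_prime_orderOf_dvd_card' p hpd
    have haK₂ : (a : G ⧸ M) ∈ K₂ := by
      refine ⟨a.2, ?_⟩
      intro q hq hqd
      rw [Subgroup.orderOf_coe, ha] at hqd
      rw [(Nat.prime_dvd_prime_iff_eq hq hp).1 hqd]
      exact hpM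
    have hpm : p ∣ orderOf xb := by
      rw [← hzK₂] at haK₂
      have h3 := orderOf_dvd_of_mem_zpowers haK₂
      rw [Subgroup.orderOf_coe, ha] at h3
      exact h3
    have hmo : orderOf xb ∣ orderOf x' := by
      rw [← hπx']
      exact orderOf_map_dvd π x'
    have ho'0 : orderOf x' ≠ 0 := (orderOf_pos x').ne'
    set v := (orderOf x').factorization p with hv
    have hdvd : p ^ v ∣ orderOf x' := Nat.ordProj_dvd _ _
    set u := x' ^ (orderOf x' / p ^ v) with hu
    have hou : orderOf u = p ^ v := orderOf_pow_orderOf_div ho'0 hdvd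
    have huM : u ∉ M := by
      intro hum
      have h3 : π u = 1 := (hπk _).2 hum
      rw [hu, map_pow, hπx'] at h3
      have h4 := orderOf_dvd_of_pow_eq_one h3
      exact Nat.not_dvd_ordCompl hp ho'0 (hpm.trans h4)
    have h3 := hC p hp u ⟨v, hou⟩ huM _ hk
    have h4 : Subgroup.zpowers u ⊓ M ≤ A ⊓ M := by
      apply inf_le_inf_right
      rw [Subgroup.zpowers_le, hu]
      exact A.pow_mem hxA _
    exact h3.trans (Subgroup.card_dvd_of_le h4)

/-- Two subgroups with good lifts are conjugate. -/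
theorem conj_of_lifts (hB : ∀ A B : Subgroup G, IsMulCommutative ↥A → IsMulCommutative ↥B → Nat.card ↥A = Nat.card ↥B →
      ∃ g : G, B = A.map (MulAut.conj g).toMonoidHom) (A₁ A₂ : Subgroup G)
    (hab₁ : ∀ a ∈ A₁, ∀ b ∈ A₁, a * b = b * a) (hab₂ : ∀ a ∈ A₂, ∀ b ∈ A₂, a * b = b * a)
    (B₁ B₂ : Subgroup (G ⧸ M)) (hcard : Nat.card B₁ = Nat.card B₂)
    (him₁ : A₁.map (QuotientGroup.mk' M) = B₁) (him₂ : A₂.map (QuotientGroup.mk' M) = B₂)
    (h1₁ : ∀ p : ℕ, p.Prime → p ∣ Nat.card (A₁ ⊓ M : Subgroup G) → p ∣ Nat.card B₁)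
    (h1₂ : ∀ p : ℕ, p.Prime → p ∣ Nat.card (A₂ ⊓ M : Subgroup G) → p ∣ Nat.card B₂)
    (h2₁ : ∀ p : ℕ, p.Prime → p ∣ Nat.card B₁ → ∀ k, p ^ k ∣ Nat.card M → p ^ k ∣ Nat.card (A₁ ⊓ M : Subgroup G))
    (h2₂ : ∀ p : ℕ, p.Prime → p ∣ Nat.card B₂ → ∀ k, p ^ k ∣ Nat.card M → p ^ k ∣ Nat.card (A₂ ⊓ M : Subgroup G)) :
    ∃ g : G, A₂ = A₁.map (MulAut.conj g).toMonoidHom := by
  have key : ∀ (C₁ C₂ : Subgroup G) (D₁ D₂ : Subgroup (G ⧸ M)), Nat.card D₁ = Nat.card D₂ →
      (∀ p : ℕ, p.Prime → p ∣ Nat.card (C₁ ⊓ M : Subgroup G) → p ∣ Nat.card D₁) →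
      (∀ p : ℕ, p.Prime → p ∣ Nat.card D₂ → ∀ k, p ^ k ∣ Nat.card M → p ^ k ∣ Nat.card (C₂ ⊓ M : Subgroup G)) →
      Nat.card (C₁ ⊓ M : Subgroup G) ∣ Nat.card (C₂ ⊓ M : Subgroup G) := by
    intro C₁ C₂ D₁ D₂ hD h1 h2
    rw [← Nat.factorization_prime_le_iff_dvd Nat.card_pos.ne' Nat.card_pos.ne']
    intro p hp
    by_cases hd : p ∣ Nat.card (C₁ ⊓ M : Subgroup G)
    · have h3 := h1 p hp hd
      rw [hD] at h3
      have h4 : p ^ (Nat.card (C₁ ⊓ M : Subgroup G)).factorization p ∣ Nat.card (C₁ ⊓ M : Subgroup G) :=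
        Nat.ordProj_dvd _ _
      have h5 : Nat.card (C₁ ⊓ M : Subgroup G) ∣ Nat.card M := Subgroup.card_dvd_of_le inf_le_right
      have h6 := h2 p hp h3 _ (h4.trans h5)
      exact (hp.pow_dvd_iff_le_factorization Nat.card_pos.ne').1 h6
    · rw [Nat.factorization_eq_zero_of_not_dvd hd]
      exact Nat.zero_le _
  have hW : Nat.card (A₁ ⊓ M : Subgroup G) = Nat.card (A₂ ⊓ M : Subgroup G) :=
    Nat.dvd_antisymm (key _ _ _ _ hcard h1₁ h2₂) (key _ _ _ _ hcard.symm h1₂ h2₁)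
  have hcardA : ∀ (C : Subgroup G), Nat.card C = Nat.card (C.map (QuotientGroup.mk' M)) * Nat.card (C ⊓ M : Subgroup G) := by
    intro C
    let f : C →* G ⧸ M := (QuotientGroup.mk' M).comp C.subtype
    have h1 := Subgroup.card_mul_index f.ker
    rw [Subgroup.index_ker] at h1
    have h2 : f.range = C.map (QuotientGroup.mk' M) := by
      rw [MonoidHom.range_comp, Subgroup.range_subtype]
    have h3 : Nat.card f.ker = Nat.card (C ⊓ M : Subgroup G) := by
      have h4 : f.ker = M.subgroupOf C := by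
        ext x
        rw [MonoidHom.mem_ker, Subgroup.mem_subgroupOf]
        exact QuotientGroup.eq_one_iff _
      rw [h4, card_subgroupOf, inf_comm]
    rw [h2, h3] at h1
    rw [← h1, mul_comm]
  have hcA : Nat.card A₁ = Nat.card A₂ := by
    rw [hcardA A₁, hcardA A₂, him₁, him₂, hcard, hW]
  exact hB A₁ A₂ ⟨⟨fun a b => Subtype.ext (hab₁ _ a.2 _ b.2)⟩⟩ ⟨⟨fun a b => Subtype.ext (hab₂ _ a.2 _ b.2)⟩⟩ hcA

end Lift

end Cfsg.Agent.H18
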