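import Mathlib
import Cfsg.Agent.Lib.H18.AbConj
import Cfsg.Agent.S3908
import Cfsg.Agent.S3909
import Cfsg.Agent.Lib.H06.Basic

/-! Groups in which abelian subgroups of equal order are conjugate: quotients. -/

set_option autoImplicit false
set_option linter.unusedSectionVars false

namespace Cfsg.Agent.H18

universe u

/-- Abelian subgroups of equal order are conjugate. -/
def HProp (G : Type*) [Group G] : Prop :=
  ∀ A B : Subgroup G, IsMulCommutative ↥A → IsMulCommutative ↥B → Nat.card ↥A = Nat.card ↥B →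
    ∃ g : G, B = A.map (MulAut.conj g).toMonoidHom

section
variable {G : Type*} [Group G] [Finite G]

theorem dvd_card_sylow_inf {p : ℕ} [Fact p.Prime] (P : Sylow p G) (M : Subgroup G) [M.Normal]
    (k : ℕ) (hk : p ^ k ∣ Nat.card M) : p ^ k ∣ Nat.card ((P : Subgroup G) ⊓ M : Subgroup G) := by
  have hp : p.Prime := Fact.out
  have h1 := card_inf_mul_relIndex (P : Subgroup G) M
  have h2 := relIndex_dvd_index_of_normal_right (P : Subgroup G) M
  have h3 : ¬ p ∣ (P : Subgroup G).relIndex M := fun h => P.not_dvd_index (h.trans h2)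
  rw [← h1] at hk
  exact ((hp.coprime_pow_of_not_dvd h3).symm.dvd_of_dvd_mul_right hk)

theorem cyclic_sub_le_of_card_dvd {C A B : Subgroup G} (hC : IsCyclic C) (hA : A ≤ C) (hB : B ≤ C)
    (h : Nat.card A ∣ Nat.card B) : A ≤ B := by
  haveI : IsCyclic B := by
    have : IsCyclic (B.subgroupOf C) := inferInstance
    exact isCyclic_of_surjective (Subgroup.subgroupOfEquivOfLe hB).toMonoidHom
      (Subgroup.subgroupOfEquivOfLe hB).surjective
  obtain ⟨⟨b, hb⟩, hgen⟩ := IsCyclic.exists_generator (α := B)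
  have hob : orderOf b = Nat.card B := by
    rw [← orderOf_eq_card_of_forall_mem_zpowers hgen, Subgroup.orderOf_mk]
  have h0 : orderOf b ≠ 0 := (orderOf_pos b).ne'
  have h2 := orderOf_pow_orderOf_div h0 (show Nat.card A ∣ orderOf b by rw [hob]; exact h)
  have h3 : Subgroup.zpowers (b ^ (orderOf b / Nat.card A)) ≤ B := by
    rw [Subgroup.zpowers_le]
    exact B.pow_mem hb _
  have h4 : A = Subgroup.zpowers (b ^ (orderOf b / Nat.card A)) :=
    H06.eq_of_card_eq_of_le_cyclic hC hA (h3.trans hB) (by rw [Nat.card_zpowers, h2])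
  rw [h4]
  exact h3

theorem le_of_exp (hH : HProp G) (M : Subgroup G) [M.Normal] (p : ℕ) [Fact p.Prime] (hpM : p ∣ Nat.card M)
    (P : Subgroup G) (he : ∀ x ∈ P, x ^ p = 1) : P ≤ M := by
  obtain ⟨m, hm⟩ := exists_prime_orderOf_dvd_card' p hpM
  intro x hx
  by_cases hx1 : x = 1
  · rw [hx1]
    exact M.one_mem
  have ho : orderOf x = p := orderOf_eq_prime (he x hx) hx1
  exact (Cfsg.Agent.S3909.result hH M).1 x ⟨m, m.2, by rw [ho, ← hm, Subgroup.orderOf_coe]⟩

theorem liftCond_prime (M : Subgroup G) [M.Normal] (p : ℕ) [Fact p.Prime]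
    (hp' : ∀ P : Sylow p G, IsCyclic (P : Subgroup G) ∨ (P : Subgroup G) ≤ M)
    (u : G) (hu : ∃ k, orderOf u = p ^ k) (huM : u ∉ M) (k : ℕ) (hk : p ^ k ∣ Nat.card M) :
    p ^ k ∣ Nat.card (Subgroup.zpowers u ⊓ M : Subgroup G) := by
  have hp : p.Prime := Fact.out
  have hzp : IsPGroup p (Subgroup.zpowers u) := by
    obtain ⟨b, hb⟩ := hu
    apply IsPGroup.of_card (n := b)
    rw [Nat.card_zpowers, hb]
  obtain ⟨P, hP⟩ := hzp.exists_le_sylow
  have huP : u ∈ (P : Subgroup G) := hP (Subgroup.mem_zpowers u)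
  have h1 := dvd_card_sylow_inf P M _ hk
  rcases hp' P with hc | he
  · -- cyclic
    have hPMp : IsPGroup p ((P : Subgroup G) ⊓ M : Subgroup G) :=
      P.2.to_le inf_le_left
    obtain ⟨a, ha⟩ := IsPGroup.iff_card.1 hPMp
    obtain ⟨b, hb⟩ := hu
    rcases le_total a b with hab | hab
    · have h2 : (P : Subgroup G) ⊓ M ≤ Subgroup.zpowers u :=
        cyclic_sub_le_of_card_dvd hc inf_le_left hP (by
          rw [ha, Nat.card_zpowers, hb]
          exact Nat.pow_dvd_pow p hab)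
      have h3 : (P : Subgroup G) ⊓ M ≤ Subgroup.zpowers u ⊓ M := le_inf h2 inf_le_right
      exact h1.trans (Subgroup.card_dvd_of_le h3)
    · have h2 : Subgroup.zpowers u ≤ (P : Subgroup G) ⊓ M :=
        cyclic_sub_le_of_card_dvd hc hP inf_le_left (by
          rw [ha, Nat.card_zpowers, hb]
          exact Nat.pow_dvd_pow p hab)
      exact absurd (h2 (Subgroup.mem_zpowers u)).2 huM
  · exact absurd (he huP) huM

theorem sylow_image_cyclic (M : Subgroup G) [M.Normal] (p : ℕ) [Fact p.Prime]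
    (hp' : ∀ P : Sylow p G, IsCyclic (P : Subgroup G) ∨ (P : Subgroup G) ≤ M)
    (T : Subgroup (G ⧸ M)) (hT : IsPGroup p T) : IsCyclic T := by
  have hp : p.Prime := Fact.out
  obtain ⟨S', hS'⟩ := hT.exists_le_sylow
  obtain ⟨P, hP⟩ := Sylow.mapSurjective_surjective (QuotientGroup.mk'_surjective M) p S'
  have hPS : (S' : Subgroup (G ⧸ M)) = (P : Subgroup G).map (QuotientGroup.mk' M) := by
    rw [← hP]
    rfl
  rcases hp' P with hc | hPM
  · have h1 : IsCyclic ((P : Subgroup G).map (QuotientGroup.mk' M)) := by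
      haveI := hc
      exact isCyclic_of_surjective ((QuotientGroup.mk' M).subgroupMap (P : Subgroup G))
        (MonoidHom.subgroupMap_surjective _ _)
    have h2 : T ≤ (P : Subgroup G).map (QuotientGroup.mk' M) := hPS ▸ hS'
    haveI := h1
    have : IsCyclic (T.subgroupOf ((P : Subgroup G).map (QuotientGroup.mk' M))) := inferInstance
    exact isCyclic_of_surjective (Subgroup.subgroupOfEquivOfLe h2).toMonoidHom
      (Subgroup.subgroupOfEquivOfLe h2).surjective
  · have h1 : (P : Subgroup G).map (QuotientGroup.mk' M) = ⊥ := by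
      rw [Subgroup.map_eq_bot_iff, QuotientGroup.ker_mk']
      exact hPM
    have h2 : T = ⊥ := by
      rw [eq_bot_iff, ← h1, ← hPS]
      exact hS'
    rw [h2]
    exact isCyclic_of_subsingleton

theorem abPart_cyclic_of (M : Subgroup G) [M.Normal] (B : Subgroup (G ⧸ M))
    (hB : ∀ a ∈ B, ∀ b ∈ B, a * b = b * a)
    (h : ∀ (p : ℕ) [Fact p.Prime], p ∣ Nat.card M → ∀ T : Subgroup (G ⧸ M), T ≤ B → IsPGroup p T → IsCyclic T) :
    IsCyclic (abPart₂ B hB (Nat.card M)) := by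
  apply isCyclic_of_comm_sylow
  · rintro ⟨a, ha⟩ ⟨b, hb⟩
    exact Subtype.ext (hB a ha.1 b hb.1)
  · intro p hf Q
    by_cases hpM : p ∣ Nat.card M
    · have h1 := h p hpM (Q.1.map (abPart₂ B hB (Nat.card M)).subtype) (by
          rintro _ ⟨x, -, rfl⟩
          exact x.2.1)
        (Q.2.map _)
      exact isCyclic_of_surjective
        ((Q.1.equivMapOfInjective _ (abPart₂ B hB (Nat.card M)).subtype_injective).symm.toMonoidHom)
        (MulEquiv.surjective _)
    · have h1 : Q.1 = ⊥ := by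
        obtain ⟨n, hn⟩ := IsPGroup.iff_card.1 Q.2
        rcases n with _ | n
        · rw [pow_zero] at hn
          exact Subgroup.card_eq_one.1 hn
        · exfalso
          have hd : p ∣ Nat.card Q.1 := by
            rw [hn]
            exact dvd_pow_self p (Nat.succ_ne_zero n)
          obtain ⟨x, hx⟩ := exists_prime_orderOf_dvd_card' p hd
          apply hpM
          have hm : ((x : abPart₂ B hB (Nat.card M)) : G ⧸ M) ∈ abPart₂ B hB (Nat.card M) := x.1.2
          apply hm.2 p hf.1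
          rw [Subgroup.orderOf_coe, Subgroup.orderOf_coe, hx]
      have : Subsingleton Q.1 := by
        rw [h1]
        infer_instance
      exact isCyclic_of_subsingleton

theorem quot_conj_pair (hH : HProp G) (M : Subgroup G) [M.Normal] (hL : LiftCond M)
    (B₁ B₂ : Subgroup (G ⧸ M)) (hab₁ : ∀ a ∈ B₁, ∀ b ∈ B₁, a * b = b * a)
    (hab₂ : ∀ a ∈ B₂, ∀ b ∈ B₂, a * b = b * a)
    (hc₁ : IsCyclic (abPart₂ B₁ hab₁ (Nat.card M))) (hc₂ : IsCyclic (abPart₂ B₂ hab₂ (Nat.card M)))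
    (hcard : Nat.card B₁ = Nat.card B₂) : ∃ g : G ⧸ M, B₂ = B₁.map (MulAut.conj g).toMonoidHom := by
  obtain ⟨A₁, hA₁, him₁, h1₁, h2₁⟩ := lift_abelian M hL B₁ hab₁ hc₁
  obtain ⟨A₂, hA₂, him₂, h1₂, h2₂⟩ := lift_abelian M hL B₂ hab₂ hc₂
  obtain ⟨g, hg⟩ := conj_of_lifts M hH A₁ A₂ hA₁ hA₂ B₁ B₂ hcard him₁ him₂ h1₁ h1₂ h2₁ h2₂
  refine ⟨QuotientGroup.mk' M g, ?_⟩
  rw [← him₁, ← him₂, hg, Subgroup.map_map, Subgroup.map_map]
  congr 1

theorem quot_hProp (hH : HProp G) (M : Subgroup G) [M.Normal] (hL : LiftCond M)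
    (hcyc : ∀ (B : Subgroup (G ⧸ M)) (hB : ∀ a ∈ B, ∀ b ∈ B, a * b = b * a),
      IsCyclic (abPart₂ B hB (Nat.card M))) : HProp (G ⧸ M) := by
  intro B₁ B₂ h₁ h₂ hcard
  have hab₁ : ∀ a ∈ B₁, ∀ b ∈ B₁, a * b = b * a := fun a ha b hb =>
    congrArg Subtype.val (h₁.1.comm ⟨a, ha⟩ ⟨b, hb⟩)
  have hab₂ : ∀ a ∈ B₂, ∀ b ∈ B₂, a * b = b * a := fun a ha b hb =>
    congrArg Subtype.val (h₂.1.comm ⟨a, ha⟩ ⟨b, hb⟩)
  exact quot_conj_pair hH M hL B₁ B₂ hab₁ hab₂ (hcyc B₁ hab₁) (hcyc B₂ hab₂) hcard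

end

end Cfsg.Agent.H18
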