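import Mathlib

/-! `p`-groups with an abelian subgroup of index `p`; counting subgroups of order `p` in a
non-cyclic group of order `p²`. -/

open scoped commutatorElement

namespace Cfsg.Agent.H18

section Count

variable {Q : Type*} [Group Q] [Finite Q]

/-- In a non-cyclic group of order `p²` every element has order dividing `p`. -/
theorem pow_eq_one_of_card_sq_not_cyclic {p : ℕ} [Fact p.Prime] (hQ : Nat.card Q = p ^ 2)
    (hnc : ¬ IsCyclic Q) (q : Q) : q ^ p = 1 := by
  have hp : p.Prime := Fact.out
  have h1 : orderOf q ∣ p ^ 2 := hQ ▸ orderOf_dvd_natCard q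
  obtain ⟨i, hi, hio⟩ := (Nat.dvd_prime_pow hp).mp h1
  interval_cases i
  · rw [pow_zero, orderOf_eq_one_iff] at hio
    rw [hio, one_pow]
  · rw [pow_one] at hio
    rw [← hio, pow_orderOf_eq_one]
  · exfalso
    exact hnc (isCyclic_of_orderOf_eq_card _ (by rw [hio, hQ]))

/-- A non-cyclic group of order `p²` has exactly `p + 1` subgroups of order `p`. -/
theorem card_subgroups_order_p {p : ℕ} [Fact p.Prime] (hQ : Nat.card Q = p ^ 2)
    (hnc : ¬ IsCyclic Q) : Nat.card {C : Subgroup Q // Nat.card C = p} = p + 1 := by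
  classical
  have hp : p.Prime := Fact.out
  haveI : Fintype Q := Fintype.ofFinite Q
  haveI : Fintype (Subgroup Q) := Fintype.ofFinite _
  have hexp := pow_eq_one_of_card_sq_not_cyclic hQ hnc
  let s : Finset Q := Finset.univ.erase 1
  let t : Finset (Subgroup Q) := Finset.univ.filter (fun C => Nat.card C = p)
  have hs : s.card = p ^ 2 - 1 := by
    rw [Finset.card_erase_of_mem (Finset.mem_univ _), Finset.card_univ, ← Nat.card_eq_fintype_card, hQ]
  have hord : ∀ q ∈ s, orderOf q = p := by
    intro q hq
    exact orderOf_eq_prime (hexp q) (Finset.ne_of_mem_erase hq)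
  have hmaps : ∀ q ∈ s, Subgroup.zpowers q ∈ t := by
    intro q hq
    simp only [t, Finset.mem_filter, Finset.mem_univ, true_and]
    rw [Nat.card_zpowers, hord q hq]
  have hfib : ∀ C ∈ t, (s.filter (fun q => Subgroup.zpowers q = C)).card = p - 1 := by
    intro C hC
    simp only [t, Finset.mem_filter, Finset.mem_univ, true_and] at hC
    have h1 : s.filter (fun q => Subgroup.zpowers q = C) =
        (Finset.univ.filter (fun q => q ∈ C)).erase 1 := by
      ext q
      simp only [s, Finset.mem_filter, Finset.mem_erase, Finset.mem_univ, and_true, true_and]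
      constructor
      · rintro ⟨hq1, rfl⟩
        exact ⟨hq1, Subgroup.mem_zpowers q⟩
      · rintro ⟨hq1, hqC⟩
        refine ⟨hq1, ?_⟩
        apply Subgroup.eq_of_le_of_card_ge ((Subgroup.zpowers_le).2 hqC)
        rw [hC, Nat.card_zpowers]
        exact (orderOf_eq_prime (hexp q) hq1).ge
    rw [h1, Finset.card_erase_of_mem (by simp [C.one_mem])]
    congr 1
    rw [← hC, Nat.card_eq_fintype_card, Fintype.card_subtype]
  have hcount := Finset.card_eq_sum_card_fiberwise (f := fun q => Subgroup.zpowers q) (s := s) (t := t)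
    (fun q hq => hmaps q hq)
  rw [Finset.sum_congr rfl hfib, Finset.sum_const, smul_eq_mul, hs] at hcount
  have htc : Nat.card {C : Subgroup Q // Nat.card C = p} = t.card := by
    rw [Nat.card_eq_fintype_card, Fintype.card_subtype]
  rw [htc]
  obtain ⟨r, hr⟩ : ∃ r, p = r + 1 := ⟨p - 1, (Nat.sub_add_cancel hp.one_le).symm⟩
  have hr0 : 0 < r := by
    have := hp.two_le
    omega
  subst hr
  simp only [Nat.add_sub_cancel] at hcount
  have h2 : (r + 1) ^ 2 - 1 = (r + 1 + 1) * r := by
    have : (r + 1) ^ 2 = (r + 1 + 1) * r + 1 := by ring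
    omega
  rw [h2] at hcount
  exact (Nat.eq_of_mul_eq_mul_right hr0 hcount).symm

end Count

section AbIndex

variable {S : Type*} [Group S] [Finite S]

theorem eq_or_top_of_index_prime {p : ℕ} (hp : p.Prime) {A B : Subgroup S} (hA : A.index = p)
    (hAB : A ≤ B) : B = A ∨ B = ⊤ := by
  have h := Subgroup.relIndex_mul_index hAB
  rw [hA] at h
  rcases (Nat.dvd_prime hp).mp (Dvd.intro_left _ h) with h1 | h1
  · right
    exact Subgroup.index_eq_one.mp h1
  · left
    rw [h1] at h
    have h2 : A.relIndex B = 1 := by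
      have : A.relIndex B * p = 1 * p := by rw [h, one_mul]
      exact Nat.eq_of_mul_eq_mul_right hp.pos this
    have h3 : B ≤ A := Subgroup.relIndex_eq_one.mp h2
    exact le_antisymm h3 hAB

/-- Commutators all lie in `R` when `A` is abelian, `[A, x] ≤ R` and `S = A⟨x⟩`. -/
theorem commutator_le_of_sup {A R : Subgroup S} (hR : R.Normal) {x : S}
    (hA : ∀ a ∈ A, ∀ b ∈ A, a * b = b * a) (hgen : A ⊔ Subgroup.zpowers x = ⊤)
    (hAn : A.Normal) (hc : ∀ a ∈ A, a * x * a⁻¹ * x⁻¹ ∈ R) : commutator S ≤ R := by
  haveI := hR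
  haveI := hAn
  let π := QuotientGroup.mk' R
  have hπx : ∀ a ∈ A, Commute (π a) (π x) := by
    intro a ha
    have h1 : π (a * x * a⁻¹ * x⁻¹) = 1 := (QuotientGroup.eq_one_iff _).2 (hc a ha)
    simp only [map_mul, map_inv] at h1
    have h2 : π a * π x = π x * π a := by
      have h3 : π a * π x * (π a)⁻¹ = π x := by
        calc π a * π x * (π a)⁻¹ = π a * π x * (π a)⁻¹ * (π x)⁻¹ * π x := by group
          _ = π x := by rw [h1, one_mul]
      calc π a * π x = π a * π x * (π a)⁻¹ * π a := by group
        _ = π x * π a := by rw [h3]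
    exact h2
  have hπpow : ∀ a ∈ A, ∀ b ∈ Subgroup.zpowers x, Commute (π a) (π b) := by
    intro a ha b hb
    obtain ⟨i, rfl⟩ := Subgroup.mem_zpowers_iff.mp hb
    rw [map_zpow]
    exact (hπx a ha).zpow_right i
  have hpow : ∀ b ∈ Subgroup.zpowers x, ∀ c ∈ Subgroup.zpowers x, Commute (π b) (π c) := by
    intro b hb c hc
    obtain ⟨i, rfl⟩ := Subgroup.mem_zpowers_iff.mp hb
    obtain ⟨j, rfl⟩ := Subgroup.mem_zpowers_iff.mp hc
    rw [map_zpow, map_zpow]
    exact (Commute.refl (π x)).zpow_zpow i j
  rw [commutator_def, Subgroup.commutator_le]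
  intro g _ h _
  have hg : g ∈ A ⊔ Subgroup.zpowers x := hgen ▸ Subgroup.mem_top g
  have hh : h ∈ A ⊔ Subgroup.zpowers x := hgen ▸ Subgroup.mem_top h
  rw [← SetLike.mem_coe, Subgroup.normal_mul, Set.mem_mul] at hg hh
  obtain ⟨a, ha, b, hb, rfl⟩ := hg
  obtain ⟨c, hc', d, hd, rfl⟩ := hh
  have hcomm : Commute (π (a * b)) (π (c * d)) := by
    rw [map_mul, map_mul]
    refine Commute.mul_left (Commute.mul_right ?_ (hπpow a ha d hd)) (Commute.mul_right ((hπpow c hc' b hb).symm) (hpow b hb d hd))
    have : a * c = c * a := hA a ha c hc'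
    show π a * π c = π c * π a
    rw [← map_mul, ← map_mul, this]
  have : π ⁅a * b, c * d⁆ = 1 := by
    rw [commutatorElement_def]
    simp only [map_mul, map_inv]
    have h := hcomm.eq
    simp only [map_mul] at h
    rw [h]
    group
  exact (QuotientGroup.eq_one_iff _).1 this

/-- The structure data for a non-abelian `p`-group with abelian `A` of index `p`. -/
theorem center_le_of_abelian_index {p : ℕ} (hp : p.Prime) (hna : ¬ IsMulCommutative S)
    {A : Subgroup S} (hA : IsMulCommutative A) (hAi : A.index = p) :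
    Subgroup.center S ≤ A := by
  intro z hz
  by_contra hzA
  apply hna
  have hAb : ∀ a ∈ A, ∀ b ∈ A, a * b = b * a := by
    intro a ha b hb
    have := (isMulCommutative_iff.mp hA) ⟨a, ha⟩ ⟨b, hb⟩
    exact congrArg Subtype.val this
  have hsup : A ⊔ Subgroup.center S = ⊤ := by
    rcases eq_or_top_of_index_prime hp hAi (le_sup_left : A ≤ A ⊔ Subgroup.center S) with h | h
    · exact absurd ((le_sup_right : Subgroup.center S ≤ A ⊔ Subgroup.center S) hz) (by rw [h]; exact hzA)
    · exact h
  rw [isMulCommutative_iff]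
  intro g h
  have hg : g ∈ A ⊔ Subgroup.center S := hsup ▸ Subgroup.mem_top g
  have hh : h ∈ A ⊔ Subgroup.center S := hsup ▸ Subgroup.mem_top h
  rw [← SetLike.mem_coe, Subgroup.mul_normal, Set.mem_mul] at hg hh
  obtain ⟨a, ha, b, hb, rfl⟩ := hg
  obtain ⟨c, hc, d, hd, rfl⟩ := hh
  have h1 : b * c = c * b := ((Subgroup.mem_center_iff.mp hb) c).symm
  have h2 : b * d = d * b := ((Subgroup.mem_center_iff.mp hb) d).symm
  have h3 : a * d = d * a := (Subgroup.mem_center_iff.mp hd) a
  calc a * b * (c * d) = a * (b * c) * d := by group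
    _ = a * (c * b) * d := by rw [h1]
    _ = (a * c) * (b * d) := by group
    _ = (c * a) * (d * b) := by rw [hAb a ha c hc, h2]
    _ = c * (a * d) * b := by group
    _ = c * (d * a) * b := by rw [h3]
    _ = c * d * (a * b) := by group

/-- The commutator map with a fixed `x` as a homomorphism from an abelian normal `A`. -/
def commHom {A : Subgroup S} (hAn : A.Normal) (hA : IsMulCommutative A) (x : S) : A →* A where
  toFun a := ⟨(a : S) * x * (a : S)⁻¹ * x⁻¹, by
    have h1 : x * (a : S)⁻¹ * x⁻¹ ∈ A := hAn.conj_mem _ (A.inv_mem a.2) x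
    have h2 := A.mul_mem a.2 h1
    convert h2 using 1
    group⟩
  map_one' := by ext; simp
  map_mul' := by
    intro a b
    have hab := isMulCommutative_iff.mp hA
    ext
    simp only [Subgroup.coe_mul]
    have h1 : x * (a : S)⁻¹ * x⁻¹ ∈ A := hAn.conj_mem _ (A.inv_mem a.2) x
    have h2 : x * (b : S)⁻¹ * x⁻¹ ∈ A := hAn.conj_mem _ (A.inv_mem b.2) x
    have h3 := congrArg Subtype.val (hab b ⟨_, h1⟩)
    simp only [Subgroup.coe_mul] at h3
    have h4 := congrArg Subtype.val (hab ⟨_, h2⟩ ⟨_, h1⟩)
    simp only [Subgroup.coe_mul] at h4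
    calc (a : S) * b * x * ((a : S) * b)⁻¹ * x⁻¹
        = a * (b * ((x * (b : S)⁻¹ * x⁻¹) * (x * (a : S)⁻¹ * x⁻¹))) := by group
      _ = a * (b * ((x * (a : S)⁻¹ * x⁻¹) * (x * (b : S)⁻¹ * x⁻¹))) := by rw [h4]
      _ = a * ((b * (x * (a : S)⁻¹ * x⁻¹)) * (x * (b : S)⁻¹ * x⁻¹)) := by group
      _ = a * (((x * (a : S)⁻¹ * x⁻¹) * b) * (x * (b : S)⁻¹ * x⁻¹)) := by rw [h3]
      _ = _ := by group

theorem commHom_apply {A : Subgroup S} (hAn : A.Normal) (hA : IsMulCommutative A) (x : S) (a : A) :
    (commHom hAn hA x a : S) = (a : S) * x * (a : S)⁻¹ * x⁻¹ := rfl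

/-- `|S : Z(S)| = p |S'|` and `|A| = |Z(S)| |S'|` for a non-abelian `p`-group with an abelian
subgroup `A` of index `p`. -/
theorem abelian_index_main {p : ℕ} [Fact p.Prime] (hS : IsPGroup p S) (hna : ¬ IsMulCommutative S)
    {A : Subgroup S} (hA : IsMulCommutative A) (hAi : A.index = p) {x : S} (hx : x ∉ A) :
    ∃ hAn : A.Normal, (commHom hAn hA x).ker.map A.subtype = Subgroup.center S ∧
      (commHom hAn hA x).range.map A.subtype = commutator S ∧
      Nat.card A = Nat.card (Subgroup.center S) * Nat.card (commutator S) ∧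
      (Subgroup.center S).index = p * Nat.card (commutator S) := by
  classical
  have hp : p.Prime := Fact.out
  have hAn : A.Normal := by
    apply Subgroup.normal_of_index_eq_minFac_card
    rw [hAi]
    have hn : Nat.card S ≠ 1 := by
      intro h
      rw [Nat.card_eq_one_iff_unique] at h
      haveI := h.1
      exact hna ⟨⟨fun a b => Subsingleton.elim _ _⟩⟩
    obtain ⟨k, hk⟩ := IsPGroup.iff_card.mp hS
    have hk0 : k ≠ 0 := by
      rintro rfl
      exact hn (by rw [hk, pow_zero])
    rw [hk, Nat.Prime.pow_minFac hp hk0]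
  have hAb : ∀ a ∈ A, ∀ b ∈ A, a * b = b * a := by
    intro a ha b hb
    have := (isMulCommutative_iff.mp hA) ⟨a, ha⟩ ⟨b, hb⟩
    exact congrArg Subtype.val this
  have hgen : A ⊔ Subgroup.zpowers x = ⊤ := by
    rcases eq_or_top_of_index_prime hp hAi (le_sup_left : A ≤ A ⊔ Subgroup.zpowers x) with h | h
    · exact absurd ((le_sup_right : Subgroup.zpowers x ≤ A ⊔ Subgroup.zpowers x) (Subgroup.mem_zpowers x)) (by rw [h]; exact hx)
    · exact h
  have hZA := center_le_of_abelian_index hp hna hA hAi
  refine ⟨hAn, ?_⟩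
  have hker : (commHom hAn hA x).ker.map A.subtype = Subgroup.center S := by
    ext z
    constructor
    · rintro ⟨a, ha, rfl⟩
      have h1 : (a : S) * x * (a : S)⁻¹ * x⁻¹ = 1 := by
        have := congrArg Subtype.val (MonoidHom.mem_ker.mp ha)
        simpa [commHom_apply] using this
      have hax : (a : S) * x = x * a := by
        have h2 : (a : S) * x * (a : S)⁻¹ = x := by
          calc (a : S) * x * (a : S)⁻¹ = (a : S) * x * (a : S)⁻¹ * x⁻¹ * x := by group
            _ = x := by rw [h1, one_mul]
        calc (a : S) * x = (a : S) * x * (a : S)⁻¹ * a := by group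
          _ = x * a := by rw [h2]
      rw [Subgroup.mem_center_iff]
      intro g
      have hg : g ∈ A ⊔ Subgroup.zpowers x := hgen ▸ Subgroup.mem_top g
      rw [← SetLike.mem_coe, Subgroup.normal_mul, Set.mem_mul] at hg
      obtain ⟨b, hb, c, hc, rfl⟩ := hg
      obtain ⟨i, rfl⟩ := Subgroup.mem_zpowers_iff.mp hc
      have h3 : Commute (a : S) (x ^ i) := Commute.zpow_right (show Commute (a : S) x from hax) i
      show b * x ^ i * (a : S) = a * (b * x ^ i)
      calc b * x ^ i * (a : S) = b * (x ^ i * a) := by group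
        _ = b * (a * x ^ i) := by rw [h3.eq]
        _ = (b * a) * x ^ i := by group
        _ = (a * b) * x ^ i := by rw [hAb b hb a a.2]
        _ = _ := by group
    · intro hz
      refine ⟨⟨z, hZA hz⟩, ?_, rfl⟩
      show _ ∈ (commHom hAn hA x).ker
      rw [MonoidHom.mem_ker]
      ext
      rw [commHom_apply]
      have := (Subgroup.mem_center_iff.mp hz) x
      show z * x * z⁻¹ * x⁻¹ = 1
      rw [← this]
      group
  have hrange : (commHom hAn hA x).range.map A.subtype = commutator S := by
    apply le_antisymm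
    · rintro _ ⟨_, ⟨a, rfl⟩, rfl⟩
      rw [commutator_def]
      show (a : S) * x * (a : S)⁻¹ * x⁻¹ ∈ _
      have := Subgroup.commutator_mem_commutator (Subgroup.mem_top (a : S)) (Subgroup.mem_top x)
      rwa [commutatorElement_def] at this
    · -- R is normal
      set R := (commHom hAn hA x).range.map A.subtype with hR
      have hRA : R ≤ A := by
        rintro _ ⟨b, -, rfl⟩
        exact b.2
      have hRmem : ∀ a ∈ A, a * x * a⁻¹ * x⁻¹ ∈ R := by
        intro a ha
        exact ⟨commHom hAn hA x ⟨a, ha⟩, ⟨⟨a, ha⟩, rfl⟩, rfl⟩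
      have hRn : R.Normal := by
        constructor
        rintro _ ⟨_, ⟨a, rfl⟩, rfl⟩ g
        have hg : g ∈ A ⊔ Subgroup.zpowers x := hgen ▸ Subgroup.mem_top g
        -- the conjugates by `x` stay
        have hxconj : ∀ r ∈ R, x * r * x⁻¹ ∈ R ∧ x⁻¹ * r * x ∈ R := by
          rintro _ ⟨_, ⟨a, rfl⟩, rfl⟩
          have h1 : x * (a : S) * x⁻¹ ∈ A := hAn.conj_mem _ a.2 x
          have h2 : x⁻¹ * (a : S) * x ∈ A := by
            have := hAn.conj_mem _ a.2 x⁻¹
            simpa using this
          constructor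
          · have := hRmem _ h1
            show x * ((a : S) * x * (a : S)⁻¹ * x⁻¹) * x⁻¹ ∈ R
            convert this using 1
            group
          · have := hRmem _ h2
            show x⁻¹ * ((a : S) * x * (a : S)⁻¹ * x⁻¹) * x ∈ R
            convert this using 1
            group
        have hzconj : ∀ i : ℤ, ∀ r ∈ R, x ^ i * r * x ^ (-i) ∈ R := by
          intro i
          induction i using Int.induction_on with
          | zero => intro r hr; simpa using hr
          | succ n ih =>
            intro r hr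
            have := (hxconj _ (ih r hr)).1
            convert this using 1
            rw [show (n : ℤ) + 1 = 1 + n by ring, show -(1 + (n : ℤ)) = -(n : ℤ) + -1 by ring, zpow_add, zpow_add]
            simp only [zpow_one, zpow_neg]
            group
          | pred n ih =>
            intro r hr
            have := (hxconj _ (ih r hr)).2
            convert this using 1
            rw [show -(n : ℤ) - 1 = -1 + -(n : ℤ) by ring, show -(-1 + -(n : ℤ)) = (n : ℤ) + 1 by ring, zpow_add, zpow_add]
            simp only [zpow_one, zpow_neg, neg_neg]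
            group
        rw [← SetLike.mem_coe, Subgroup.normal_mul, Set.mem_mul] at hg
        obtain ⟨b, hb, c, hc, rfl⟩ := hg
        obtain ⟨i, rfl⟩ := Subgroup.mem_zpowers_iff.mp hc
        have hr0 : ((commHom hAn hA x) a : S) ∈ R := ⟨_, ⟨a, rfl⟩, rfl⟩
        have h1 := hzconj i _ hr0
        have h2 : b * (x ^ i * ((commHom hAn hA x) a : S) * x ^ (-i)) * b⁻¹ = x ^ i * ((commHom hAn hA x) a : S) * x ^ (-i) :=
          by
          have := hAb b hb _ (hRA h1)
          rw [this]; group
        show b * x ^ i * ((commHom hAn hA x) a : S) * (b * x ^ i)⁻¹ ∈ R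
        have h3 : b * x ^ i * ((commHom hAn hA x) a : S) * (b * x ^ i)⁻¹ =
            b * (x ^ i * ((commHom hAn hA x) a : S) * x ^ (-i)) * b⁻¹ := by
          rw [zpow_neg]; group
        rw [h3, h2]
        exact h1
      exact commutator_le_of_sup hRn hAb hgen hAn hRmem
  have hcardker : Nat.card (commHom hAn hA x).ker = Nat.card (Subgroup.center S) := by
    rw [← hker, Subgroup.card_map_of_injective A.subtype_injective]
  have hcardrange : Nat.card (commHom hAn hA x).range = Nat.card (commutator S) := by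
    rw [← hrange, Subgroup.card_map_of_injective A.subtype_injective]
  have hcardA : Nat.card A = Nat.card (Subgroup.center S) * Nat.card (commutator S) := by
    rw [← hcardker, ← hcardrange]
    have := Subgroup.card_mul_index (commHom hAn hA x).ker
    rw [Subgroup.index_ker] at this
    exact this.symm
  refine ⟨hker, hrange, hcardA, ?_⟩
  have h1 := Subgroup.card_mul_index (Subgroup.center S)
  have h2 := Subgroup.card_mul_index A
  rw [hAi, hcardA, ← h1] at h2
  have h3 : 0 < Nat.card (Subgroup.center S) := Nat.card_pos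
  apply Nat.eq_of_mul_eq_mul_left h3
  rw [← h2]
  ring

end AbIndex

end Cfsg.Agent.H18
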