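import Mathlib
import Cfsg.Prelude.Def_Transfer
import Cfsg.Agent.Lib.H19.CyclicSylow
import Cfsg.Agent.Lib.H14.NPC
import Cfsg.Agent.Lib.H13.FrobFusion
import Cfsg.Agent.Lib.H22.TwoPrime
import Cfsg.Agent.Lib.H15.Sylow3
import Cfsg.Agent.Lib.H01.NormalComp

/-! Number of conjugacy classes of `p`-elements: counting through a Sylow subgroup. -/

set_option autoImplicit false
set_option linter.unusedSectionVars false

namespace Cfsg.Agent.H18

open Cfsg

section KP

/-- The conjugacy classes consisting of `p`-elements. -/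
abbrev ClP (p : ℕ) (G : Type*) [Group G] :=
  {c : ConjClasses G // ∀ x ∈ c.carrier, ∃ k : ℕ, orderOf x = p ^ k}

variable {G : Type*} [Group G] [Finite G] {p : ℕ} [Fact p.Prime]

theorem exists_order_of_mem_sylow (P : Sylow p G) {x : G} (hx : x ∈ (P : Subgroup G)) :
    ∃ k : ℕ, orderOf x = p ^ k := by
  obtain ⟨k, hk⟩ := (IsPGroup.iff_orderOf.1 P.isPGroup') ⟨x, hx⟩
  exact ⟨k, by simpa [Subgroup.orderOf_mk] using hk⟩

omit [Finite G] [Fact p.Prime] in
theorem order_of_mem_mk {x y : G} (hy : y ∈ (ConjClasses.mk x).carrier) : orderOf y = orderOf x := by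
  rw [ConjClasses.mem_carrier_iff_mk_eq, ConjClasses.mk_eq_mk_iff_isConj] at hy
  obtain ⟨c, hc⟩ := isConj_iff.1 hy
  rw [← hc, H14.orderOf_conj_eq]

/-- The class of an element of a Sylow subgroup. -/
def clOf (P : Sylow p G) (x : (P : Subgroup G)) : ClP p G :=
  ⟨ConjClasses.mk (x : G), fun y hy => by
    rw [order_of_mem_mk hy]
    exact exists_order_of_mem_sylow P x.2⟩

theorem clOf_surjective (P : Sylow p G) : Function.Surjective (clOf P) := by
  rintro ⟨c, hc⟩
  obtain ⟨g, rfl⟩ := ConjClasses.exists_rep c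
  obtain ⟨h, hh⟩ := H22.exists_conj_mem_sylow P (hc g ConjClasses.mem_carrier_mk)
  refine ⟨⟨h * g * h⁻¹, hh⟩, Subtype.ext ?_⟩
  show ConjClasses.mk (h * g * h⁻¹) = ConjClasses.mk g
  rw [ConjClasses.mk_eq_mk_iff_isConj]
  exact (isConj_iff.2 ⟨h, rfl⟩).symm

theorem clOf_eq_iff (P : Sylow p G) (x y : (P : Subgroup G)) :
    clOf P x = clOf P y ↔ IsConj (x : G) y := by
  rw [Subtype.ext_iff]
  exact ConjClasses.mk_eq_mk_iff_isConj

/-- An element of a Sylow subgroup which is the only conjugate of itself in the Sylow subgroup. -/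
def IsoEl (P : Sylow p G) (x : G) : Prop :=
  x ∈ (P : Subgroup G) ∧ ∀ g : G, g * x * g⁻¹ ∈ (P : Subgroup G) → g * x * g⁻¹ = x

theorem two_mul_card_le (P : Sylow p G) :
    2 * Nat.card (ClP p G) ≤
      Nat.card (P : Subgroup G) + Nat.card {x : (P : Subgroup G) // IsoEl P (x : G)} := by
  classical
  haveI := Fintype.ofFinite (ClP p G)
  haveI := Fintype.ofFinite (P : Subgroup G)
  haveI := Fintype.ofFinite {x : (P : Subgroup G) // IsoEl P (x : G)}
  simp only [Nat.card_eq_fintype_card]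
  have h1 : Fintype.card (P : Subgroup G) =
      ∑ c : ClP p G, (Finset.univ.filter (fun x => clOf P x = c)).card := by
    rw [← Finset.card_univ]
    exact Finset.card_eq_sum_card_fiberwise (fun x _ => Finset.mem_coe.2 (Finset.mem_univ _))
  have h2 : Fintype.card {x : (P : Subgroup G) // IsoEl P (x : G)} =
      ∑ c : ClP p G, (Finset.univ.filter
        (fun x : {x : (P : Subgroup G) // IsoEl P (x : G)} => clOf P x.1 = c)).card := by
    rw [← Finset.card_univ]
    exact Finset.card_eq_sum_card_fiberwise (fun x _ => Finset.mem_coe.2 (Finset.mem_univ _))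
  rw [h1, h2, ← Finset.sum_add_distrib]
  have h3 : 2 * Fintype.card (ClP p G) = ∑ _c : ClP p G, 2 := by
    rw [Finset.sum_const, Finset.card_univ, smul_eq_mul, mul_comm]
  rw [h3]
  refine Finset.sum_le_sum (fun c _ => ?_)
  obtain ⟨x, rfl⟩ := clOf_surjective P c
  by_cases hu : ∃ y : (P : Subgroup G), y ≠ x ∧ clOf P y = clOf P x
  · obtain ⟨y, hyx, hy⟩ := hu
    have h4 : 1 < (Finset.univ.filter (fun z => clOf P z = clOf P x)).card :=
      Finset.one_lt_card.2 ⟨y, by simp [hy], x, by simp, hyx⟩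
    omega
  · push Not at hu
    have hiso : IsoEl P (x : G) := by
      refine ⟨x.2, fun g hg => ?_⟩
      have h5 : (⟨g * x * g⁻¹, hg⟩ : (P : Subgroup G)) = x := by
        by_contra hne
        refine hu _ hne ?_
        rw [clOf_eq_iff]
        exact (isConj_iff.2 ⟨g, rfl⟩).symm
      exact congrArg Subtype.val h5
    have h4 : 0 < (Finset.univ.filter (fun z => clOf P z = clOf P x)).card :=
      Finset.card_pos.2 ⟨x, by simp⟩
    have h6 : 0 < (Finset.univ.filter
        (fun z : {x : (P : Subgroup G) // IsoEl P (x : G)} => clOf P z.1 = clOf P x)).card :=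
      Finset.card_pos.2 ⟨⟨x, hiso⟩, by simp⟩
    omega

theorem eq_of_card_lt_prime_mul {K L : Subgroup G} (hKL : K ≤ L) (hL : IsPGroup p L)
    (h : Nat.card L < p * Nat.card K) : K = L := by
  have hp : p.Prime := Fact.out
  have hK : IsPGroup p K := hL.to_le hKL
  obtain ⟨a, ha⟩ := IsPGroup.iff_card.1 hK
  obtain ⟨b, hb⟩ := IsPGroup.iff_card.1 hL
  have h1 : Nat.card K ≤ Nat.card L := Subgroup.card_le_of_le hKL
  rw [ha, hb] at h1
  rw [ha, hb, ← pow_succ'] at h
  have h2 : b < a + 1 := (Nat.pow_lt_pow_iff_right hp.one_lt).1 h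
  have h3 : a ≤ b := (Nat.pow_le_pow_iff_right hp.one_lt).1 h1
  have h4 : a = b := by omega
  exact Subgroup.eq_of_le_of_card_ge hKL (by rw [ha, hb, h4])

/-- The heart: many classes of `p`-elements force a normal `p`-complement and abelian Sylow subgroups. -/
theorem npc_of_many (P : Sylow p G) (h : (p + 1) * Nat.card (P : Subgroup G) < 2 * p * Nat.card (ClP p G)) :
    HasNormalPComplement p G ∧ IsMulCommutative (P : Subgroup G) := by
  classical
  have hp : p.Prime := Fact.out
  have hA := two_mul_card_le P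
  have hlt : Nat.card (P : Subgroup G) < p * Nat.card {x : (P : Subgroup G) // IsoEl P (x : G)} := by
    have h1 : 2 * p * Nat.card (ClP p G) ≤
        p * (Nat.card (P : Subgroup G) + Nat.card {x : (P : Subgroup G) // IsoEl P (x : G)}) := by
      calc 2 * p * Nat.card (ClP p G) = p * (2 * Nat.card (ClP p G)) := by ring
        _ ≤ _ := Nat.mul_le_mul_left _ hA
    nlinarith
  have hK1 : (P : Subgroup G) ⊓ Subgroup.centralizer ((P : Subgroup G) : Set G) = (P : Subgroup G) := by
    refine eq_of_card_lt_prime_mul inf_le_left P.isPGroup' (lt_of_lt_of_le hlt ?_)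
    refine Nat.mul_le_mul_left _ ?_
    refine Nat.card_le_card_of_injective
      (fun x => ⟨(x.1 : G), x.1.2, ?_⟩) ?_
    · refine Subgroup.mem_centralizer_iff.2 (fun y hy => ?_)
      have h2 := x.2.2 y (Subgroup.mul_mem _ (Subgroup.mul_mem _ hy x.1.2) (Subgroup.inv_mem _ hy))
      calc y * (x.1 : G) = y * (x.1 : G) * y⁻¹ * y := by group
        _ = (x.1 : G) * y := by rw [h2]
    · intro x y hxy
      have h3 := Subtype.ext_iff.1 hxy
      exact Subtype.ext (Subtype.ext h3)
  have hK2 : (P : Subgroup G) ⊓ Subgroup.centralizer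
      ((Subgroup.normalizer ((P : Subgroup G) : Set G) : Subgroup G) : Set G) = (P : Subgroup G) := by
    refine eq_of_card_lt_prime_mul inf_le_left P.isPGroup' (lt_of_lt_of_le hlt ?_)
    refine Nat.mul_le_mul_left _ ?_
    refine Nat.card_le_card_of_injective
      (fun x => ⟨(x.1 : G), x.1.2, ?_⟩) ?_
    · refine Subgroup.mem_centralizer_iff.2 (fun y hy => ?_)
      have h2 := x.2.2 y ((Subgroup.mem_normalizer_iff.1 hy _).1 x.1.2)
      calc y * (x.1 : G) = y * (x.1 : G) * y⁻¹ * y := by group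
        _ = (x.1 : G) * y := by rw [h2]
    · intro x y hxy
      have h3 := Subtype.ext_iff.1 hxy
      exact Subtype.ext (Subtype.ext h3)
  have hcomm : IsMulCommutative (P : Subgroup G) := by
    refine ⟨⟨fun a b => Subtype.ext ?_⟩⟩
    have h1 : (a : G) ∈ (P : Subgroup G) ⊓ Subgroup.centralizer ((P : Subgroup G) : Set G) := by
      rw [hK1]
      exact a.2
    have h2 := (Subgroup.mem_centralizer_iff.1 h1.2) b b.2
    exact h2.symm
  refine ⟨?_, hcomm⟩
  have hN : Subgroup.normalizer ((P : Subgroup G) : Set G) ≤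
      Subgroup.centralizer ((P : Subgroup G) : Set G) := by
    intro g hg
    rw [Subgroup.mem_centralizer_iff]
    intro x hx
    have h1 : x ∈ (P : Subgroup G) ⊓ Subgroup.centralizer
        ((Subgroup.normalizer ((P : Subgroup G) : Set G) : Subgroup G) : Set G) := by
      rw [hK2]
      exact hx
    exact (Subgroup.mem_centralizer_iff.1 h1.2 g hg).symm
  obtain ⟨R, hR, hc⟩ := H19.burnside_complement P hN
  exact ⟨P, R, hR, hc⟩

/-- In a group with a normal `p`-complement, fusion in a Sylow subgroup is inner. -/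
theorem conj_in_sylow_of_npc (h : HasNormalPComplement p G) (P : Sylow p G) {x y : G}
    (hx : x ∈ (P : Subgroup G)) (hy : y ∈ (P : Subgroup G)) (hc : IsConj x y) :
    ∃ u ∈ (P : Subgroup G), u * x * u⁻¹ = y := by
  obtain ⟨g, hg⟩ := isConj_iff.1 hc
  have hF := H13.frobCond_of_hasNormalPComplement h
  obtain ⟨u, hu, hu2⟩ := H13.fusion_control hF P (Subgroup.zpowers x)
    (by rw [Subgroup.zpowers_le]; exact hx) g (by
      rintro _ ⟨_, ⟨i, rfl⟩, rfl⟩
      have h1 : (MulAut.conj g).toMonoidHom (x ^ i) = y ^ i := by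
        rw [← hg]
        show g * x ^ i * g⁻¹ = _
        rw [conj_zpow]
      change (MulAut.conj g).toMonoidHom (x ^ i) ∈ _
      rw [h1]
      exact Subgroup.zpow_mem _ hy i)
  refine ⟨u, hu, ?_⟩
  rw [← hu2 x (Subgroup.mem_zpowers x), hg]

theorem card_sylow_le_of_npc_comm (h : HasNormalPComplement p G) (P : Sylow p G)
    (hc : IsMulCommutative (P : Subgroup G)) :
    Nat.card (P : Subgroup G) ≤ Nat.card (ClP p G) := by
  refine Nat.card_le_card_of_injective (clOf P) ?_
  intro x y hxy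
  rw [clOf_eq_iff] at hxy
  obtain ⟨u, hu, hu2⟩ := conj_in_sylow_of_npc h P x.2 y.2 hxy
  apply Subtype.ext
  have h1 : (⟨u, hu⟩ : (P : Subgroup G)) * x = x * ⟨u, hu⟩ := hc.is_comm.comm _ _
  have h2 : u * (x : G) = x * u := congrArg Subtype.val h1
  rw [← hu2, h2]
  group

/-- Main theorem for general `p`. -/
theorem many_iff (P : Sylow p G) :
    (p + 1) * Nat.card (P : Subgroup G) < 2 * p * Nat.card (ClP p G) ↔
      HasNormalPComplement p G ∧ IsMulCommutative (P : Subgroup G) := by
  have hp : p.Prime := Fact.out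
  constructor
  · exact npc_of_many P
  · rintro ⟨h, hc⟩
    have h1 := card_sylow_le_of_npc_comm h P hc
    have h2 : 0 < Nat.card (P : Subgroup G) := Nat.card_pos
    have h3 := hp.two_le
    calc (p + 1) * Nat.card (P : Subgroup G) < 2 * p * Nat.card (P : Subgroup G) :=
          Nat.mul_lt_mul_of_pos_right (by omega) h2
      _ ≤ _ := Nat.mul_le_mul_left _ h1

/-- Powers of isolated elements are isolated. -/
theorem isoEl_pow (P : Sylow p G) {x : G} (hx : IsoEl P x) (m : ℕ) : IsoEl P (x ^ m) := by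
  classical
  refine ⟨Subgroup.pow_mem _ hx.1 m, fun g hg => ?_⟩
  have hxc : ∀ y ∈ (P : Subgroup G), y * x = x * y := by
    intro y hy
    have h2 := hx.2 y (Subgroup.mul_mem _ (Subgroup.mul_mem _ hy hx.1) (Subgroup.inv_mem _ hy))
    calc y * x = y * x * y⁻¹ * y := by group
      _ = x * y := by rw [h2]
  obtain ⟨w, hw⟩ : ∃ w, w = g * x ^ m * g⁻¹ := ⟨_, rfl⟩
  rw [← hw] at hg ⊢
  -- The conjugate `gPg⁻¹` of `P` centralizes `w`
  let P' : Sylow p G := g • P
  have hP' : ((P' : Sylow p G) : Subgroup G) = (P : Subgroup G).map (MulAut.conj g).toMonoidHom :=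
    Sylow.coe_subgroup_smul
  have hP'C : (P' : Subgroup G) ≤ Subgroup.centralizer ({w} : Set G) := by
    rw [hP']
    rintro _ ⟨y, hy, rfl⟩
    rw [Subgroup.mem_centralizer_singleton_iff]
    show g * y * g⁻¹ * w = w * (g * y * g⁻¹)
    have h1 : y * x ^ m = x ^ m * y := (Commute.pow_right (show Commute y x from hxc y hy) m)
    rw [hw]
    calc g * y * g⁻¹ * (g * x ^ m * g⁻¹) = g * (y * x ^ m) * g⁻¹ := by group
      _ = g * (x ^ m * y) * g⁻¹ := by rw [h1]
      _ = _ := by group
  have hD : (P : Subgroup G) ⊓ Subgroup.centralizer ({w} : Set G) ≤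
      Subgroup.centralizer ({w} : Set G) := inf_le_right
  obtain ⟨c, hcC, hc⟩ := H15.exists_conj_le_sylow_of_le (Subgroup.centralizer ({w} : Set G))
    ((P : Subgroup G) ⊓ Subgroup.centralizer ({w} : Set G)) P' hP'C hD
    (P.isPGroup'.to_le inf_le_left)
  have hxD : x ∈ (P : Subgroup G) ⊓ Subgroup.centralizer ({w} : Set G) := by
    exact Subgroup.mem_inf.2 ⟨hx.1, Subgroup.mem_centralizer_singleton_iff.2 (hxc w hg).symm⟩
  have h1 := hc x hxD
  rw [hP'] at h1
  obtain ⟨y, hy, hy2⟩ := h1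
  change g * y * g⁻¹ = c * x * c⁻¹ at hy2
  -- `y` is a conjugate of `x` in `P`, hence `x`
  have hy3 : (g⁻¹ * c) * x * (g⁻¹ * c)⁻¹ = y := by
    have : (g⁻¹ * c) * x * (g⁻¹ * c)⁻¹ = g⁻¹ * (c * x * c⁻¹) * g := by group
    rw [this, ← hy2]
    group
  have hy4 : y = x := by
    rw [← hy3]
    apply hx.2
    rw [hy3]
    exact hy
  rw [hy4] at hy2
  have hcw : c * w * c⁻¹ = w := by
    have := Subgroup.mem_centralizer_singleton_iff.1 hcC
    rw [this]
    group
  have h5 : c * x ^ m * c⁻¹ = g * x ^ m * g⁻¹ := by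
    rw [← conj_pow, ← conj_pow, hy2]
  -- hence `w = c x^m c⁻¹`, and `c` fixes `w`
  have h6 : w = c * x ^ m * c⁻¹ := by rw [h5, hw]
  have h7 : c * w * c⁻¹ = w := hcw
  have h8 : x ^ m = c⁻¹ * w * c := by rw [h6]; group
  rw [h8]
  calc w = c⁻¹ * (c * w * c⁻¹) * c := by group
    _ = c⁻¹ * w * c := by rw [h7]

end KP

end Cfsg.Agent.H18
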