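import Mathlib
import Cfsg.Prelude.Def_OddOrderLocal
import Cfsg.Agent.Lib.H18.KP

/-! Classes of `π`-elements: fibration over the classes of `r`-elements. -/

set_option autoImplicit false
set_option linter.unusedSectionVars false

namespace Cfsg.Agent.H18

open Cfsg

universe u

/-- The conjugacy classes of `σ`-elements. -/
abbrev ClS (σ : Finset ℕ) (G : Type*) [Group G] :=
  {c : ConjClasses G // ∀ x ∈ c.carrier, ∀ r : ℕ, r.Prime → r ∣ orderOf x → r ∈ σ}

/-- The `σ`-part of the order of a group. -/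
noncomputable def nPi (σ : Finset ℕ) (G : Type*) [Group G] : ℕ :=
  σ.prod (fun r => r ^ (Nat.card G).factorization r)

theorem exists_part {G : Type*} [Group G] [Finite G] (r : ℕ) (hr : r.Prime) (w : G) :
    ∃ y x : G, w = y * x ∧ Commute y x ∧ (∃ k : ℕ, orderOf y = r ^ k) ∧ (orderOf x).Coprime r ∧
      orderOf x ∣ orderOf w := by
  have hn : orderOf w ≠ 0 := (orderOf_pos w).ne'
  obtain ⟨a, m, hm, hw⟩ := Nat.exists_eq_pow_mul_and_not_dvd hn r hr.ne_one
  have hcop : Nat.Coprime (r ^ a) m :=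
    Nat.Coprime.pow_left _ ((Nat.Prime.coprime_iff_not_dvd hr).2 hm)
  have hb : ((r ^ a : ℕ) : ℤ) * Nat.gcdA (r ^ a) m + (m : ℤ) * Nat.gcdB (r ^ a) m = 1 := by
    have := Nat.gcd_eq_gcd_ab (r ^ a) m
    rw [hcop.gcd_eq_one] at this
    simpa using this.symm
  obtain ⟨A, hA⟩ : ∃ A : ℤ, A = Nat.gcdA (r ^ a) m := ⟨_, rfl⟩
  obtain ⟨B, hB⟩ : ∃ B : ℤ, B = Nat.gcdB (r ^ a) m := ⟨_, rfl⟩
  rw [← hA, ← hB] at hb
  refine ⟨w ^ ((m : ℤ) * B), w ^ (((r ^ a : ℕ) : ℤ) * A), ?_, ?_, ?_, ?_, ?_⟩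
  · rw [← zpow_add, add_comm, hb, zpow_one]
  · exact (Commute.refl w).zpow_zpow _ _
  · have h1 : (w ^ ((m : ℤ) * B)) ^ (r ^ a) = 1 := by
      rw [← zpow_natCast, ← zpow_mul]
      have : (m : ℤ) * B * ((r ^ a : ℕ) : ℤ) = (orderOf w : ℤ) * B := by
        rw [hw]
        push_cast
        ring
      rw [this, zpow_mul, zpow_natCast, pow_orderOf_eq_one, one_zpow]
    obtain ⟨k, -, hk⟩ := (Nat.dvd_prime_pow hr).1 (orderOf_dvd_of_pow_eq_one h1)
    exact ⟨k, hk⟩
  · have h1 : (w ^ (((r ^ a : ℕ) : ℤ) * A)) ^ m = 1 := by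
      rw [← zpow_natCast, ← zpow_mul]
      have : ((r ^ a : ℕ) : ℤ) * A * (m : ℤ) = (orderOf w : ℤ) * A := by
        rw [hw]
        push_cast
        ring
      rw [this, zpow_mul, zpow_natCast, pow_orderOf_eq_one, one_zpow]
    have h2 := orderOf_dvd_of_pow_eq_one h1
    exact Nat.Coprime.coprime_dvd_left h2 ((Nat.Prime.coprime_iff_not_dvd hr).2 hm).symm
  · have h1 : (w ^ (((r ^ a : ℕ) : ℤ) * A)) ^ m = 1 := by
      rw [← zpow_natCast, ← zpow_mul]
      have : ((r ^ a : ℕ) : ℤ) * A * (m : ℤ) = (orderOf w : ℤ) * A := by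
        rw [hw]
        push_cast
        ring
      rw [this, zpow_mul, zpow_natCast, pow_orderOf_eq_one, one_zpow]
    have h2 := orderOf_dvd_of_pow_eq_one h1
    rw [hw]
    exact Dvd.dvd.mul_left h2 _

/-- A representative of a class. -/
noncomputable def repCl {G : Type*} [Group G] (c : ConjClasses G) : G :=
  Classical.choose (ConjClasses.exists_rep c)

theorem mk_repCl {G : Type*} [Group G] (c : ConjClasses G) : ConjClasses.mk (repCl c) = c :=
  Classical.choose_spec (ConjClasses.exists_rep c)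

theorem repCl_mem {G : Type*} [Group G] (c : ConjClasses G) : repCl c ∈ c.carrier :=
  ConjClasses.mem_carrier_iff_mk_eq.2 (mk_repCl c)

section
variable {G : Type u} [Group G] [Finite G]

theorem nPi_le_of_subgroup (σ : Finset ℕ) (hσ : ∀ r ∈ σ, r.Prime) (K : Subgroup G) :
    nPi σ K ≤ nPi σ G := by
  unfold nPi
  refine Finset.prod_le_prod (fun _ _ => Nat.zero_le _) (fun r hr => ?_)
  refine Nat.pow_le_pow_right (hσ r hr).pos ?_
  have h1 : Nat.card K ∣ Nat.card G := Subgroup.card_subgroup_dvd_card K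
  exact (Nat.factorization_le_iff_dvd Nat.card_pos.ne' Nat.card_pos.ne').2 h1 r

/-- The map from pairs of classes. -/
noncomputable def psiCl (r : ℕ) (hr : r.Prime) (σ : Finset ℕ) (hrσ : r ∉ σ)
    (q : Σ c : ClP r G, ClS σ (Subgroup.centralizer ({repCl c.1} : Set G))) :
    ClS (insert r σ) G :=
  ⟨ConjClasses.mk (repCl q.1.1 * ((repCl q.2.1 : Subgroup.centralizer ({repCl q.1.1} : Set G)) : G)), by
    intro v hv s hs hsv
    rw [order_of_mem_mk hv] at hsv
    obtain ⟨k, hk⟩ := q.1.2 _ (repCl_mem q.1.1)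
    have hcomm : Commute (repCl q.1.1)
        ((repCl q.2.1 : Subgroup.centralizer ({repCl q.1.1} : Set G)) : G) :=
      ((Subgroup.mem_centralizer_singleton_iff.1 (repCl q.2.1).2)).symm
    have hx := q.2.2 _ (repCl_mem q.2.1)
    have hcop : (orderOf (repCl q.1.1)).Coprime
        (orderOf ((repCl q.2.1 : Subgroup.centralizer ({repCl q.1.1} : Set G)) : G)) := by
      rw [hk]
      apply Nat.Coprime.pow_left
      rw [Nat.Prime.coprime_iff_not_dvd hr]
      intro hd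
      rw [Subgroup.orderOf_coe] at hd
      exact hrσ (hx r hr hd)
    rw [hcomm.orderOf_mul_eq_mul_orderOf_of_coprime hcop] at hsv
    rcases (Nat.Prime.dvd_mul hs).1 hsv with h | h
    · rw [hk] at h
      have := (Nat.prime_dvd_prime_iff_eq hs hr).1 (hs.dvd_of_dvd_pow h)
      rw [this]
      exact Finset.mem_insert_self _ _
    · rw [Subgroup.orderOf_coe] at h
      exact Finset.mem_insert_of_mem (hx s hs h)⟩

theorem psiCl_surjective (r : ℕ) (hr : r.Prime) (σ : Finset ℕ) (hrσ : r ∉ σ) :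
    Function.Surjective (psiCl (G := G) r hr σ hrσ) := by
  rintro ⟨e, he⟩
  obtain ⟨w, rfl⟩ := ConjClasses.exists_rep e
  obtain ⟨y₀, x₀, hw, hcomm, ⟨k, hk⟩, hcop, hdvd⟩ := exists_part r hr w
  have hcl : ∀ v ∈ (ConjClasses.mk y₀).carrier, ∃ k : ℕ, orderOf v = r ^ k := by
    intro v hv
    rw [order_of_mem_mk hv]
    exact ⟨k, hk⟩
  obtain ⟨c, hc⟩ : ∃ c : ClP r G, c = ⟨ConjClasses.mk y₀, hcl⟩ := ⟨_, rfl⟩
  obtain ⟨y, hy⟩ : ∃ y, y = repCl c.1 := ⟨_, rfl⟩
  have hy1 : ConjClasses.mk y = ConjClasses.mk y₀ := by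
    rw [hy, mk_repCl, hc]
  obtain ⟨g, hg⟩ := isConj_iff.1 (ConjClasses.mk_eq_mk_iff_isConj.1 hy1.symm)
  have hx₁ : g * x₀ * g⁻¹ ∈ Subgroup.centralizer ({repCl c.1} : Set G) := by
    rw [← hy, Subgroup.mem_centralizer_singleton_iff, ← hg]
    have : x₀ * y₀ = y₀ * x₀ := hcomm.eq.symm
    calc g * x₀ * g⁻¹ * (g * y₀ * g⁻¹) = g * (x₀ * y₀) * g⁻¹ := by group
      _ = g * (y₀ * x₀) * g⁻¹ := by rw [this]
      _ = _ := by group
  obtain ⟨x₁, hx₁'⟩ : ∃ x₁ : Subgroup.centralizer ({repCl c.1} : Set G), x₁ = ⟨g * x₀ * g⁻¹, hx₁⟩ :=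
    ⟨_, rfl⟩
  have hox : orderOf x₁ = orderOf x₀ := by
    rw [hx₁', Subgroup.orderOf_mk, H14.orderOf_conj_eq]
  have hcl2 : ∀ v ∈ (ConjClasses.mk x₁).carrier, ∀ s : ℕ, s.Prime → s ∣ orderOf v → s ∈ σ := by
    intro v hv s hs hsv
    rw [order_of_mem_mk hv, hox] at hsv
    have h1 := he w ConjClasses.mem_carrier_mk s hs (hsv.trans hdvd)
    rcases Finset.mem_insert.1 h1 with h2 | h2
    · exfalso
      rw [h2] at hsv
      exact hr.one_lt.ne' (Nat.Coprime.eq_one_of_dvd hcop.symm hsv)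
    · exact h2
  obtain ⟨d, hd⟩ : ∃ d : ClS σ (Subgroup.centralizer ({repCl c.1} : Set G)),
      d = ⟨ConjClasses.mk x₁, hcl2⟩ := ⟨_, rfl⟩
  refine ⟨⟨c, d⟩, Subtype.ext ?_⟩
  show ConjClasses.mk (repCl c.1 * ((repCl d.1 : Subgroup.centralizer ({repCl c.1} : Set G)) : G)) =
    ConjClasses.mk w
  obtain ⟨h, hh⟩ := isConj_iff.1 (ConjClasses.mk_eq_mk_iff_isConj.1
    (show ConjClasses.mk x₁ = ConjClasses.mk (repCl d.1) by rw [mk_repCl, hd]))
  rw [ConjClasses.mk_eq_mk_iff_isConj, isConj_iff]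
  refine ⟨(g⁻¹ * ((h : Subgroup.centralizer ({repCl c.1} : Set G)) : G)⁻¹), ?_⟩
  have hh' : (h : G) * (x₁ : G) * (h : G)⁻¹ =
      ((repCl d.1 : Subgroup.centralizer ({repCl c.1} : Set G)) : G) := congrArg Subtype.val hh
  have hh2 : (x₁ : G) = g * x₀ * g⁻¹ := by rw [hx₁']
  have hyh : (h : G) * y = y * (h : G) := by
    rw [hy]
    exact Subgroup.mem_centralizer_singleton_iff.1 h.2
  have hR : ((repCl d.1 : Subgroup.centralizer ({repCl c.1} : Set G)) : G) =
      (h : G) * (g * x₀ * g⁻¹) * (h : G)⁻¹ := by rw [← hh', hh2]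
  rw [hR]
  have hyy : repCl c.1 = g * y₀ * g⁻¹ := by rw [← hy, ← hg]
  have hyh' : (h : G) * (g * y₀ * g⁻¹) = (g * y₀ * g⁻¹) * (h : G) := by rw [hg]; exact hyh
  obtain ⟨a, ha⟩ : ∃ a : G, a = (h : G) := ⟨_, rfl⟩
  rw [← ha] at hyh' ⊢
  rw [hyy, hw]
  calc g⁻¹ * a⁻¹ * (g * y₀ * g⁻¹ * (a * (g * x₀ * g⁻¹) * a⁻¹)) * (g⁻¹ * a⁻¹)⁻¹
      = g⁻¹ * (a⁻¹ * ((g * y₀ * g⁻¹) * a)) * g * x₀ := by group
    _ = g⁻¹ * (a⁻¹ * (a * (g * y₀ * g⁻¹))) * g * x₀ := by rw [← hyh']
    _ = y₀ * x₀ := by group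

theorem card_clS_insert_le (r : ℕ) (hr : r.Prime) (σ : Finset ℕ) (hrσ : r ∉ σ)
    (hσp : ∀ s ∈ σ, s.Prime)
    (hσ : ∀ (H : Type u) [Group H] [Finite H], Nat.card (ClS σ H) ≤ nPi σ H) :
    Nat.card (ClS (insert r σ) G) ≤ Nat.card (ClP r G) * nPi σ G := by
  classical
  haveI := Fintype.ofFinite (ClP r G)
  have h1 := Nat.card_le_card_of_surjective _ (psiCl_surjective (G := G) r hr σ hrσ)
  refine le_trans h1 ?_
  rw [Nat.card_sigma]
  calc ∑ c : ClP r G, Nat.card (ClS σ (Subgroup.centralizer ({repCl c.1} : Set G)))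
      ≤ ∑ _c : ClP r G, nPi σ G := by
        refine Finset.sum_le_sum (fun c _ => ?_)
        exact (hσ _).trans (nPi_le_of_subgroup σ hσp _)
    _ = Nat.card (ClP r G) * nPi σ G := by
        rw [Finset.sum_const, Finset.card_univ, smul_eq_mul, Nat.card_eq_fintype_card]

theorem card_clP_le (r : ℕ) (hr : r.Prime) :
    Nat.card (ClP r G) ≤ r ^ (Nat.card G).factorization r := by
  haveI : Fact r.Prime := ⟨hr⟩
  rw [← Sylow.card_eq_multiplicity (default : Sylow r G)]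
  exact Nat.card_le_card_of_surjective _ (clOf_surjective (default : Sylow r G))

theorem card_clS_le (σ : Finset ℕ) (hσp : ∀ s ∈ σ, s.Prime) :
    ∀ (H : Type u) [Group H] [Finite H], Nat.card (ClS σ H) ≤ nPi σ H := by
  classical
  induction σ using Finset.induction_on with
  | empty =>
    intro H _ _
    have : Subsingleton (ClS ∅ H) := by
      constructor
      have key : ∀ c : ClS ∅ H, c.1 = ConjClasses.mk 1 := by
        rintro ⟨c, hc⟩
        obtain ⟨g, rfl⟩ := ConjClasses.exists_rep c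
        have h1 : orderOf g = 1 := by
          rw [Nat.eq_one_iff_not_exists_prime_dvd]
          intro p hp hd
          have := hc g ConjClasses.mem_carrier_mk p hp hd
          simp at this
        rw [orderOf_eq_one_iff] at h1
        subst h1
        rfl
      intro a b
      exact Subtype.ext ((key a).trans (key b).symm)
    have h2 : Nat.card (ClS ∅ H) ≤ 1 := Finite.card_le_one_iff_subsingleton.2 this
    simpa [nPi] using h2
  | insert r σ hrσ ih =>
    intro H _ _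
    have hr : r.Prime := hσp r (Finset.mem_insert_self _ _)
    have hσp' : ∀ s ∈ σ, s.Prime := fun s hs => hσp s (Finset.mem_insert_of_mem hs)
    have h1 := card_clS_insert_le (G := H) r hr σ hrσ hσp' (ih hσp')
    have h2 := card_clP_le (G := H) r hr
    have h3 : nPi (insert r σ) H = r ^ (Nat.card H).factorization r * nPi σ H := by
      unfold nPi
      rw [Finset.prod_insert hrσ]
    rw [h3]
    exact h1.trans (Nat.mul_le_mul_right _ h2)

theorem card_clS_le_mul (π : Finset ℕ) (hπ : ∀ s ∈ π, s.Prime) {r : ℕ} (hr : r ∈ π) :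
    Nat.card (ClS π G) ≤ Nat.card (ClP r G) * nPi (π.erase r) G := by
  classical
  have h1 := card_clS_insert_le (G := G) r (hπ r hr) (π.erase r) (Finset.notMem_erase r π)
    (fun s hs => hπ s (Finset.mem_of_mem_erase hs))
    (card_clS_le _ (fun s hs => hπ s (Finset.mem_of_mem_erase hs)))
  rwa [Finset.insert_erase hr] at h1

theorem nPi_eq_mul (π : Finset ℕ) {r : ℕ} (hr : r ∈ π) :
    nPi π G = r ^ (Nat.card G).factorization r * nPi (π.erase r) G := by
  classical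
  unfold nPi
  rw [Finset.mul_prod_erase π (fun r => r ^ (Nat.card G).factorization r) hr]

theorem nPi_pos (π : Finset ℕ) (hπ : ∀ s ∈ π, s.Prime) : 0 < nPi π G := by
  unfold nPi
  exact Finset.prod_pos (fun r hr => pow_pos (hπ r hr).pos _)

/-- Commutators lie in a normal complement of an abelian subgroup. -/
theorem comm_mem_of_complement {N P : Subgroup G} (hN : N.Normal) (hc : N.IsComplement' P)
    (hP : IsMulCommutative P) (x y : G) : x * y * x⁻¹ * y⁻¹ ∈ N := by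
  obtain ⟨⟨a, b⟩, hab⟩ := hc.2 x
  obtain ⟨⟨c, d⟩, hcd⟩ := hc.2 y
  simp only at hab hcd
  rw [← QuotientGroup.eq_one_iff]
  have h1 : ((a : G) : G ⧸ N) = 1 := (QuotientGroup.eq_one_iff _).2 a.2
  have h2 : ((c : G) : G ⧸ N) = 1 := (QuotientGroup.eq_one_iff _).2 c.2
  have h3 : ((b : G) * (d : G)) = (d : G) * (b : G) := congrArg Subtype.val (hP.is_comm.comm b d)
  have h4 : ((b : G) : G ⧸ N) * ((d : G) : G ⧸ N) = ((d : G) : G ⧸ N) * ((b : G) : G ⧸ N) := by
    rw [← QuotientGroup.mk_mul, ← QuotientGroup.mk_mul, h3]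
  rw [← hab, ← hcd]
  simp only [QuotientGroup.mk_mul, QuotientGroup.mk_inv, mul_inv_rev, h1, h2, one_mul, inv_one, mul_one]
  rw [h4]
  group

theorem index_inf_dvd (A B : Subgroup G) [B.Normal] : (A ⊓ B).index ∣ A.index * B.index := by
  have h1 : (A ⊓ B).relIndex A * A.index = (A ⊓ B).index := Subgroup.relIndex_mul_index inf_le_left
  have h2 : (A ⊓ B).relIndex A = B.relIndex A := Subgroup.inf_relIndex_left A B ▸ rfl
  rw [← h1, h2, mul_comm]
  exact Nat.mul_dvd_mul_left _ (Subgroup.relIndex_dvd_index_of_normal B A)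

/-- Intersecting normal complements. -/
theorem exists_inter_complements (Q : Subgroup G → Prop) (hQ1 : Q ⊤)
    (hQ2 : ∀ A B, Q A → Q B → Q (A ⊓ B)) (s : Finset ℕ) (hs : ∀ r ∈ s, r.Prime)
    (h : ∀ r ∈ s, ∃ N : Subgroup G, N.Normal ∧ (Nat.card N).Coprime r ∧ (∃ k, N.index = r ^ k) ∧ Q N) :
    ∃ N : Subgroup G, N.Normal ∧ (∀ r : ℕ, r.Prime → r ∣ Nat.card N → r ∉ s) ∧
      (∀ r : ℕ, r.Prime → r ∣ N.index → r ∈ s) ∧ Q N := by
  classical
  induction s using Finset.induction_on with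
  | empty =>
    refine ⟨⊤, inferInstance, fun r _ _ => by simp, fun r hr hd => ?_, hQ1⟩
    rw [Subgroup.index_top] at hd
    exact absurd (Nat.dvd_one.1 hd) hr.ne_one
  | insert a s ha ih =>
    obtain ⟨N₁, hN₁, h1, h2, h3⟩ := ih (fun r hr => hs r (Finset.mem_insert_of_mem hr))
      (fun r hr => h r (Finset.mem_insert_of_mem hr))
    obtain ⟨N₂, hN₂, h4, ⟨k, h5⟩, h6⟩ := h a (Finset.mem_insert_self _ _)
    have haP : a.Prime := hs a (Finset.mem_insert_self _ _)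
    haveI := hN₁
    haveI := hN₂
    refine ⟨N₁ ⊓ N₂, inferInstance, fun r hr hd hm => ?_, fun r hr hd => ?_, hQ2 _ _ h3 h6⟩
    · rcases Finset.mem_insert.1 hm with rfl | hm
      · have h7 : Nat.card (N₁ ⊓ N₂ : Subgroup G) ∣ Nat.card N₂ :=
          Subgroup.card_dvd_of_le inf_le_right
        exact hr.one_lt.ne' (Nat.Coprime.eq_one_of_dvd h4.symm (hd.trans h7))
      · have h7 : Nat.card (N₁ ⊓ N₂ : Subgroup G) ∣ Nat.card N₁ :=
          Subgroup.card_dvd_of_le inf_le_left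
        exact h1 r hr (hd.trans h7) hm
    · have h7 := hd.trans (index_inf_dvd N₁ N₂)
      rcases (Nat.Prime.dvd_mul hr).1 h7 with h8 | h8
      · exact Finset.mem_insert_of_mem (h2 r hr h8)
      · rw [h5] at h8
        have := (Nat.prime_dvd_prime_iff_eq hr haP).1 (hr.dvd_of_dvd_pow h8)
        rw [this]
        exact Finset.mem_insert_self _ _

theorem exists_hall_comm (s : Set ℕ) {N : Subgroup G} (hN : N.Normal)
    (h1 : ∀ r : ℕ, r.Prime → r ∣ Nat.card N → r ∉ s) (h2 : ∀ r : ℕ, r.Prime → r ∣ N.index → r ∈ s)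
    (h3 : ∀ x y : G, x * y * x⁻¹ * y⁻¹ ∈ N) :
    ∃ H : Subgroup G, IsPiHall s H ∧ IsMulCommutative H := by
  classical
  have hcop : Nat.Coprime (Nat.card N) N.index := by
    rw [Nat.coprime_iff_gcd_eq_one] at *
    by_contra hne
    obtain ⟨q, hq, hd⟩ := Nat.exists_prime_and_dvd hne
    exact h1 q hq (hd.trans (Nat.gcd_dvd_left _ _)) (h2 q hq (hd.trans (Nat.gcd_dvd_right _ _)))
  obtain ⟨H, hH⟩ := Subgroup.exists_right_complement'_of_coprime hcop
  refine ⟨H, ⟨fun r hr hd => ?_, fun r hr hm hd => ?_⟩, ?_⟩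
  · rw [← hH.symm.index_eq_card] at hd
    exact h2 r hr hd
  · rw [hH.index_eq_card] at hd
    exact h1 r hr hd hm
  · refine ⟨⟨fun a b => Subtype.ext ?_⟩⟩
    have h4 : (a : G) * b * (a : G)⁻¹ * (b : G)⁻¹ ∈ N := h3 a b
    have h5 : (a : G) * b * (a : G)⁻¹ * (b : G)⁻¹ ∈ H :=
      Subgroup.mul_mem _ (Subgroup.mul_mem _ (Subgroup.mul_mem _ a.2 b.2) (Subgroup.inv_mem _ a.2))
        (Subgroup.inv_mem _ b.2)
    have h6 : (a : G) * b * (a : G)⁻¹ * (b : G)⁻¹ = 1 := by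
      have := hH.disjoint
      exact Subgroup.disjoint_def.1 this h4 h5
    have h7 : (a : G) * b * (a : G)⁻¹ = b := mul_inv_eq_one.1 h6
    exact mul_inv_eq_iff_eq_mul.1 h7

end

end Cfsg.Agent.H18
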