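import Mathlib
import Cfsg.Agent.Lib.H25.MaxClass
import Cfsg.Agent.Lib.H06.Nilp

/-!
Two-groups of maximal class have a cyclic subgroup of index two (Taussky).
-/

namespace Cfsg.Agent.H18

universe u

theorem exists_of_card_two {G : Type*} [Group G] (K : Subgroup G) (h : Nat.card K = 2) :
    ∃ z ∈ K, z ≠ 1 ∧ z ^ 2 = 1 ∧ ∀ y ∈ K, y = 1 ∨ y = z := by
  obtain ⟨z, hz, hu⟩ := (Nat.card_eq_two_iff' (1 : K)).mp h
  haveI : Finite K := Nat.finite_of_card_ne_zero (by omega)
  refine ⟨z, z.2, fun h0 => hz (Subtype.ext h0), ?_, ?_⟩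
  · have := pow_card_eq_one' (G := K) (x := z)
    rw [h] at this
    simpa using congrArg Subtype.val this
  · intro y hy
    by_cases hy1 : y = 1
    · exact Or.inl hy1
    · right
      have := hu ⟨y, hy⟩ (fun h0 => hy1 (congrArg Subtype.val h0))
      exact congrArg Subtype.val this

/-- A group whose squares are trivial is commutative. -/
theorem comm_of_sq_eq_one {G : Type*} [Group G] (h2 : ∀ g : G, g ^ 2 = 1) (a b : G) :
    a * b = b * a := by
  have hinv : ∀ g : G, g⁻¹ = g := fun g => inv_eq_of_mul_eq_one_left (by rw [← sq]; exact h2 g)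
  rw [← hinv (a * b), mul_inv_rev, hinv, hinv]

/-- Commutativity from a central element generating an index-two subgroup. -/
theorem comm_of_zpowers_index_two {Q : Type*} [Group Q] [Finite Q] {u v : Q}
    (hi : (Subgroup.zpowers u).index = 2) (hv : v ∉ Subgroup.zpowers u) (huv : u * v = v * u)
    (g h : Q) : g * h = h * g := by
  have hN : (Subgroup.zpowers u).Normal := Subgroup.normal_of_index_eq_two hi
  have hc : ∀ g : Q, u * g = g * u := by
    intro g
    by_cases hg : g ∈ Subgroup.zpowers u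
    · obtain ⟨i, rfl⟩ := Subgroup.mem_zpowers_iff.mp hg
      exact ((Commute.refl u).zpow_right i).eq
    · have h1 : v⁻¹ * g ∈ Subgroup.zpowers u := by
        rw [Subgroup.mul_mem_iff_of_index_two hi]
        constructor
        · intro h
          exact absurd ((Subgroup.inv_mem_iff _).mp h) hv
        · intro h
          exact absurd h hg
      obtain ⟨i, hi'⟩ := Subgroup.mem_zpowers_iff.mp h1
      have h2 : g = v * u ^ i := by
        rw [hi']
        group
      rw [h2]
      have h3 : Commute u (v * u ^ i) :=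
        Commute.mul_right (show Commute u v from huv) ((Commute.refl u).zpow_right i)
      exact h3.eq
  haveI : Fact (Nat.card (Q ⧸ Subgroup.zpowers u)).Prime := ⟨by
    show (Subgroup.zpowers u).index.Prime
    rw [hi]
    exact Nat.prime_two⟩
  haveI : IsCyclic (Q ⧸ Subgroup.zpowers u) := isCyclic_of_prime_card rfl
  have h1 : (QuotientGroup.mk' (Subgroup.zpowers u)).ker ≤ Subgroup.center Q := by
    rw [QuotientGroup.ker_mk', Subgroup.zpowers_le, Subgroup.mem_center_iff]
    intro g
    exact (hc g).symm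
  have h2 := MonoidHom.isMulCommutative_of_isCyclic_of_ker_le_center
    (QuotientGroup.mk' (Subgroup.zpowers u)) h1
  exact (isMulCommutative_iff.mp h2) g h

theorem exists_order_maxClass (n : ℕ) (hn : 3 ≤ n) :
    ∀ (G : Type u) [Group G] [Finite G], Nat.card G = 2 ^ n →
      (⊤ : Subgroup G).lowerCentralSeries (n - 2) ≠ ⊥ → ∃ a : G, orderOf a = 2 ^ (n - 1) := by
  induction n, hn using Nat.le_induction with
  | base =>
    intro G _ _ hG hmax
    by_contra hno
    push Not at hno
    apply hmax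
    show (⊤ : Subgroup G).lowerCentralSeries 1 = ⊥
    rw [Subgroup.lowerCentralSeries_one_eq_bot_iff, isMulCommutative_iff]
    by_contra hnc
    apply hnc
    apply comm_of_sq_eq_one
    intro g
    have h1 : orderOf g ∣ 2 ^ 3 := hG ▸ orderOf_dvd_natCard g
    obtain ⟨k, hk, hkg⟩ := (Nat.dvd_prime_pow Nat.prime_two).mp h1
    interval_cases k
    · rw [pow_zero, orderOf_eq_one_iff] at hkg
      rw [hkg, one_pow]
    · rw [pow_one] at hkg
      rw [← hkg, pow_orderOf_eq_one]
    · exact absurd hkg (hno g)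
    · exfalso
      haveI : IsCyclic G := isCyclic_of_orderOf_eq_card g (by rw [hkg, hG])
      apply hnc
      exact isMulCommutative_iff.mp IsCyclic.isMulCommutative
  | succ n hn ih =>
    intro G _ _ hG hmax
    classical
    haveI : Fact (Nat.Prime 2) := ⟨Nat.prime_two⟩
    have hGp : IsPGroup 2 G := IsPGroup.of_card hG
    haveI hnil : Group.IsNilpotent G := hGp.isNilpotent
    obtain ⟨-, hc⟩ := H25.card_upperCentralSeries_of_maxClass hGp hG (by omega) hmax
    have hZ2 : Nat.card (Subgroup.center G) = 2 := by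
      have := hc 1 (by omega)
      rwa [Subgroup.upperCentralSeries_one, pow_one] at this
    obtain ⟨z, hzZ, hz1, hzz, hZu⟩ := exists_of_card_two _ hZ2
    set Z := Subgroup.center G with hZdef
    have hQcard : Nat.card (G ⧸ Z) = 2 ^ n := by
      have h1 := Subgroup.card_eq_card_quotient_mul_card_subgroup Z
      rw [hG, hZ2, pow_succ] at h1
      exact (Nat.eq_of_mul_eq_mul_right (by norm_num) h1).symm
    have hmapL : ((⊤ : Subgroup G).lowerCentralSeries (n - 2)).map (QuotientGroup.mk' Z) =
        (⊤ : Subgroup (G ⧸ Z)).lowerCentralSeries (n - 2) := by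
      rw [Subgroup.map_lowerCentralSeries, Subgroup.map_top_of_surjective _ (QuotientGroup.mk'_surjective Z)]
    have hQmax : (⊤ : Subgroup (G ⧸ Z)).lowerCentralSeries (n - 2) ≠ ⊥ := by
      intro h0
      rw [← hmapL, Subgroup.map_eq_bot_iff, QuotientGroup.ker_mk'] at h0
      apply hmax
      rw [show n + 1 - 2 = (n - 2) + 1 by omega, Subgroup.lowerCentralSeries_succ, eq_bot_iff]
      refine (Subgroup.commutator_mono h0 le_rfl).trans ?_
      rw [Subgroup.commutator_le]
      intro g hg h _
      rw [Subgroup.mem_bot, commutatorElement_def]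
      have := Subgroup.mem_center_iff.mp hg h
      rw [← this]
      group
    obtain ⟨abar, habar⟩ := ih (G ⧸ Z) hQcard hQmax
    obtain ⟨a, rfl⟩ := QuotientGroup.mk_surjective abar
    have hmkpow : ∀ (b : G) (m : ℤ), ((b ^ m : G) : G ⧸ Z) = (b : G ⧸ Z) ^ m := fun b m => QuotientGroup.mk_zpow _ _ _
    -- the power in the centre
    have hazZ : a ^ (2 ^ (n - 1)) ∈ Z := by
      apply (QuotientGroup.eq_one_iff _).mp
      rw [QuotientGroup.mk_pow, ← habar, pow_orderOf_eq_one]
    by_cases hap : a ^ (2 ^ (n - 1)) = 1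
    swap
    · refine ⟨a, ?_⟩
      have h1 : a ^ (2 ^ (n - 1)) = z := (hZu _ hazZ).resolve_left hap
      have h2 : a ^ (2 ^ (n - 1 + 1)) = 1 := by
        rw [pow_succ, pow_mul, h1, hzz]
      have h3 := orderOf_eq_prime_pow hap h2
      rwa [show n - 1 + 1 = n by omega] at h3
    exfalso
    have hao : orderOf a = 2 ^ (n - 1) := by
      apply Nat.dvd_antisymm (orderOf_dvd_of_pow_eq_one hap)
      rw [← habar]
      exact orderOf_map_dvd (QuotientGroup.mk' Z) a
    -- no power of `a` lies in the centre, except the trivial one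
    have hinter : ∀ m : ℤ, a ^ m ∈ Z → a ^ m = 1 := by
      intro m hm
      have h1 : ((a : G ⧸ Z)) ^ m = 1 := by
        rw [← hmkpow]
        exact (QuotientGroup.eq_one_iff _).mpr hm
      have h2 := orderOf_dvd_iff_zpow_eq_one.mpr h1
      rw [habar, ← hao] at h2
      exact orderOf_dvd_iff_zpow_eq_one.mp h2
    -- the index two subgroup
    set Abar := Subgroup.zpowers (a : G ⧸ Z) with hAbar
    have hAbarI : Abar.index = 2 := by
      have h1 := Subgroup.card_mul_index Abar
      rw [hQcard, hAbar, Nat.card_zpowers, habar, show n = (n - 1) + 1 by omega, pow_succ] at h1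
      simp only [Nat.add_sub_cancel] at h1
      exact Nat.eq_of_mul_eq_mul_left (by positivity) h1
    set A := Abar.comap (QuotientGroup.mk' Z) with hA
    have hAI : A.index = 2 := by
      rw [hA, Subgroup.index_comap_of_surjective _ (QuotientGroup.mk'_surjective Z)]
      exact hAbarI
    have hAn : A.Normal := Subgroup.normal_of_index_eq_two hAI
    have haA : a ∈ A := Subgroup.mem_zpowers (a : G ⧸ Z)
    have hform : ∀ b ∈ A, ∃ (i : ℤ) (w : G), w ∈ Z ∧ b = a ^ i * w := by
      intro b hb
      obtain ⟨i, hi⟩ := Subgroup.mem_zpowers_iff.mp hb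
      refine ⟨i, (a ^ i)⁻¹ * b, ?_, by group⟩
      apply (QuotientGroup.eq_one_iff _).mp
      rw [QuotientGroup.mk_mul, QuotientGroup.mk_inv, hmkpow]
      have hi' : (a : G ⧸ Z) ^ i = (b : G ⧸ Z) := hi
      rw [hi']
      group
    obtain ⟨x, hx⟩ : ∃ x, x ∉ A := by
      by_contra hcon
      push Not at hcon
      have : A = ⊤ := eq_top_iff.mpr (fun g _ => hcon g)
      rw [this, Subgroup.index_top] at hAI
      omega
    have hcommA : ∀ b ∈ A, ∀ b' ∈ A, b * b' = b' * b := by
      intro b hb b' hb'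
      obtain ⟨i, w, hw, rfl⟩ := hform b hb
      obtain ⟨j, w', hw', rfl⟩ := hform b' hb'
      have h1 : Commute (a ^ i) (a ^ j) := (Commute.refl a).zpow_zpow i j
      have h2 : Commute (a ^ i) w' := Subgroup.mem_center_iff.mp hw' _
      have h3 : Commute w (a ^ j) := (Subgroup.mem_center_iff.mp hw (a ^ j)).symm
      have h4 : Commute w w' := Subgroup.mem_center_iff.mp hw' w
      exact (Commute.mul_left (Commute.mul_right h1 h2) (Commute.mul_right h3 h4)).eq
    set c := a * x * a⁻¹ * x⁻¹ with hc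
    set β := x * a⁻¹ * x⁻¹ with hβ
    have hβA : β ∈ A := hAn.conj_mem _ (A.inv_mem haA) x
    have hab : Commute a β := hcommA a haA β hβA
    have hcβ : c = a * β := by
      rw [hc, hβ]
      group
    have hcA : c ∈ A := by
      rw [hcβ]
      exact A.mul_mem haA hβA
    have hτ : ∀ (i : ℤ) (w : G), w ∈ Z → (a ^ i * w) * x * (a ^ i * w)⁻¹ * x⁻¹ = c ^ i := by
      intro i w hw
      have e2 : c ^ i = a ^ i * β ^ i := by
        rw [hcβ, hab.mul_zpow]
      have e3 : β ^ i = x * (a⁻¹) ^ i * x⁻¹ := conj_zpow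
      have e4 : w * x = x * w := (Subgroup.mem_center_iff.mp hw x).symm
      rw [e2, e3, inv_zpow]
      calc (a ^ i * w) * x * (a ^ i * w)⁻¹ * x⁻¹
          = a ^ i * (w * x) * w⁻¹ * (a ^ i)⁻¹ * x⁻¹ := by group
        _ = a ^ i * (x * w) * w⁻¹ * (a ^ i)⁻¹ * x⁻¹ := by rw [e4]
        _ = a ^ i * (x * (a ^ i)⁻¹ * x⁻¹) := by group
    have hconj : ∀ g : G, ∃ m : ℤ, g * c * g⁻¹ = c ^ m := by
      intro g
      by_cases hg : g ∈ A
      · refine ⟨1, ?_⟩
        rw [hcommA g hg c hcA, zpow_one]
        group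
      · have hb : x⁻¹ * g ∈ A := by
          rw [Subgroup.mul_mem_iff_of_index_two hAI]
          exact ⟨fun h => absurd ((Subgroup.inv_mem_iff _).mp h) hx, fun h => absurd h hg⟩
        have hα : x * a * x⁻¹ ∈ A := hAn.conj_mem _ haA x
        obtain ⟨j, w, hw, hαj⟩ := hform _ hα
        refine ⟨j, ?_⟩
        have h1 := hτ j w hw
        rw [← hαj] at h1
        have h2 : (x⁻¹ * g) * c * (x⁻¹ * g)⁻¹ = c := by
          rw [hcommA _ hb c hcA]
          group
        calc g * c * g⁻¹ = x * ((x⁻¹ * g) * c * (x⁻¹ * g)⁻¹) * x⁻¹ := by group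
          _ = x * c * x⁻¹ := by rw [h2]
          _ = (x * a * x⁻¹) * x * (x * a * x⁻¹)⁻¹ * x⁻¹ := by
            rw [hc]
            group
          _ = c ^ j := h1
    have hTn : (Subgroup.zpowers c).Normal := by
      constructor
      intro u hu g
      obtain ⟨m, rfl⟩ := Subgroup.mem_zpowers_iff.mp hu
      obtain ⟨k, hk⟩ := hconj g
      rw [← conj_zpow, hk]
      exact Subgroup.zpow_mem _ (Subgroup.zpow_mem _ (Subgroup.mem_zpowers c) k) m
    have hcZ : c ∈ Z := by
      by_contra hcn
      have hc1 : c ≠ 1 := fun h => hcn (h ▸ Z.one_mem)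
      have hTne : Subgroup.zpowers c ≠ ⊥ := by
        rw [Ne, Subgroup.zpowers_eq_bot]
        exact hc1
      obtain ⟨y, hyT, hy1, hyZ⟩ := H06.exists_central_of_normal hTn hTne
      have hyz : y = z := (hZu y hyZ).resolve_left hy1
      rw [hyz] at hyT
      obtain ⟨k, hk⟩ := Subgroup.mem_zpowers_iff.mp hyT
      obtain ⟨i, w, hw, hcw⟩ := hform c hcA
      have hcm : Commute (a ^ i) w := Subgroup.mem_center_iff.mp hw _
      have h1 : z = a ^ (i * k) * w ^ k := by
        rw [← hk, hcw, hcm.mul_zpow, zpow_mul]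
      have h2 : a ^ (i * k) ∈ Z := by
        have h3 : a ^ (i * k) = z * (w ^ k)⁻¹ := by
          rw [h1]
          group
        rw [h3]
        exact Z.mul_mem hzZ (Z.inv_mem (Z.zpow_mem hw k))
      have h3 := hinter _ h2
      rw [h3, one_mul] at h1
      have hw1 : w ≠ 1 := by
        rintro rfl
        rw [one_zpow] at h1
        exact hz1 h1
      have hwz : w = z := (hZu w hw).resolve_left hw1
      rw [hwz] at h1
      have hodd : Odd k := by
        by_contra hne
        rw [Int.not_odd_iff_even] at hne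
        obtain ⟨m, hm⟩ := hne
        rw [hm, ← two_mul, zpow_mul] at h1
        have : z ^ (2 : ℤ) = 1 := by
          rw [zpow_two, ← sq, hzz]
        rw [this, one_zpow] at h1
        exact hz1 h1
      have hdvd : ((orderOf a : ℕ) : ℤ) ∣ i * k := orderOf_dvd_iff_zpow_eq_one.mpr h3
      have hco : IsCoprime (2 : ℤ) k := by
        obtain ⟨m, hm⟩ := hodd
        exact ⟨-m, 1, by rw [hm]; ring⟩
      have hdvd2 : ((orderOf a : ℕ) : ℤ) ∣ i := by
        rw [hao] at hdvd ⊢
        push_cast at hdvd ⊢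
        exact (hco.pow_left).dvd_of_dvd_mul_right hdvd
      have hai : a ^ i = 1 := orderOf_dvd_iff_zpow_eq_one.mp hdvd2
      rw [hai, one_mul] at hcw
      exact hcn (hcw ▸ hw)
    have hcb : ((c : G) : G ⧸ Z) = 1 := (QuotientGroup.eq_one_iff _).mpr hcZ
    have huv : (a : G ⧸ Z) * (x : G ⧸ Z) = (x : G ⧸ Z) * (a : G ⧸ Z) := by
      have h1 : (a : G ⧸ Z) * (x : G ⧸ Z) * (a : G ⧸ Z)⁻¹ * (x : G ⧸ Z)⁻¹ = 1 := hcb
      have h2 := mul_inv_eq_one.mp h1
      exact mul_inv_eq_iff_eq_mul.mp h2
    have hxbar : (x : G ⧸ Z) ∉ Subgroup.zpowers (a : G ⧸ Z) := hx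
    have hQc := comm_of_zpowers_index_two hAbarI hxbar huv
    apply hQmax
    rw [eq_bot_iff, ← (Subgroup.lowerCentralSeries_one_eq_bot_iff (G := G ⧸ Z)).mpr
      (isMulCommutative_iff.mpr hQc)]
    exact Subgroup.lowerCentralSeries_antitone _ (by omega)

end Cfsg.Agent.H18
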