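import Mathlib
import Cfsg.Agent.Lib.H18.Basic
import Cfsg.Agent.Lib.H18.Syl
import Cfsg.Agent.Lib.H18.Nilp
import Cfsg.Agent.Lib.H18.PGroup
import Cfsg.Agent.Lib.H13.Basic
import Cfsg.Agent.Lib.H19.Lifts
import Cfsg.Agent.Lib.H19.CyclicSylow

/-! Nilpotent minimal covers: abelian Sylow subgroups. -/

namespace Cfsg.Agent.H18

variable {G : Type*} [Group G]

/-- `𝓐` is a nilpotent minimal cover. -/
def IsMinCover (𝓐 : Finset (Subgroup G)) : Prop :=
  ((∀ A ∈ 𝓐, A ≠ ⊤) ∧ (∀ g : G, ∃ A ∈ 𝓐, g ∈ A)) ∧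
    (∀ 𝓑 : Finset (Subgroup G), (∀ A ∈ 𝓑, A ≠ ⊤) ∧ (∀ g : G, ∃ A ∈ 𝓑, g ∈ A) → 𝓐.card ≤ 𝓑.card) ∧
    (∀ A ∈ 𝓐, Group.IsNilpotent ↥A)

/-- Members inside a proper subgroup can be replaced by it: at most one such member. -/
theorem replace_card_le {𝓐 : Finset (Subgroup G)} (h : IsMinCover 𝓐) {M : Subgroup G}
    (hM : M ≠ ⊤) {𝓓 : Finset (Subgroup G)} (h𝓓 : 𝓓 ⊆ 𝓐) (hle : ∀ D ∈ 𝓓, D ≤ M) : 𝓓.card ≤ 1 := by
  classical
  have h0 := h.2.1 (insert M (𝓐 \ 𝓓)) ⟨?_, ?_⟩
  · have h1 : (insert M (𝓐 \ 𝓓)).card ≤ (𝓐 \ 𝓓).card + 1 := Finset.card_insert_le _ _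
    have h2 : (𝓐 \ 𝓓).card = 𝓐.card - 𝓓.card := Finset.card_sdiff_of_subset h𝓓
    have h3 : 𝓓.card ≤ 𝓐.card := Finset.card_le_card h𝓓
    omega
  · intro B hB
    rw [Finset.mem_insert] at hB
    rcases hB with rfl | hB
    · exact hM
    · exact h.1.1 B (Finset.mem_sdiff.mp hB).1
  · intro g
    obtain ⟨A, hA, hgA⟩ := h.1.2 g
    by_cases hAD : A ∈ 𝓓
    · exact ⟨M, Finset.mem_insert_self _ _, hle A hAD hgA⟩
    · exact ⟨A, Finset.mem_insert_of_mem (Finset.mem_sdiff.mpr ⟨hA, hAD⟩), hgA⟩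

theorem mem_of_mul_mem_of_coprime {B : Subgroup G} {a b : G} (hab : Commute a b)
    (hc : (orderOf a).Coprime (orderOf b)) (h : a * b ∈ B) : a ∈ B ∧ b ∈ B := by
  -- k ≡ 1 mod |a|, k ≡ 0 mod |b|
  have key : ∀ {a b : G}, Commute a b → (orderOf a).Coprime (orderOf b) → a * b ∈ B → a ∈ B := by
    intro a b hab hc h
    obtain ⟨k, hk1, hk2⟩ : ∃ k : ℕ, k ≡ 1 [MOD orderOf a] ∧ k ≡ 0 [MOD orderOf b] := by
      let c := Nat.chineseRemainder hc 1 0
      exact ⟨c.1, c.2.1, c.2.2⟩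
    have h1 : (a * b) ^ k = a := by
      rw [hab.mul_pow]
      have h2 : a ^ k = a := by
        rw [← pow_mod_orderOf, hk1, pow_mod_orderOf, pow_one]
      have h3 : b ^ k = 1 := by
        rw [← pow_mod_orderOf, hk2, pow_mod_orderOf, pow_zero]
      rw [h2, h3, mul_one]
    rw [← h1]
    exact B.pow_mem h k
  exact ⟨key hab hc h, key hab.symm hc.symm (hab.symm.eq ▸ h)⟩

section Main

variable [Finite G] {p : ℕ} [Fact p.Prime]

theorem sylow_comm_of_conj (P : Sylow p G) (hab : IsMulCommutative ↥(P : Subgroup G)) (Q : Sylow p G) :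
    ∀ a ∈ (Q : Subgroup G), ∀ b ∈ (Q : Subgroup G), a * b = b * a := by
  obtain ⟨g, rfl⟩ := MulAction.exists_smul_eq G P Q
  intro a ha b hb
  rw [Sylow.coe_subgroup_smul] at ha hb
  have ha' : g⁻¹ * a * g ∈ (P : Subgroup G) := mem_conj.mp ha
  have hb' : g⁻¹ * b * g ∈ (P : Subgroup G) := mem_conj.mp hb
  have h1 := congrArg Subtype.val ((isMulCommutative_iff.mp hab) ⟨_, ha'⟩ ⟨_, hb'⟩)
  simp only [Subgroup.coe_mul] at h1
  have h2 : g⁻¹ * (a * b) * g = g⁻¹ * (b * a) * g := by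
    calc g⁻¹ * (a * b) * g = (g⁻¹ * a * g) * (g⁻¹ * b * g) := by group
      _ = (g⁻¹ * b * g) * (g⁻¹ * a * g) := h1
      _ = g⁻¹ * (b * a) * g := by group
  have h3 : g⁻¹ * (a * b) = g⁻¹ * (b * a) := mul_right_cancel h2
  exact mul_left_cancel h3

/-- In a nilpotent subgroup, a `p`-element commutes with everything if Sylow `p`-subgroups are
abelian. -/
theorem commute_of_abelian_sylow (P : Sylow p G) (hab : IsMulCommutative ↥(P : Subgroup G))
    {A : Subgroup G} (hA : Group.IsNilpotent ↥A) {w b : G} (hw : w ∈ A) {k : ℕ}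
    (hwo : orderOf w = p ^ k) (hb : b ∈ A) : Commute w b := by
  classical
  have hp : p.Prime := Fact.out
  obtain ⟨u, v, huv, hcomm, hu, hv, -, -⟩ := H19.exists_pi_decomp ({p} : Set ℕ) (⟨b, hb⟩ : A)
  have hw' : orderOf (⟨w, hw⟩ : A) = p ^ k := by rw [Subgroup.orderOf_mk, hwo]
  -- u is a p-element
  obtain ⟨m, hm⟩ : ∃ m, orderOf u = p ^ m := by
    have h1 : orderOf u ≠ 0 := (orderOf_pos u).ne'
    exact ⟨_, Nat.eq_prime_pow_of_unique_prime_dvd h1 (fun {r} hr hd => by simpa using hu r hr hd)⟩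
  -- v is p'
  have hvc : (orderOf (⟨w, hw⟩ : A)).Coprime (orderOf v) := by
    rw [hw']
    apply Nat.Coprime.pow_left
    rw [Nat.Prime.coprime_iff_not_dvd hp]
    intro hd
    exact hv p hp hd rfl
  have h1 : Commute (⟨w, hw⟩ : A) v := commute_of_coprime_orderOf A _ _ hvc
  -- u and w lie in an abelian Sylow
  have h2 : Commute (⟨w, hw⟩ : A) u := by
    obtain ⟨T⟩ : Nonempty (Sylow p A) := inferInstance
    have hTn : (T : Subgroup A).Normal := Sylow.normal_of_normalizerCondition (Group.normalizerCondition_of_isNilpotent (G := A)) T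
    have hzw : IsPGroup p (Subgroup.zpowers (⟨w, hw⟩ : A)) := H19.isPGroup_zpowers_of_orderOf hw'
    have hzu : IsPGroup p (Subgroup.zpowers u) := H19.isPGroup_zpowers_of_orderOf hm
    have hwT := le_of_isPGroup_of_normal_sylow T hTn hzw (Subgroup.mem_zpowers _)
    have huT := le_of_isPGroup_of_normal_sylow T hTn hzu (Subgroup.mem_zpowers _)
    have hpg : IsPGroup p ((T : Subgroup A).map A.subtype) :=
      (T.isPGroup'.map A.subtype)
    obtain ⟨Q, hQ⟩ := hpg.exists_le_sylow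
    have := sylow_comm_of_conj P hab Q w (hQ ⟨_, hwT, rfl⟩) (u : G) (hQ ⟨_, huT, rfl⟩)
    exact Subtype.ext this
  have h3 : Commute (⟨w, hw⟩ : A) ⟨b, hb⟩ := by
    rw [huv]
    exact h2.mul_right h1
  exact congrArg Subtype.val h3

/-- A nontrivial `p`-element lies in just one member of the cover. -/
theorem unique_member (hZ : Subgroup.center G = ⊥) {𝓐 : Finset (Subgroup G)} (h : IsMinCover 𝓐)
    (P : Sylow p G) (hab : IsMulCommutative ↥(P : Subgroup G)) {w : G} (hw1 : w ≠ 1) {k : ℕ}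
    (hwo : orderOf w = p ^ k) {B₁ B₂ : Subgroup G} (hB₁ : B₁ ∈ 𝓐) (hB₂ : B₂ ∈ 𝓐)
    (hw₁ : w ∈ B₁) (hw₂ : w ∈ B₂) : B₁ = B₂ := by
  classical
  have hM : Subgroup.centralizer ({w} : Set G) ≠ ⊤ := by
    intro hC
    have : w ∈ Subgroup.center G := by
      rw [Subgroup.mem_center_iff]
      intro g
      have hg : g ∈ Subgroup.centralizer ({w} : Set G) := hC ▸ Subgroup.mem_top g
      exact Subgroup.mem_centralizer_singleton_iff.mp hg
    rw [hZ, Subgroup.mem_bot] at this
    exact hw1 this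
  have hcard := replace_card_le h hM (𝓓 := 𝓐.filter (fun B => w ∈ B)) (Finset.filter_subset _ _) (by
    intro D hD b hb
    obtain ⟨hD1, hD2⟩ := Finset.mem_filter.mp hD
    exact Subgroup.mem_centralizer_singleton_iff.mpr
      (commute_of_abelian_sylow P hab (h.2.2 D hD1) hD2 hwo hb).symm)
  exact Finset.card_le_one.mp hcard B₁ (Finset.mem_filter.mpr ⟨hB₁, hw₁⟩) B₂ (Finset.mem_filter.mpr ⟨hB₂, hw₂⟩)

theorem exists_pow_order_prime {u : G} (hu1 : u ≠ 1) {k : ℕ} (huo : orderOf u = p ^ k) :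
    ∃ m, orderOf (u ^ m) = p := by
  have hp : p.Prime := Fact.out
  have hk0 : k ≠ 0 := by
    rintro rfl
    rw [pow_zero, orderOf_eq_one_iff] at huo
    exact hu1 huo
  obtain ⟨k', rfl⟩ := Nat.exists_eq_succ_of_ne_zero hk0
  refine ⟨p ^ k', ?_⟩
  rw [orderOf_pow_of_dvd (pow_ne_zero _ hp.ne_zero), huo, Nat.succ_eq_add_one, pow_succ]
  · exact Nat.mul_div_cancel_left _ (pow_pos hp.pos _)
  · rw [huo]; exact pow_dvd_pow _ (Nat.le_succ _)

theorem orderOf_of_mem_sylow (P : Sylow p G) {u : G} (hu : u ∈ (P : Subgroup G)) :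
    ∃ k, orderOf u = p ^ k := by
  obtain ⟨k, hk⟩ := IsPGroup.iff_orderOf.mp P.isPGroup' ⟨u, hu⟩
  exact ⟨k, by rw [← hk, Subgroup.orderOf_mk]⟩

theorem mem_sylow_of_mem_centralizer (P : Sylow p G) {a : G} {k : ℕ} (ha : orderOf a = p ^ k)
    (hC : a ∈ Subgroup.centralizer (((P : Subgroup G)) : Set G)) : a ∈ (P : Subgroup G) :=
  H19.mem_sylow_of_mem_normalizer P ha (Subgroup.centralizer_le_normalizer _ hC)

/-- A member contains `P` and equals its centralizer. -/
theorem exists_member (hZ : Subgroup.center G = ⊥) {𝓐 : Finset (Subgroup G)} (h : IsMinCover 𝓐)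
    (P : Sylow p G) (hab : IsMulCommutative ↥(P : Subgroup G)) (hne : (P : Subgroup G) ≠ ⊥)
    (hH : (∃ x ∈ (P : Subgroup G), x ^ p ≠ 1) ∨ Nat.card (P : Subgroup G) ≤ p) :
    ∃ A ∈ 𝓐, (P : Subgroup G) ≤ A ∧ Subgroup.centralizer (((P : Subgroup G)) : Set G) = A := by
  classical
  have hp : p.Prime := Fact.out
  have hPcomm : ∀ a ∈ (P : Subgroup G), ∀ b ∈ (P : Subgroup G), a * b = b * a :=
    sylow_comm_of_conj P hab P
  -- a member containing P
  obtain ⟨A, hA, hPA⟩ : ∃ A ∈ 𝓐, (P : Subgroup G) ≤ A := by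
    rcases hH with ⟨x, hx, hx1⟩ | hcard
    · obtain ⟨A, hA, hxA⟩ := h.1.2 x
      refine ⟨A, hA, ?_⟩
      intro u hu
      by_cases hu1 : u = 1
      · rw [hu1]; exact A.one_mem
      obtain ⟨k, hk⟩ := orderOf_of_mem_sylow P hu
      obtain ⟨m, hm⟩ := exists_pow_order_prime hu1 hk
      set t := u ^ m with ht
      have htP : t ∈ (P : Subgroup G) := Subgroup.pow_mem _ hu m
      have ht1 : t ≠ 1 := by
        intro h0
        rw [h0, orderOf_one] at hm
        exact hp.one_lt.ne hm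
      obtain ⟨B, hB, hxtB⟩ := h.1.2 (x * t)
      have hxp : x ^ p ∈ (P : Subgroup G) := Subgroup.pow_mem _ hx p
      have hxpo := orderOf_of_mem_sylow P hxp
      obtain ⟨j, hj⟩ := hxpo
      have hpow : (x * t) ^ p = x ^ p := by
        have hc : Commute x t := hPcomm x hx t htP
        rw [hc.mul_pow]
        have : t ^ p = 1 := by rw [← hm]; exact pow_orderOf_eq_one t
        rw [this, mul_one]
      have hxpB : x ^ p ∈ B := by
        rw [← hpow]; exact B.pow_mem hxtB p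
      have hBA : B = A := unique_member hZ h P hab hx1 hj hB hA hxpB (A.pow_mem hxA p)
      have htA : t ∈ A := by
        have h1 := A.mul_mem (A.inv_mem hxA) (hBA ▸ hxtB)
        simpa using h1
      obtain ⟨B', hB', huB'⟩ := h.1.2 u
      have htB' : t ∈ B' := B'.pow_mem huB' m
      have : B' = A := by
        obtain ⟨k', hk'⟩ := orderOf_of_mem_sylow P htP
        exact unique_member hZ h P hab ht1 hk' hB' hA htB' htA
      exact this ▸ huB'
    · obtain ⟨⟨g, hgP⟩, hg1⟩ := Subgroup.ne_bot_iff_exists_ne_one.mp hne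
      have hg1' : g ≠ 1 := fun h0 => hg1 (Subtype.ext h0)
      obtain ⟨A, hA, hgA⟩ := h.1.2 g
      refine ⟨A, hA, ?_⟩
      have hzp : Subgroup.zpowers g = (P : Subgroup G) := by
        apply Subgroup.eq_of_le_of_card_ge ((Subgroup.zpowers_le).2 hgP)
        rw [Nat.card_zpowers]
        obtain ⟨k, hk⟩ := orderOf_of_mem_sylow P hgP
        refine hcard.trans ?_
        have hk0 : k ≠ 0 := by
          rintro rfl
          rw [pow_zero, orderOf_eq_one_iff] at hk
          exact hg1' hk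
        rw [hk]
        exact Nat.le_self_pow hk0 p
      rw [← hzp, Subgroup.zpowers_le]
      exact hgA
  refine ⟨A, hA, hPA, ?_⟩
  apply le_antisymm
  · intro y hy
    obtain ⟨a, b, hyab, hcomm, hu, hv, haz, hbz⟩ := H19.exists_pi_decomp ({p} : Set ℕ) y
    have hzC : Subgroup.zpowers y ≤ Subgroup.centralizer (((P : Subgroup G)) : Set G) :=
      (Subgroup.zpowers_le).2 hy
    obtain ⟨m, hm⟩ : ∃ m, orderOf a = p ^ m := by
      have h1 : orderOf a ≠ 0 := (orderOf_pos a).ne'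
      exact ⟨_, Nat.eq_prime_pow_of_unique_prime_dvd h1 (fun {r} hr hd => by simpa using hu r hr hd)⟩
    have haP : a ∈ (P : Subgroup G) := mem_sylow_of_mem_centralizer P hm (hzC haz)
    -- an element of order p in P
    obtain ⟨⟨g, hgP⟩, hg1⟩ := Subgroup.ne_bot_iff_exists_ne_one.mp hne
    have hg1' : g ≠ 1 := fun h0 => hg1 (Subtype.ext h0)
    obtain ⟨k, hk⟩ := orderOf_of_mem_sylow P hgP
    have hbC := hzC hbz
    have hgb : Commute g b := by
      exact ((Subgroup.mem_centralizer_iff.mp hbC) g hgP)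
    have hcop : (orderOf g).Coprime (orderOf b) := by
      rw [hk]
      apply Nat.Coprime.pow_left
      rw [Nat.Prime.coprime_iff_not_dvd hp]
      intro hd
      exact hv p hp hd rfl
    obtain ⟨B, hB, hgbB⟩ := h.1.2 (g * b)
    obtain ⟨hgB, hbB⟩ := mem_of_mul_mem_of_coprime hgb hcop hgbB
    have hBA : B = A := unique_member hZ h P hab hg1' hk hB hA hgB (hPA hgP)
    rw [hyab]
    exact A.mul_mem (hPA haP) (hBA ▸ hbB)
  · intro a haA
    rw [Subgroup.mem_centralizer_iff]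
    intro u hu
    obtain ⟨k, hk⟩ := orderOf_of_mem_sylow P hu
    exact commute_of_abelian_sylow P hab (h.2.2 A hA) (hPA hu) hk haA

/-- The main theorem on abelian Sylow subgroups for nilpotent minimal covers. -/
theorem mincover_main (hZ : Subgroup.center G = ⊥) {𝓐 : Finset (Subgroup G)} (h : IsMinCover 𝓐)
    (P : Sylow p G) (hab : IsMulCommutative ↥(P : Subgroup G)) (hnn : ¬ (P : Subgroup G).Normal)
    (hH : (∃ x ∈ (P : Subgroup G), x ^ p ≠ 1) ∨ Nat.card (P : Subgroup G) ≤ p) :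
    ∃ A ∈ 𝓐, (P : Subgroup G) ≤ A ∧ Subgroup.centralizer (((P : Subgroup G)) : Set G) = A ∧
      IsCoatom (Subgroup.normalizer (((P : Subgroup G)) : Set G)) ∧
      (∀ M : Subgroup G, IsCoatom M → Subgroup.centralizer (((P : Subgroup G)) : Set G) ≤ M →
        M = Subgroup.normalizer (((P : Subgroup G)) : Set G)) ∧
      (∀ g : G, g ∉ Subgroup.normalizer (((P : Subgroup G)) : Set G) →
        ¬ p ∣ Nat.card ↥(Subgroup.normalizer (((P : Subgroup G)) : Set G) ⊓
          (Subgroup.normalizer (((P : Subgroup G)) : Set G)).map (MulAut.conj g).toMonoidHom)) := by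
  classical
  have hp : p.Prime := Fact.out
  have hne : (P : Subgroup G) ≠ ⊥ := by
    intro h0
    rw [h0] at hnn
    exact hnn inferInstance
  obtain ⟨A, hA, hPA, hCA⟩ := exists_member hZ h P hab hne hH
  -- conjugates of `A` are members
  have hconj : ∀ g : G, A.map (MulAut.conj g).toMonoidHom ∈ 𝓐 := by
    intro g
    set Q := sylowConj P g with hQ
    have hQc : (Q : Subgroup G) = (P : Subgroup G).map (MulAut.conj g).toMonoidHom := coe_sylowConj P g
    have hQab : IsMulCommutative ↥(Q : Subgroup G) := by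
      refine ⟨⟨fun a b => Subtype.ext ?_⟩⟩
      exact sylow_comm_of_conj P hab Q a a.2 b b.2
    have hQne : (Q : Subgroup G) ≠ ⊥ := by
      intro h0
      apply hne
      rw [hQc, Subgroup.map_eq_bot_iff_of_injective _ (MulAut.conj g).injective] at h0
      exact h0
    have hQH : (∃ x ∈ (Q : Subgroup G), x ^ p ≠ 1) ∨ Nat.card (Q : Subgroup G) ≤ p := by
      rcases hH with ⟨x, hx, hx1⟩ | hcard
      · left
        refine ⟨g * x * g⁻¹, by rw [hQc]; exact conj_mem_conj hx, ?_⟩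
        rw [conj_pow]
        intro h0
        apply hx1
        have h1 : g * x ^ p * g⁻¹ * g = 1 * g := by rw [h0]
        simpa using h1
      · right
        rw [hQc, card_map_conj]
        exact hcard
    obtain ⟨A', hA', -, hCA'⟩ := exists_member hZ h Q hQab hQne hQH
    have : A.map (MulAut.conj g).toMonoidHom = A' := by
      rw [← hCA', ← hCA, hQc]
      exact H13.map_conj_centralizer g _
    rw [this]
    exact hA'
  have hNtop : Subgroup.normalizer (((P : Subgroup G)) : Set G) ≠ ⊤ := by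
    intro h0
    apply hnn
    exact Subgroup.normalizer_eq_top_iff.mp h0
  -- normalizer of A is inside normalizer of P
  have hNA : ∀ g : G, A.map (MulAut.conj g).toMonoidHom = A →
      g ∈ Subgroup.normalizer (((P : Subgroup G)) : Set G) := by
    intro g hg
    rw [mem_normalizer_of_map_conj_eq_iff_le]
    rintro _ ⟨u, hu, rfl⟩
    have h1 : (MulAut.conj g).toMonoidHom u ∈ A := by
      rw [← hg]
      exact ⟨u, hPA hu, rfl⟩
    rw [← hCA] at h1
    obtain ⟨k, hk⟩ := orderOf_of_mem_sylow P hu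
    apply mem_sylow_of_mem_centralizer P (k := k) _ h1
    show orderOf (g * u * g⁻¹) = p ^ k
    rw [orderOf_conj', hk]
  have hcoat : ∀ M : Subgroup G, IsCoatom M → Subgroup.centralizer (((P : Subgroup G)) : Set G) ≤ M →
      M = Subgroup.normalizer (((P : Subgroup G)) : Set G) := by
    intro M hM hle
    rw [hCA] at hle
    have hcard := replace_card_le h hM.1
      (𝓓 := 𝓐.filter (fun B => ∃ m ∈ M, B = A.map (MulAut.conj m).toMonoidHom))
      (Finset.filter_subset _ _) (by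
        intro D hD
        obtain ⟨-, m, hm, rfl⟩ := Finset.mem_filter.mp hD
        rintro _ ⟨a, ha, rfl⟩
        show m * a * m⁻¹ ∈ M
        exact M.mul_mem (M.mul_mem hm (hle ha)) (M.inv_mem hm))
    have hMN : M ≤ Subgroup.normalizer (((P : Subgroup G)) : Set G) := by
      intro m hm
      apply hNA
      refine Finset.card_le_one.mp hcard _ (Finset.mem_filter.mpr ⟨hconj m, m, hm, rfl⟩) _
        (Finset.mem_filter.mpr ⟨hA, 1, M.one_mem, ?_⟩)
      rw [map_conj_one]
    rcases hMN.lt_or_eq with hlt | heq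
    · exact absurd (hM.2 _ hlt) hNtop
    · exact heq
  refine ⟨A, hA, hPA, hCA, ?_, hcoat, ?_⟩
  · rcases eq_top_or_exists_le_coatom A with h0 | ⟨M, hM, hle⟩
    · exact absurd h0 (h.1.1 A hA)
    · have := hcoat M hM (hCA ▸ hle)
      rw [← this]
      exact hM
  · intro g hg hd
    obtain ⟨t, ht⟩ := exists_prime_orderOf_dvd_card' p hd
    have hto : orderOf (t : G) = p := by rw [Subgroup.orderOf_coe, ht]
    obtain ⟨ht1, ht2⟩ := t.2
    have htP : (t : G) ∈ (P : Subgroup G) :=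
      H19.mem_sylow_of_mem_normalizer P (k := 1) (by rw [pow_one, hto]) ht1
    have ht3 : g⁻¹ * (t : G) * g ∈ (P : Subgroup G) := by
      apply H19.mem_sylow_of_mem_normalizer P (k := 1)
      · have := orderOf_conj' g⁻¹ (t : G)
        rw [inv_inv] at this
        rw [this, hto, pow_one]
      · exact mem_conj.mp ht2
    have ht4 : (t : G) ∈ A.map (MulAut.conj g).toMonoidHom := by
      rw [mem_conj]
      exact hPA ht3
    have ht1' : (t : G) ≠ 1 := by
      intro h0
      rw [h0, orderOf_one] at hto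
      exact hp.one_lt.ne hto
    have := unique_member hZ h P hab ht1' (k := 1) (by rw [pow_one, hto]) hA (hconj g) (hPA htP) ht4
    exact hg (hNA g this.symm)

end Main

end Cfsg.Agent.H18
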