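import Mathlib
import Cfsg.Agent.Lib.H16.EndField
import Cfsg.Agent.Lib.H19.AbelianSylow
import Cfsg.Agent.Lib.H18.AbIdx
import Cfsg.Agent.Lib.H18.Basic
import Cfsg.Agent.Lib.H18.Syl
import Cfsg.Agent.Lib.H18.PGroup
import Cfsg.Agent.Lib.H18.ExtraCard
import Cfsg.Agent.Lib.H01.Coprime3
import Cfsg.Prelude.Def_Transfer

/-! Groups `A ⋊ C_p` with `A` a minimal normal elementary abelian `q`-subgroup. -/

open scoped commutatorElement

namespace Cfsg.Agent.H18

variable {G : Type*} [Group G]

/-- A subgroup of an abelian normal `A` which is invariant under `y` is normal if `G = A⟨y⟩`. -/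
theorem mp_normal_of_inv [Finite G] {A B : Subgroup G} (hAn : A.Normal)
    (hAb : ∀ a ∈ A, ∀ b ∈ A, a * b = b * a) (hBA : B ≤ A) {y : G}
    (hsup : A ⊔ Subgroup.zpowers y = ⊤) (hB : ∀ b ∈ B, y * b * y⁻¹ ∈ B) : B.Normal := by
  haveI := hAn
  have hpow : ∀ i : ℕ, ∀ b ∈ B, y ^ i * b * (y ^ i)⁻¹ ∈ B := by
    intro i
    induction i with
    | zero => intro b hb; simpa using hb
    | succ i ih =>
      intro b hb
      have := hB _ (ih b hb)
      have e : y ^ (i + 1) * b * (y ^ (i + 1))⁻¹ = y * (y ^ i * b * (y ^ i)⁻¹) * y⁻¹ := by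
        rw [pow_succ']; group
      rw [e]; exact this
  constructor
  intro b hb g
  have hg : g ∈ A ⊔ Subgroup.zpowers y := hsup ▸ Subgroup.mem_top g
  obtain ⟨a, ha, c, hc, rfl⟩ := mem_sup_normal_left.mp hg
  obtain ⟨i, rfl⟩ := (mem_powers_iff_mem_zpowers).mpr hc
  have h1 := hpow i b hb
  have h2 : (a * (fun n : ℕ => y ^ n) i) * b * (a * (fun n : ℕ => y ^ n) i)⁻¹ =
      a * (y ^ i * b * (y ^ i)⁻¹) * a⁻¹ := by
    simp only; group
  rw [h2, hAb a ha _ (hBA h1)]
  simpa using h1

/-- The conjugation operator on the additive version of a normal abelian subgroup. -/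
def mpTau {A : Subgroup G} (hAn : A.Normal) (hAb : IsMulCommutative A) (x : G) :
    letI : CommGroup A := { (inferInstance : Group A) with mul_comm := isMulCommutative_iff.mp hAb }
    AddMonoid.End (Additive A) :=
  letI : CommGroup A := { (inferInstance : Group A) with mul_comm := isMulCommutative_iff.mp hAb }
  AddMonoidHom.mk' (fun v => Additive.ofMul (⟨x * (Additive.toMul v : A) * x⁻¹,
      hAn.conj_mem _ (Additive.toMul v).2 x⟩ : A)) (by
    intro a b
    apply Additive.toMul.injective
    apply Subtype.ext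
    show x * (((Additive.toMul a : A) : G) * ((Additive.toMul b : A) : G)) * x⁻¹ =
      (x * ((Additive.toMul a : A) : G) * x⁻¹) * (x * ((Additive.toMul b : A) : G) * x⁻¹)
    group)

/-- The order of an irreducible nontrivial module of `C_p` in characteristic `q`. -/
theorem card_of_irred [Finite G] {p q : ℕ} [Fact p.Prime] (hq : q.Prime) (hpq : q ≠ p)
    (hna : ¬ IsMulCommutative G) (A : Subgroup G) [hAn : A.Normal] (hA : Cfsg.IsElementaryAbelian q A)
    (hidx : A.index = p) (hmin : ∀ B : Subgroup G, B.Normal → B ≤ A → B = ⊥ ∨ B = A) :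
    Nat.card A = q ^ orderOf (q : ZMod p) := by
  classical
  have hp : p.Prime := Fact.out
  haveI : Fact q.Prime := ⟨hq⟩
  obtain ⟨hAc, hAe⟩ := hA
  have hAb : ∀ a ∈ A, ∀ b ∈ A, a * b = b * a := by
    intro a ha b hb
    have := (isMulCommutative_iff.mp hAc) ⟨a, ha⟩ ⟨b, hb⟩
    exact congrArg Subtype.val this
  have hAq : IsPGroup q A := fun a => ⟨1, by
    apply Subtype.ext
    simpa using hAe a a.2⟩
  have hcardG : Nat.card A * p = Nat.card G := by rw [← hidx]; exact A.card_mul_index
  obtain ⟨x, hxo⟩ := exists_prime_orderOf_dvd_card' p (Dvd.intro_left _ hcardG)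
  have hxA : x ∉ A := by
    intro hx
    have h1 : x ^ q = 1 := hAe x hx
    have h2 := orderOf_dvd_of_pow_eq_one h1
    rw [hxo] at h2
    exact hpq ((Nat.prime_dvd_prime_iff_eq hp hq).mp h2).symm
  have hsup : A ⊔ Subgroup.zpowers x = ⊤ := by
    rcases eq_or_top_of_index_prime hp hidx (le_sup_left : A ≤ A ⊔ Subgroup.zpowers x) with h | h
    · exact absurd ((le_sup_right : Subgroup.zpowers x ≤ A ⊔ Subgroup.zpowers x) (Subgroup.mem_zpowers x)) (by rw [h]; exact hxA)
    · exact h
  -- C_A(x) is trivial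
  have hfix : A ⊓ Subgroup.centralizer ({x} : Set G) = ⊥ := by
    have hCn : (A ⊓ Subgroup.centralizer ({x} : Set G)).Normal := by
      apply mp_normal_of_inv hAn hAb inf_le_left hsup
      rintro b ⟨hb1, hb2⟩
      have : x * b = b * x := (Subgroup.mem_centralizer_singleton_iff.mp hb2).symm
      rw [this, mul_inv_cancel_right]
      exact ⟨hb1, hb2⟩
    rcases hmin _ hCn inf_le_left with h | h
    · exact h
    · exfalso
      apply hna
      have hle : A ≤ Subgroup.centralizer ({x} : Set G) := by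
        rw [← h]; exact inf_le_right
      have h2 : commutator G ≤ ⊥ := by
        apply commutator_le_of_sup (Subgroup.normal_bot) hAb hsup hAn
        intro a ha
        have : x * a = a * x := (Subgroup.mem_centralizer_singleton_iff.mp (hle ha)).symm
        rw [← this, Subgroup.mem_bot]
        group
      rw [isMulCommutative_iff]
      intro a b
      have h3 := Subgroup.commutator_mem_commutator (Subgroup.mem_top a) (Subgroup.mem_top b)
      rw [← commutator_def] at h3
      have h4 := h2 h3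
      rwa [Subgroup.mem_bot, commutatorElement_eq_one_iff_mul_comm] at h4
  -- |A| ≡ 1 mod p
  have hmod : Nat.card A ≡ 1 [MOD p] := by
    have hpg : IsPGroup p (Subgroup.zpowers x) := by
      apply IsPGroup.of_card (n := 1)
      rw [Nat.card_zpowers, hxo, pow_one]
    have hnorm : Subgroup.zpowers x ≤ Subgroup.normalizer (A : Set G) := by
      rw [Subgroup.normalizer_eq_top_iff.mpr hAn]; exact le_top
    have h1 := Cfsg.Agent.H19.card_modEq_inf_centralizer hpg hnorm
    have h2 : A ⊓ Subgroup.centralizer ((Subgroup.zpowers x : Subgroup G) : Set G) = ⊥ := by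
      rw [eq_bot_iff, ← hfix]
      rintro a ⟨ha1, ha2⟩
      refine ⟨ha1, ?_⟩
      have ha3 : a ∈ Subgroup.centralizer ((Subgroup.zpowers x : Subgroup G) : Set G) := ha2
      rw [Subgroup.mem_centralizer_iff] at ha3
      exact Subgroup.mem_centralizer_singleton_iff.mpr (ha3 x (Subgroup.mem_zpowers x)).symm
    rw [h2, Subgroup.card_bot] at h1
    exact h1
  obtain ⟨f, hf⟩ := IsPGroup.iff_card.mp hAq
  have hf0 : f ≠ 0 := by
    rintro rfl
    rw [pow_zero] at hf
    rw [hf, one_mul] at hcardG
    apply hna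
    haveI := isCyclic_of_prime_card hcardG.symm
    exact IsCyclic.isMulCommutative
  have hq0 : (q : ZMod p) ≠ 0 := by
    intro h
    rw [ZMod.natCast_eq_zero_iff] at h
    exact hpq ((Nat.prime_dvd_prime_iff_eq hp hq).mp h).symm
  have hepos : 0 < orderOf (q : ZMod p) := by
    rw [orderOf_pos_iff, isOfFinOrder_iff_pow_eq_one]
    refine ⟨p - 1, by have := hp.two_le; omega, ZMod.pow_card_sub_one_eq_one hq0⟩
  set e := orderOf (q : ZMod p) with he
  have hfe : e ≤ f := by
    have h1 : ((q ^ f : ℕ) : ZMod p) = ((1 : ℕ) : ZMod p) := by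
      rw [← hf]
      exact (ZMod.natCast_eq_natCast_iff _ _ _).mpr hmod
    have h2 : (q : ZMod p) ^ f = 1 := by
      simpa using h1
    exact Nat.le_of_dvd (Nat.pos_of_ne_zero hf0) (orderOf_dvd_of_pow_eq_one h2)
  -- the upper bound
  letI : CommGroup A := { (inferInstance : Group A) with mul_comm := isMulCommutative_iff.mp hAc }
  let τ : AddMonoid.End (Additive A) := mpTau hAn hAc x
  have hτ : ∀ v : Additive A, ((Additive.toMul (τ v) : A) : G) = x * ((Additive.toMul v : A) : G) * x⁻¹ :=
    fun v => rfl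
  have hτpow : ∀ (k : ℕ) (v : Additive A),
      ((Additive.toMul ((τ ^ k) v) : A) : G) = x ^ k * ((Additive.toMul v : A) : G) * (x ^ k)⁻¹ := by
    intro k
    induction k with
    | zero => intro v; simp
    | succ k ih =>
      intro v
      rw [pow_succ']
      show ((Additive.toMul (τ ((τ ^ k) v)) : A) : G) = _
      rw [hτ, ih, pow_succ']
      group
  have hpow : x ^ q ^ e = x := by
    have h1 : q ^ e ≡ 1 [MOD orderOf x] := by
      rw [hxo, ← ZMod.natCast_eq_natCast_iff]
      push_cast
      rw [he]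
      exact pow_orderOf_eq_one _
    have h2 := pow_eq_pow_iff_modEq.mpr h1
    rwa [pow_one] at h2
  have hτe : τ ^ q ^ e = τ := by
    apply AddMonoidHom.ext
    intro v
    apply Additive.toMul.injective
    apply Subtype.ext
    have := hτpow (q ^ e) v
    rw [hpow] at this
    exact this
  have hirr : ∀ U : AddSubgroup (Additive A), (∀ u ∈ U, τ u ∈ U) → U = ⊥ ∨ U = ⊤ := by
    intro U hU
    let B : Subgroup G :=
      { carrier := {g | ∃ h : g ∈ A, Additive.ofMul (⟨g, h⟩ : A) ∈ U}
        one_mem' := ⟨A.one_mem, U.zero_mem⟩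
        mul_mem' := by
          rintro a b ⟨ha, ha'⟩ ⟨hb, hb'⟩
          exact ⟨A.mul_mem ha hb, U.add_mem ha' hb'⟩
        inv_mem' := by
          rintro a ⟨ha, ha'⟩
          exact ⟨A.inv_mem ha, U.neg_mem ha'⟩ }
    have hBA : B ≤ A := fun g hg => hg.1
    have hBn : B.Normal := by
      apply mp_normal_of_inv hAn hAb hBA hsup
      rintro b ⟨hb, hb'⟩
      exact ⟨hAn.conj_mem b hb x, hU _ hb'⟩
    rcases hmin B hBn hBA with h | h
    · left
      rw [eq_bot_iff]
      intro u hu
      have h1 : ((Additive.toMul u : A) : G) ∈ B := ⟨(Additive.toMul u).2, hu⟩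
      rw [h, Subgroup.mem_bot] at h1
      apply Additive.toMul.injective
      exact Subtype.ext h1
    · right
      rw [eq_top_iff]
      intro u _
      have h1 : ((Additive.toMul u : A) : G) ∈ B := by
        rw [h]; exact (Additive.toMul u).2
      obtain ⟨_, h2⟩ := h1
      exact h2
  have hq0' : ∀ v : Additive A, q • v = 0 := by
    intro v
    apply Additive.toMul.injective
    apply Subtype.ext
    show ((Additive.toMul v : A) : G) ^ q = 1
    exact hAe _ (Additive.toMul v).2
  haveI : Finite (Additive A) := inferInstanceAs (Finite A)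
  have hcardV : Nat.card (Additive A) = Nat.card A := rfl
  haveI : Nontrivial (Additive A) := by
    apply Finite.one_lt_card_iff_nontrivial.mp
    rw [hcardV, hf]
    exact Nat.one_lt_pow hf0 hq.one_lt
  have hle := Cfsg.Agent.H16.op_card_le q hq0' τ hirr e hτe hepos
  rw [hcardV] at hle
  apply le_antisymm hle
  rw [hf]
  exact Nat.pow_le_pow_right hq.pos hfe

theorem pclosed_of_isPGroup {H : Type*} [Group H] [Finite H] {p : ℕ} [Fact p.Prime]
    (hH : IsPGroup p H) : ∀ P : Sylow p H, (P : Subgroup H).Normal := by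
  intro P
  have : (⊤ : Subgroup H) = P := P.is_maximal' (hH.to_subgroup ⊤) le_top
  rw [← this]
  infer_instance

theorem pclosed_of_not_dvd {H : Type*} [Group H] [Finite H] {p : ℕ} [Fact p.Prime]
    (hH : ¬ p ∣ Nat.card H) : ∀ P : Sylow p H, (P : Subgroup H).Normal := by
  intro P
  have hp : p.Prime := Fact.out
  obtain ⟨k, hk⟩ := IsPGroup.iff_card.mp P.isPGroup'
  have hk0 : k = 0 := by
    by_contra h
    apply hH
    have h1 : Nat.card (P : Subgroup H) ∣ Nat.card H := Subgroup.card_subgroup_dvd_card _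
    rw [hk] at h1
    exact (dvd_pow_self p h).trans h1
  rw [hk0, pow_zero, Subgroup.card_eq_one] at hk
  rw [hk]
  infer_instance

/-- `G = A⟨x⟩` is abelian if `x` centralizes the abelian `A`. -/
theorem mp_comm_of_forall [Finite G] {A : Subgroup G} (hAn : A.Normal)
    (hAb : ∀ a ∈ A, ∀ b ∈ A, a * b = b * a) {x : G} (hsup : A ⊔ Subgroup.zpowers x = ⊤)
    (h : ∀ a ∈ A, a * x = x * a) : IsMulCommutative G := by
  have h2 : commutator G ≤ ⊥ := by
    apply commutator_le_of_sup (Subgroup.normal_bot) hAb hsup hAn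
    intro a ha
    rw [h a ha, Subgroup.mem_bot]
    group
  rw [isMulCommutative_iff]
  intro a b
  have h3 := Subgroup.commutator_mem_commutator (Subgroup.mem_top a) (Subgroup.mem_top b)
  rw [← commutator_def] at h3
  have h4 := h2 h3
  rwa [Subgroup.mem_bot, commutatorElement_eq_one_iff_mul_comm] at h4

/-- A normal `p`-subgroup containing `y`, where `G = A⟨y⟩` and `A` has exponent `q ≠ p`: then `G`
is abelian. -/
theorem mp_comm_of_normal_pgroup [Finite G] {p q : ℕ} [Fact p.Prime] (hq : q.Prime) (hpq : q ≠ p)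
    {A : Subgroup G} (hAn : A.Normal) (hAb : ∀ a ∈ A, ∀ b ∈ A, a * b = b * a)
    (hAe : ∀ a ∈ A, a ^ q = 1) {T : Subgroup G} (hTn : T.Normal) (hT : IsPGroup p T) {y : G}
    (hyT : y ∈ T) (hsup : A ⊔ Subgroup.zpowers y = ⊤) : IsMulCommutative G := by
  have hp : p.Prime := Fact.out
  apply mp_comm_of_forall hAn hAb hsup
  intro a ha
  have h1 : a * y * a⁻¹ * y⁻¹ ∈ T := by
    apply T.mul_mem _ (T.inv_mem hyT)
    exact hTn.conj_mem y hyT a
  have h2 : a * y * a⁻¹ * y⁻¹ ∈ A := by
    have h3 : y * a⁻¹ * y⁻¹ ∈ A := hAn.conj_mem _ (A.inv_mem ha) y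
    have h4 := A.mul_mem ha h3
    convert h4 using 1
    group
  have h5 : a * y * a⁻¹ * y⁻¹ = 1 := by
    obtain ⟨k, hk⟩ := hT ⟨_, h1⟩
    have hk' : (a * y * a⁻¹ * y⁻¹) ^ p ^ k = 1 := by
      simpa using congrArg Subtype.val hk
    have hq' := hAe _ h2
    have hcop : Nat.Coprime (p ^ k) q := Nat.Coprime.pow_left _ ((Nat.coprime_primes hp hq).mpr hpq.symm)
    have h6 := Nat.dvd_gcd (orderOf_dvd_of_pow_eq_one hk') (orderOf_dvd_of_pow_eq_one hq')
    rw [hcop.gcd_eq_one, Nat.dvd_one, orderOf_eq_one_iff] at h6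
    exact h6
  calc a * y = a * y * a⁻¹ * y⁻¹ * (y * a) := by group
    _ = y * a := by rw [h5, one_mul]

/-- The whole structure of `A ⋊ C_p`. -/
theorem irred_structure [Finite G] {p q : ℕ} [Fact p.Prime] (hq : q.Prime) (hpq : q ≠ p)
    (hna : ¬ IsMulCommutative G) (A : Subgroup G) [hAn : A.Normal] (hA : Cfsg.IsElementaryAbelian q A)
    (hidx : A.index = p) (hmin : ∀ B : Subgroup G, B.Normal → B ≤ A → B = ⊥ ∨ B = A) :
    (¬ ∀ P : Sylow p G, (P : Subgroup G).Normal) ∧
    (∀ H : Subgroup G, H ≠ ⊤ → ∀ P : Sylow p ↥H, (P : Subgroup ↥H).Normal) ∧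
    (∀ (N : Subgroup G) [N.Normal], N ≠ ⊥ → ∀ P : Sylow p (G ⧸ N), (P : Subgroup (G ⧸ N)).Normal) := by
  classical
  have hp : p.Prime := Fact.out
  haveI : Fact q.Prime := ⟨hq⟩
  obtain ⟨hAc, hAe⟩ := hA
  have hAb : ∀ a ∈ A, ∀ b ∈ A, a * b = b * a := by
    intro a ha b hb
    have := (isMulCommutative_iff.mp hAc) ⟨a, ha⟩ ⟨b, hb⟩
    exact congrArg Subtype.val this
  have hnotA : ∀ y, orderOf y = p → y ∉ A := by
    intro y hyo hy
    have h1 : y ^ q = 1 := hAe y hy
    have h2 := orderOf_dvd_of_pow_eq_one h1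
    rw [hyo] at h2
    exact hpq ((Nat.prime_dvd_prime_iff_eq hp hq).mp h2).symm
  have hsupy : ∀ y, y ∉ A → A ⊔ Subgroup.zpowers y = ⊤ := by
    intro y hyA
    rcases eq_or_top_of_index_prime hp hidx (le_sup_left : A ≤ A ⊔ Subgroup.zpowers y) with h | h
    · exact absurd ((le_sup_right : Subgroup.zpowers y ≤ A ⊔ Subgroup.zpowers y) (Subgroup.mem_zpowers y)) (by rw [h]; exact hyA)
    · exact h
  have hcardG : Nat.card A * p = Nat.card G := by rw [← hidx]; exact A.card_mul_index
  have hinf : ∀ H : Subgroup G, H ⊓ A = ⊥ → Nat.card H ∣ p := by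
    intro H hH
    have h1 := card_inf_mul_relIndex A H
    rw [inf_comm, hH, Subgroup.card_bot, one_mul] at h1
    rw [← h1, ← hidx]
    exact Subgroup.relIndex_dvd_index_of_normal A H
  refine ⟨?_, ?_, ?_⟩
  · intro hall
    obtain ⟨x, hxo⟩ := exists_prime_orderOf_dvd_card' p (Dvd.intro_left _ hcardG)
    obtain ⟨P⟩ : Nonempty (Sylow p G) := inferInstance
    have hPn := hall P
    have hzp : IsPGroup p (Subgroup.zpowers x) := by
      apply IsPGroup.of_card (n := 1)
      rw [Nat.card_zpowers, hxo, pow_one]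
    have hxP : x ∈ (P : Subgroup G) := le_of_isPGroup_of_normal_sylow P hPn hzp (Subgroup.mem_zpowers x)
    exact hna (mp_comm_of_normal_pgroup hq hpq hAn hAb hAe hPn P.isPGroup' hxP (hsupy x (hnotA x hxo)))
  · intro H hH
    by_cases hd : p ∣ Nat.card H
    · obtain ⟨y, hyo⟩ := exists_prime_orderOf_dvd_card' p hd
      have hyo' : orderOf (y : G) = p := by rw [Subgroup.orderOf_coe, hyo]
      have hyA := hnotA _ hyo'
      have hs := hsupy _ hyA
      have hBn : (H ⊓ A).Normal := by
        apply mp_normal_of_inv hAn hAb inf_le_right hs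
        rintro b ⟨hb1, hb2⟩
        exact ⟨H.mul_mem (H.mul_mem y.2 hb1) (H.inv_mem y.2), hAn.conj_mem b hb2 _⟩
      rcases hmin _ hBn inf_le_right with h | h
      · have h1 := hinf H h
        have h2 : Nat.card H = p := Nat.dvd_antisymm h1 hd
        apply pclosed_of_isPGroup
        apply IsPGroup.of_card (n := 1)
        rw [h2, pow_one]
      · exfalso
        apply hH
        have hAH : A ≤ H := by rw [← h]; exact inf_le_left
        rw [eq_top_iff, ← hs]
        exact sup_le hAH ((Subgroup.zpowers_le).2 y.2)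
    · exact pclosed_of_not_dvd hd
  · intro N hN hNne
    have hBn : (N ⊓ A).Normal := inferInstance
    rcases hmin _ hBn inf_le_right with h | h
    · exfalso
      have h1 := hinf N h
      have h2 : Nat.card N = p := by
        rcases (Nat.dvd_prime hp).mp h1 with h3 | h3
        · exact absurd (Subgroup.card_eq_one.mp h3) hNne
        · exact h3
      obtain ⟨y, hyo⟩ := exists_prime_orderOf_dvd_card' p (by rw [h2] : p ∣ Nat.card N)
      have hyo' : orderOf (y : G) = p := by rw [Subgroup.orderOf_coe, hyo]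
      have hNp : IsPGroup p N := by
        apply IsPGroup.of_card (n := 1)
        rw [h2, pow_one]
      exact hna (mp_comm_of_normal_pgroup hq hpq hAn hAb hAe hN hNp y.2 (hsupy _ (hnotA _ hyo')))
    · have hAN : A ≤ N := by rw [← h]; exact inf_le_left
      have h1 : N.index ∣ p := hidx ▸ Subgroup.index_dvd_of_le hAN
      apply pclosed_of_isPGroup
      rcases (Nat.dvd_prime hp).mp h1 with h3 | h3
      · apply IsPGroup.of_card (n := 0)
        rw [pow_zero]
        exact h3
      · apply IsPGroup.of_card (n := 1)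
        rw [pow_one]
        exact h3

/-- A minimal normal `q`-subgroup is elementary abelian. -/
theorem elem_of_min [Finite G] {q : ℕ} [Fact q.Prime] {A : Subgroup G} (hAn : A.Normal)
    (hAq : IsPGroup q A) (hne : A ≠ ⊥) (hmin : ∀ B : Subgroup G, B.Normal → B ≤ A → B = ⊥ ∨ B = A) :
    Cfsg.IsElementaryAbelian q A := by
  classical
  have hq : q.Prime := Fact.out
  haveI : Nontrivial A := A.bot_or_nontrivial.resolve_left hne
  -- centre
  have hZn := center_map_normal hAn
  have hZ : (Subgroup.center A).map A.subtype = A := by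
    rcases hmin _ hZn (by rintro _ ⟨z, -, rfl⟩; exact z.2) with h | h
    · exfalso
      haveI := hAq.center_nontrivial
      obtain ⟨⟨z, hz⟩, hz1⟩ := exists_ne (1 : Subgroup.center A)
      have : (z : G) ∈ (Subgroup.center A).map A.subtype := ⟨z, hz, rfl⟩
      rw [h, Subgroup.mem_bot] at this
      apply hz1
      apply Subtype.ext
      apply Subtype.ext
      exact this
    · exact h
  have hAb : ∀ a ∈ A, ∀ b ∈ A, a * b = b * a := by
    intro a ha b hb
    have ha' : a ∈ (Subgroup.center A).map A.subtype := by rw [hZ]; exact ha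
    obtain ⟨z, hz, rfl⟩ := ha'
    have := (Subgroup.mem_center_iff.mp hz) ⟨b, hb⟩
    exact (congrArg Subtype.val this).symm
  have hAc : IsMulCommutative A := ⟨⟨fun a b => Subtype.ext (hAb a a.2 b b.2)⟩⟩
  refine ⟨hAc, ?_⟩
  -- Ω₁
  let Ω : Subgroup G :=
    { carrier := {a | a ∈ A ∧ a ^ q = 1}
      one_mem' := ⟨A.one_mem, one_pow q⟩
      mul_mem' := by
        rintro a b ⟨ha, ha'⟩ ⟨hb, hb'⟩
        refine ⟨A.mul_mem ha hb, ?_⟩
        have hc : Commute a b := hAb a ha b hb
        rw [hc.mul_pow, ha', hb', one_mul]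
      inv_mem' := by
        rintro a ⟨ha, ha'⟩
        exact ⟨A.inv_mem ha, by rw [inv_pow, ha', inv_one]⟩ }
  have hΩn : Ω.Normal := by
    constructor
    rintro a ⟨ha, ha'⟩ g
    refine ⟨hAn.conj_mem a ha g, ?_⟩
    rw [conj_pow, ha']
    group
  have hΩA : Ω ≤ A := fun a ha => ha.1
  have hΩ : Ω = A := by
    rcases hmin _ hΩn hΩA with h | h
    · exfalso
      obtain ⟨k, hk⟩ := IsPGroup.iff_card.mp hAq
      have hk0 : k ≠ 0 := by
        rintro rfl
        rw [pow_zero, Subgroup.card_eq_one] at hk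
        exact hne hk
      obtain ⟨y, hyo⟩ := exists_prime_orderOf_dvd_card' q (by rw [hk]; exact dvd_pow_self q hk0 : q ∣ Nat.card A)
      have hy1 : (y : G) ^ q = 1 := by
        have := pow_orderOf_eq_one y
        rw [hyo] at this
        simpa using congrArg Subtype.val this
      have hyΩ : (y : G) ∈ Ω := ⟨y.2, hy1⟩
      rw [h, Subgroup.mem_bot] at hyΩ
      have : y = 1 := Subtype.ext hyΩ
      rw [this, orderOf_one] at hyo
      exact hq.one_lt.ne hyo
    · exact h
  intro a ha
  have : a ∈ Ω := hΩ ▸ ha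
  exact this.2

/-- A coprime `x` acting on a normal `N`, with `N⟨x⟩ = G` of index `p` and all proper `Q⟨x⟩`
centralized: `N` is a `q`-group or `x` centralizes `N`. -/
theorem exists_prime_group [Finite G] {p : ℕ} [Fact p.Prime] {N : Subgroup G} (hNn : N.Normal)
    {x : G} (hxo : orderOf x = p) (hNp : ¬ p ∣ Nat.card N) (hNi : N.index = p)
    (hcent : ∀ Q : Subgroup G, Q ≤ N → Subgroup.zpowers x ≤ Subgroup.normalizer (Q : Set G) →
      Q ⊔ Subgroup.zpowers x ≠ ⊤ → ∀ c ∈ Q, c * x = x * c)
    (hx : ¬ ∀ n ∈ N, n * x = x * n) : ∃ q : ℕ, q.Prime ∧ q ≠ p ∧ IsPGroup q N := by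
  classical
  have hp : p.Prime := Fact.out
  have hAK : Subgroup.zpowers x ≤ Subgroup.normalizer (N : Set G) := by
    rw [Subgroup.normalizer_eq_top_iff.mpr hNn]; exact le_top
  have hcop : (Nat.card (Subgroup.zpowers x)).Coprime (Nat.card N) := by
    rw [Nat.card_zpowers, hxo]
    exact (Nat.Prime.coprime_iff_not_dvd hp).mpr hNp
  have hsolv : Group.IsSolvable (Subgroup.zpowers x) ∨ Group.IsSolvable N := by
    left
    haveI : IsCyclic (Subgroup.zpowers x) := inferInstance
    infer_instance
  by_contra hcon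
  push Not at hcon
  apply hx
  -- the centralizer of x in N contains all Sylow subgroups
  set D := N.subgroupOf (Subgroup.centralizer ({x} : Set G)) with hD
  have hidx : (Subgroup.centralizer ({x} : Set G)).relIndex N = 1 := by
    by_contra hne
    obtain ⟨q, hq, hqd⟩ := Nat.exists_prime_and_dvd hne
    haveI : Fact q.Prime := ⟨hq⟩
    have hqcard : q ∣ Nat.card N := by
      have h1 : (Subgroup.centralizer ({x} : Set G)).relIndex N ∣ Nat.card N := by
        rw [Subgroup.relIndex]
        exact Subgroup.index_dvd_card _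
      exact hqd.trans h1
    have hqp : q ≠ p := by
      rintro rfl
      exact hNp hqcard
    obtain ⟨Q, hQ⟩ := Cfsg.Agent.H01.exists_invariant_sylow hAK hcop hsolv q
    set Q' := (Q : Subgroup N).map N.subtype with hQ'
    have hQ'N : Q' ≤ N := by
      rintro _ ⟨c, -, rfl⟩
      exact c.2
    have hQ'card : Nat.card Q' = Nat.card (Q : Subgroup N) :=
      Subgroup.card_map_of_injective N.subtype_injective
    have hQ'p : IsPGroup q Q' := Q.isPGroup'.map _
    by_cases hL : Q' ⊔ Subgroup.zpowers x = ⊤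
    · -- N is a q-group
      have hcop2 : (Nat.card Q').Coprime (Nat.card (Subgroup.zpowers x)) := by
        rw [Nat.card_zpowers, hxo]
        have h1 : Nat.card Q' ∣ Nat.card N := Subgroup.card_dvd_of_le hQ'N
        exact Nat.Coprime.coprime_dvd_left h1 ((Nat.Prime.coprime_iff_not_dvd hp).mpr hNp).symm
      have h1 := Cfsg.Agent.H01.card_sup_of_le_normalizer hQ hcop2
      rw [hL, Subgroup.card_top, Nat.card_zpowers, hxo] at h1
      have h2 := Subgroup.card_mul_index N
      rw [hNi] at h2
      have h3 : Nat.card Q' = Nat.card N := by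
        have : Nat.card Q' * p = Nat.card N * p := by rw [h1, h2]
        exact Nat.eq_of_mul_eq_mul_right hp.pos this
      have h4 : Q' = N := Subgroup.eq_of_le_of_card_ge hQ'N h3.ge
      exact hcon q hq hqp (h4 ▸ hQ'p)
    · have hc := hcent Q' hQ'N hQ hL
      have hle : Q' ≤ Subgroup.centralizer ({x} : Set G) := by
        intro c hcQ
        exact Subgroup.mem_centralizer_singleton_iff.mpr (hc c hcQ)
      -- q does not divide the index
      apply Q.not_dvd_index
      have h5 : (Subgroup.centralizer ({x} : Set G)).subgroupOf N ≥ (Q : Subgroup N) := by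
        intro c hcQ
        rw [Subgroup.mem_subgroupOf]
        exact hle ⟨c, hcQ, rfl⟩
      have h6 := Subgroup.index_dvd_of_le h5
      exact hqd.trans h6
  intro n hn
  have h7 : N ≤ Subgroup.centralizer ({x} : Set G) := Subgroup.relIndex_eq_one.mp hidx
  exact Subgroup.mem_centralizer_singleton_iff.mp (h7 hn)

end Cfsg.Agent.H18
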