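import Mathlib
import Cfsg.Agent.Lib.H13.FrobTwo
import Cfsg.Agent.Lib.H13.FrobOdd
import Cfsg.Agent.Lib.H19.Lifts

/-! Odd elements acting on `2`-groups: the structure of a minimal subgroup on which the action
is nontrivial. -/

set_option autoImplicit false

namespace Cfsg.Agent.H18

variable {G : Type*} [Group G]

/-- The subgroup generated by the squares of `Q`. -/
def sqSub (Q : Subgroup G) : Subgroup G := Subgroup.closure {w | ∃ u ∈ Q, w = u ^ 2}

theorem sq_mem_sqSub {Q : Subgroup G} {u : G} (hu : u ∈ Q) : u ^ 2 ∈ sqSub Q :=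
  Subgroup.subset_closure ⟨u, hu, rfl⟩

theorem sqSub_le (Q : Subgroup G) : sqSub Q ≤ Q := by
  rw [sqSub, Subgroup.closure_le]
  rintro _ ⟨u, hu, rfl⟩
  exact Q.pow_mem hu 2

theorem conj_mem_sqSub {Q : Subgroup G} {g : G} (hg : ∀ u ∈ Q, g * u * g⁻¹ ∈ Q) {w : G}
    (hw : w ∈ sqSub Q) : g * w * g⁻¹ ∈ sqSub Q := by
  rw [sqSub] at hw
  induction hw using Subgroup.closure_induction with
  | mem x hx =>
    obtain ⟨u, hu, rfl⟩ := hx
    have : g * u ^ 2 * g⁻¹ = (g * u * g⁻¹) ^ 2 := by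
      rw [conj_pow]
    rw [this]
    exact sq_mem_sqSub (hg u hu)
  | one => simp
  | mul a b _ _ ha hb =>
    have : g * (a * b) * g⁻¹ = (g * a * g⁻¹) * (g * b * g⁻¹) := by group
    rw [this]
    exact Subgroup.mul_mem _ ha hb
  | inv a _ ha =>
    have : g * a⁻¹ * g⁻¹ = (g * a * g⁻¹)⁻¹ := by group
    rw [this]
    exact Subgroup.inv_mem _ ha

theorem comm_mem_sqSub {Q : Subgroup G} {u v : G} (hu : u ∈ Q) (hv : v ∈ Q) :
    u * v * u⁻¹ * v⁻¹ ∈ sqSub Q := by
  have h : u * v * u⁻¹ * v⁻¹ = u ^ 2 * (u⁻¹ * v) ^ 2 * (v⁻¹) ^ 2 := by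
    simp only [pow_two]
    group
  rw [h]
  exact Subgroup.mul_mem _ (Subgroup.mul_mem _ (sq_mem_sqSub hu)
    (sq_mem_sqSub (Q.mul_mem (Q.inv_mem hu) hv))) (sq_mem_sqSub (Q.inv_mem hv))

variable [Finite G]

/-- The subgroup generated by squares of a nontrivial `2`-group is proper. -/
theorem sqSub_lt {Q : Subgroup G} (hQ : IsPGroup 2 Q) (hne : Q ≠ ⊥) : sqSub Q < Q := by
  refine lt_of_le_of_ne (sqSub_le Q) ?_
  intro heq
  haveI hF2 : Fact (Nat.Prime 2) := ⟨Nat.prime_two⟩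
  have hnt : Nontrivial Q := (Subgroup.nontrivial_iff_ne_bot Q).mpr hne
  obtain ⟨n, hn0, hn⟩ := hQ.nontrivial_iff_card.mp hnt
  obtain ⟨k, rfl⟩ : ∃ k, n = k + 1 := ⟨n - 1, by omega⟩
  obtain ⟨M, hM⟩ := Sylow.exists_subgroup_card_pow_prime (G := Q) 2
    (show 2 ^ k ∣ Nat.card Q by rw [hn, pow_succ]; exact Dvd.intro _ rfl)
  have hidx : M.index = 2 := by
    have h1 := Subgroup.card_mul_index M
    rw [hM, hn, pow_succ] at h1
    exact Nat.eq_of_mul_eq_mul_left (by positivity) h1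
  -- all of `Q` lies in `M`
  have hall : ∀ x : Q, x ∈ M := by
    intro x
    have h2 : (x : G) ∈ sqSub Q := by rw [heq]; exact x.2
    rw [sqSub] at h2
    have hstep : ∀ w ∈ Subgroup.closure {w | ∃ u ∈ Q, w = u ^ 2},
        ∃ h : w ∈ Q, (⟨w, h⟩ : Q) ∈ M := by
      intro w hw
      induction hw using Subgroup.closure_induction with
      | mem x hx =>
        obtain ⟨u, hu, rfl⟩ := hx
        refine ⟨Q.pow_mem hu 2, ?_⟩
        have h3 := Subgroup.mul_self_mem_of_index_two hidx (⟨u, hu⟩ : Q)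
        convert h3 using 1
        apply Subtype.ext
        simp [pow_two]
      | one => exact ⟨Q.one_mem, M.one_mem⟩
      | mul a b _ _ ha hb =>
        obtain ⟨ha1, ha2⟩ := ha
        obtain ⟨hb1, hb2⟩ := hb
        exact ⟨Q.mul_mem ha1 hb1, M.mul_mem ha2 hb2⟩
      | inv a _ ha =>
        obtain ⟨ha1, ha2⟩ := ha
        exact ⟨Q.inv_mem ha1, M.inv_mem ha2⟩
    obtain ⟨_, h3⟩ := hstep _ h2
    exact h3
  have htop : M = ⊤ := by
    rw [eq_top_iff]
    intro x _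
    exact hall x
  rw [htop, Subgroup.index_top] at hidx
  omega

/-- A coprime element trivial on `R` and on `Q` modulo `R` centralizes `Q`. -/
theorem centralizes_of_comm_mem {Q R : Subgroup G} (hQ : IsPGroup 2 Q) {y : G}
    (hy : Odd (orderOf y)) (hRQ : R ≤ Q) (hR : y ∈ Subgroup.centralizer (R : Set G))
    (h : ∀ u ∈ Q, y * u * y⁻¹ * u⁻¹ ∈ R) : y ∈ Subgroup.centralizer (Q : Set G) := by
  haveI hF2 : Fact (Nat.Prime 2) := ⟨Nat.prime_two⟩
  rw [Subgroup.mem_centralizer_iff]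
  intro u hu
  have h1 := H13.eq_one_of_fixed_comm (p := 2) hQ (g := y) (x := u)
    (Nat.coprime_two_right.mpr hy) (hRQ (h u hu))
    ((Subgroup.mem_centralizer_iff.mp hR _ (h u hu)).symm)
  have h3 : y * u * y⁻¹ = u := by simpa using congrArg (· * u) h1
  have h4 : y * u = u * y := by simpa using congrArg (· * y) h3
  exact h4.symm

/-- Hypothesis package: `Q` is minimal among `y`-invariant `2`-subgroups not centralized by `y`. -/
theorem min_structure {Q : Subgroup G} (hQ : IsPGroup 2 Q) {y : G}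
    (hyN : y ∈ Subgroup.normalizer (Q : Set G)) (hodd : Odd (orderOf y))
    (hnc : y ∉ Subgroup.centralizer (Q : Set G))
    (hmin : ∀ R : Subgroup G, R < Q → y ∈ Subgroup.normalizer (R : Set G) →
      y ∈ Subgroup.centralizer (R : Set G)) :
    (∀ e ∈ sqSub Q, y * e = e * y) ∧ (∀ e ∈ sqSub Q, ∀ v ∈ Q, e * v = v * e) ∧
      (∀ e ∈ sqSub Q, e ^ 2 = 1) := by
  haveI hF2 : Fact (Nat.Prime 2) := ⟨Nat.prime_two⟩
  have hQne : Q ≠ ⊥ := by
    rintro rfl
    apply hnc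
    rw [Subgroup.mem_centralizer_iff]
    intro h hh
    rw [show h = 1 from hh]
    simp
  have hy1 : ∀ u ∈ Q, y * u * y⁻¹ ∈ Q := fun u hu => (Subgroup.mem_normalizer_iff.mp hyN u).mp hu
  have hsqN : y ∈ Subgroup.normalizer ((sqSub Q : Subgroup G) : Set G) := by
    apply H19.mem_normalizer_of_conj_le
    intro x hx
    exact conj_mem_sqSub hy1 hx
  have hfix := hmin _ (sqSub_lt hQ hQne) hsqN
  have h1 : ∀ e ∈ sqSub Q, y * e = e * y := fun e he =>
    (Subgroup.mem_centralizer_iff.mp hfix e he).symm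
  -- the centralizer of the squares
  let A : Subgroup G := Q ⊓ Subgroup.centralizer ((sqSub Q : Subgroup G) : Set G)
  have hAQ : A ≤ Q := inf_le_left
  have hAN : y ∈ Subgroup.normalizer (A : Set G) := by
    apply H19.mem_normalizer_of_conj_le
    rintro x ⟨hx1, hx2⟩
    refine ⟨hy1 x hx1, ?_⟩
    have hx2' : x ∈ Subgroup.centralizer ((sqSub Q : Subgroup G) : Set G) := hx2
    show y * x * y⁻¹ ∈ Subgroup.centralizer ((sqSub Q : Subgroup G) : Set G)
    rw [Subgroup.mem_centralizer_iff] at hx2' ⊢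
    intro e he
    have h2 := hx2' e he
    calc e * (y * x * y⁻¹) = (e * y) * x * y⁻¹ := by group
      _ = (y * e) * x * y⁻¹ := by rw [h1 e he]
      _ = y * (e * x) * y⁻¹ := by group
      _ = y * (x * e) * y⁻¹ := by rw [h2]
      _ = y * x * (e * y⁻¹) := by group
      _ = y * x * (y⁻¹ * e) := by
        have : e * y⁻¹ = y⁻¹ * e := by
          have h3 := h1 e he
          calc e * y⁻¹ = y⁻¹ * (y * e) * y⁻¹ := by group
            _ = y⁻¹ * (e * y) * y⁻¹ := by rw [h3]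
            _ = y⁻¹ * e := by group
        rw [this]
      _ = y * x * y⁻¹ * e := by group
  have hcA : ∀ u ∈ Q, y * u * y⁻¹ * u⁻¹ ∈ A := by
    intro u hu
    refine ⟨Q.mul_mem (hy1 u hu) (Q.inv_mem hu), ?_⟩
    show y * u * y⁻¹ * u⁻¹ ∈ Subgroup.centralizer ((sqSub Q : Subgroup G) : Set G)
    rw [Subgroup.mem_centralizer_iff]
    intro e he
    have hconj : ∀ v ∈ Q, v * e * v⁻¹ ∈ sqSub Q := fun v hv =>
      conj_mem_sqSub (fun t ht => Q.mul_mem (Q.mul_mem hv ht) (Q.inv_mem hv)) he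
    have h3 := h1 _ (hconj u⁻¹ (Q.inv_mem hu))
    have h4 : u⁻¹ * e * u⁻¹⁻¹ = u⁻¹ * e * u := by group
    rw [h4] at h3
    have h5 : y⁻¹ * (u⁻¹ * e * u) = (u⁻¹ * e * u) * y⁻¹ := by
      calc y⁻¹ * (u⁻¹ * e * u) = y⁻¹ * ((u⁻¹ * e * u) * y) * y⁻¹ := by group
        _ = y⁻¹ * (y * (u⁻¹ * e * u)) * y⁻¹ := by rw [h3]
        _ = (u⁻¹ * e * u) * y⁻¹ := by group
    calc e * (y * u * y⁻¹ * u⁻¹) = (e * y) * u * y⁻¹ * u⁻¹ := by group
      _ = (y * e) * u * y⁻¹ * u⁻¹ := by rw [h1 e he]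
      _ = y * u * (u⁻¹ * e * u) * y⁻¹ * u⁻¹ := by group
      _ = y * u * ((u⁻¹ * e * u) * y⁻¹) * u⁻¹ := by group
      _ = y * u * (y⁻¹ * (u⁻¹ * e * u)) * u⁻¹ := by rw [h5]
      _ = y * u * y⁻¹ * u⁻¹ * e := by group
  have hAeq : A = Q := by
    by_contra hne
    have hlt : A < Q := lt_of_le_of_ne hAQ hne
    exact hnc (centralizes_of_comm_mem hQ hodd hAQ (hmin A hlt hAN) hcA)
  have h2 : ∀ e ∈ sqSub Q, ∀ v ∈ Q, e * v = v * e := by
    intro e he v hv
    have hv2 : v ∈ A := by rw [hAeq]; exact hv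
    have hv3 : v ∈ Subgroup.centralizer ((sqSub Q : Subgroup G) : Set G) := hv2.2
    exact (Subgroup.mem_centralizer_iff.mp hv3 e he)
  -- fourth powers
  have hcomm : ∀ u ∈ Q, ∀ v ∈ Q, (u * v) ^ 4 = u ^ 4 * v ^ 4 := by
    intro u hu v hv
    set c := v * u * v⁻¹ * u⁻¹ with hc
    have hcm : c ∈ sqSub Q := comm_mem_sqSub hv hu
    have hcu : Commute c u := h2 c hcm u hu
    have hcv : Commute c v := h2 c hcm v hv
    have hvu : v * u = c * u * v := by rw [hc]; group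
    have h3 := (H13.mul_pow_of_central hvu hcu hcv 2).1
    have h4 : v ^ 2 * u = u * v ^ 2 := h2 _ (sq_mem_sqSub hv) u hu
    have h5 : c ^ 2 = 1 := by
      rw [h4] at h3
      have h6 : u * v ^ 2 = c ^ 2 * (u * v ^ 2) := by rw [← mul_assoc]; exact h3
      exact (mul_eq_right.mp h6.symm)
    have h7 := (H13.mul_pow_of_central hvu hcu hcv 4).2
    rw [h7]
    have h8 : Nat.choose 4 2 = 6 := by decide
    rw [h8, show (6 : ℕ) = 2 * 3 from rfl, pow_mul, h5, one_pow, mul_one]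
  let Q₄ : Subgroup G :=
    { carrier := {u | u ∈ Q ∧ u ^ 4 = 1}
      mul_mem' := by
        rintro a b ⟨ha, ha2⟩ ⟨hb, hb2⟩
        refine ⟨Q.mul_mem ha hb, ?_⟩
        rw [hcomm a ha b hb, ha2, hb2, one_mul]
      one_mem' := ⟨Q.one_mem, one_pow _⟩
      inv_mem' := by
        rintro a ⟨ha, ha2⟩
        exact ⟨Q.inv_mem ha, by rw [inv_pow, ha2, inv_one]⟩ }
  have hQ₄Q : Q₄ ≤ Q := fun x hx => hx.1
  have hQ₄N : y ∈ Subgroup.normalizer (Q₄ : Set G) := by
    apply H19.mem_normalizer_of_conj_le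
    rintro x ⟨hx1, hx2⟩
    refine ⟨hy1 x hx1, ?_⟩
    rw [conj_pow, hx2]
    simp
  have h4all : ∀ u ∈ Q, u ^ 4 = 1 := by
    have hQ₄eq : Q₄ = Q := by
      by_contra hne
      have hlt : Q₄ < Q := lt_of_le_of_ne hQ₄Q hne
      have hfix4 := hmin Q₄ hlt hQ₄N
      apply hnc
      apply H13.centralizes_of_centralizes_omega_two hQ hyN (Nat.coprime_two_right.mpr hodd)
      intro x hx hx4
      exact (Subgroup.mem_centralizer_iff.mp hfix4 x ⟨hx, hx4⟩).symm
    intro u hu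
    have : u ∈ Q₄ := by rw [hQ₄eq]; exact hu
    exact this.2
  refine ⟨h1, h2, ?_⟩
  intro e he
  have heQ := he
  rw [sqSub] at he
  induction he using Subgroup.closure_induction with
  | mem x hx =>
    obtain ⟨u, hu, rfl⟩ := hx
    rw [← pow_mul]
    exact h4all u hu
  | one => simp
  | mul a b ha hb iha ihb =>
    have ha' : a ∈ sqSub Q := ha
    have hb' : b ∈ sqSub Q := hb
    have hc : Commute a b := h2 a ha' b (sqSub_le Q hb')
    rw [hc.mul_pow, iha ha', ihb hb', one_mul]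
  | inv a ha iha =>
    have ha' : a ∈ sqSub Q := ha
    rw [inv_pow, iha ha', inv_one]

end Cfsg.Agent.H18
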