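import Mathlib
import Cfsg.Agent.Lib.H18.Basic
import Cfsg.Agent.Lib.H18.PGroup
import Cfsg.Agent.Lib.H18.Syl
import Cfsg.Agent.Lib.H01.Coprime

/-! Soft subgroups of `p`-groups (Héthelyi). -/

set_option autoImplicit false
set_option linter.unusedSectionVars false

namespace Cfsg.Agent.H18

open scoped commutatorElement

universe u

section
variable {X : Type u} [Group X]

/-- `E` abelian, self-centralizing, of index `p` in its normalizer. -/
structure Soft (p : ℕ) (E : Subgroup X) : Prop where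
  ab : ∀ a ∈ E, ∀ b ∈ E, a * b = b * a
  sc : Subgroup.centralizer (E : Set X) ≤ E
  nidx : Nat.card (Subgroup.normalizer (E : Set X)) = p * Nat.card E

variable [Finite X] {p : ℕ} [hp : Fact p.Prime]

theorem grow_le (hG : IsPGroup p X) {H K : Subgroup X} (hHK : H < K)
    (hn : Nat.card (Subgroup.normalizer (H : Set X)) = p * Nat.card H) :
    Subgroup.normalizer (H : Set X) ≤ K := by
  obtain ⟨x, hxK, hxH, hxN⟩ := exists_mem_sdiff_normalizer (hG.to_subgroup K) hHK
  have h1 : H < Subgroup.normalizer (H : Set X) ⊓ K := by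
    refine lt_of_le_of_ne (le_inf Subgroup.le_normalizer hHK.le) ?_
    intro h
    exact hxH (h ▸ ⟨hxN, hxK⟩)
  have h2 := card_mul_le_of_lt hG h1
  rw [← hn] at h2
  have h3 := Subgroup.eq_of_le_of_card_ge (inf_le_left : Subgroup.normalizer (H : Set X) ⊓ K ≤ _) h2
  exact inf_eq_left.1 h3

theorem soft_comparable (hG : IsPGroup p X) {J₁ J₂ : Subgroup X}
    (hn : Nat.card (Subgroup.normalizer ((J₁ ⊓ J₂ : Subgroup X) : Set X)) = p * Nat.card (J₁ ⊓ J₂ : Subgroup X)) :
    J₁ ≤ J₂ ∨ J₂ ≤ J₁ := by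
  by_contra hcon
  push Not at hcon
  obtain ⟨h1, h2⟩ := hcon
  have hl1 : J₁ ⊓ J₂ < J₁ := lt_of_le_of_ne inf_le_left (fun h => h1 (inf_eq_left.1 h))
  have hl2 : J₁ ⊓ J₂ < J₂ := lt_of_le_of_ne inf_le_right (fun h => h2 (inf_eq_right.1 h))
  have h3 := grow_le hG hl1 hn
  have h4 := grow_le hG hl2 hn
  have h5 : Subgroup.normalizer ((J₁ ⊓ J₂ : Subgroup X) : Set X) ≤ J₁ ⊓ J₂ := le_inf h3 h4
  have h6 := Subgroup.card_le_of_le h5
  rw [hn] at h6
  have h7 : 0 < Nat.card (J₁ ⊓ J₂ : Subgroup X) := Nat.card_pos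
  have h8 := hp.out.two_le
  nlinarith

/-- Commutators lie in a subgroup of prime index normalized by the overgroup. -/
theorem comm_mem_of_prime_index {H K : Subgroup X} (hHK : H ≤ K) (hKn : K ≤ Subgroup.normalizer (H : Set X))
    (hc : Nat.card K = p * Nat.card H) {a b : X} (ha : a ∈ K) (hb : b ∈ K) : ⁅a, b⁆ ∈ H := by
  haveI hnor : (H.subgroupOf K).Normal := (Subgroup.normal_subgroupOf_iff_le_normalizer hHK).2 hKn
  have hcard : Nat.card (↥K ⧸ H.subgroupOf K) = p := by
    have h1 := Subgroup.card_eq_card_quotient_mul_card_subgroup (H.subgroupOf K)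
    have h0 : Nat.card (H.subgroupOf K) = Nat.card H := Nat.card_congr (Subgroup.subgroupOfEquivOfLe hHK).toEquiv
    rw [h0, hc] at h1
    have h2 : 0 < Nat.card H := Nat.card_pos
    exact (Nat.eq_of_mul_eq_mul_right h2 h1).symm
  haveI : Fact (Nat.card (↥K ⧸ H.subgroupOf K)).Prime := ⟨hcard ▸ hp.out⟩
  haveI : IsCyclic (↥K ⧸ H.subgroupOf K) := isCyclic_of_prime_card rfl
  have h3 : ∀ u v : ↥K ⧸ H.subgroupOf K, u * v = v * u := fun u v =>
    (IsCyclic.isMulCommutative (α := ↥K ⧸ H.subgroupOf K)).is_comm.comm u v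
  have h4 := h3 ((⟨a, ha⟩ : K) : ↥K ⧸ H.subgroupOf K) ((⟨b, hb⟩ : K) : ↥K ⧸ H.subgroupOf K)
  rw [← QuotientGroup.mk_mul, ← QuotientGroup.mk_mul, QuotientGroup.eq] at h4
  have h5 : ((⟨a, ha⟩ * ⟨b, hb⟩ : K))⁻¹ * (⟨b, hb⟩ * ⟨a, ha⟩) ∈ H.subgroupOf K := h4
  rw [Subgroup.mem_subgroupOf] at h5
  have h6 : ((⟨a, ha⟩ * ⟨b, hb⟩ : K)⁻¹ * (⟨b, hb⟩ * ⟨a, ha⟩) : K).1 = ⁅b⁻¹, a⁻¹⁆ := by
    simp only [Subgroup.coe_mul, Subgroup.coe_inv, commutatorElement_def]
    group
  rw [h6] at h5
  have h7 : ⁅a, b⁆ = (a * b) * ⁅b⁻¹, a⁻¹⁆⁻¹ * (a * b)⁻¹ := by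
    simp only [commutatorElement_def]
    group
  rw [h7]
  have h8 : a * b ∈ Subgroup.normalizer (H : Set X) := hKn (K.mul_mem ha hb)
  exact (Subgroup.mem_normalizer_iff.1 h8 _).1 (H.inv_mem h5)

/-- Counting a family of subgroups of index `q` above `R`, with `R` of index `q²`. -/
theorem count_family {ι : Type*} [Finite ι] {K R : Subgroup X} (H : ι → Subgroup X) {q : ℕ} (hq : 2 ≤ q)
    (hR : ∀ i, R ≤ H i) (hK : ∀ i, H i ≤ K) (hcard : ∀ i, Nat.card (H i) = q * Nat.card R)
    (hinj : ∀ i j, i ≠ j → H i ⊓ H j = R) (hRK : R ≤ K) (hKc : Nat.card K = q * q * Nat.card R) : Nat.card ι ≤ q + 1 := by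
  classical
  letI := Fintype.ofFinite X
  letI := Fintype.ofFinite ι
  have hcardS : ∀ S : Subgroup X, Nat.card S = (Finset.univ.filter (· ∈ S)).card := by
    intro S
    rw [Nat.card_eq_fintype_card]
    exact Fintype.card_subtype _
  let D : ι → Finset X := fun i => Finset.univ.filter (fun x => x ∈ H i ∧ x ∉ R)
  have hDcard : ∀ i, (D i).card + Nat.card R = q * Nat.card R := by
    intro i
    rw [← hcard i, hcardS (H i), hcardS R]
    rw [← Finset.card_union_of_disjoint]
    · congr 1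
      ext x
      simp only [D, Finset.mem_union, Finset.mem_filter, Finset.mem_univ, true_and]
      constructor
      · rintro (h | h)
        · exact h.1
        · exact hR i h
      · intro h
        by_cases hx : x ∈ R
        · exact Or.inr hx
        · exact Or.inl ⟨h, hx⟩
    · rw [Finset.disjoint_left]
      intro x hx hx2
      simp only [D, Finset.mem_filter, Finset.mem_univ, true_and] at hx hx2
      exact hx.2 hx2
  have hdis : ∀ i ∈ (Finset.univ : Finset ι), ∀ j ∈ (Finset.univ : Finset ι), i ≠ j → Disjoint (D i) (D j) := by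
    intro i _ j _ hij
    rw [Finset.disjoint_left]
    intro x hx hx2
    simp only [D, Finset.mem_filter, Finset.mem_univ, true_and] at hx hx2
    have h1 : x ∈ H i ⊓ H j := ⟨hx.1, hx2.1⟩
    rw [hinj i j hij] at h1
    exact hx.2 h1
  have hU := Finset.card_biUnion hdis
  let DK : Finset X := Finset.univ.filter (fun x => x ∈ K ∧ x ∉ R)
  have hsub : (Finset.univ.biUnion D) ⊆ DK := by
    intro x hx
    simp only [Finset.mem_biUnion, Finset.mem_univ, true_and, D] at hx
    obtain ⟨i, hi⟩ := hx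
    simp only [Finset.mem_filter, Finset.mem_univ, true_and] at hi
    simp only [DK, Finset.mem_filter, Finset.mem_univ, true_and]
    exact ⟨hK i hi.1, hi.2⟩
  have hDK : DK.card + Nat.card R = q * q * Nat.card R := by
    rw [← hKc, hcardS K, hcardS R]
    rw [← Finset.card_union_of_disjoint]
    · congr 1
      ext x
      simp only [DK, Finset.mem_union, Finset.mem_filter, Finset.mem_univ, true_and]
      constructor
      · rintro (h | h)
        · exact h.1
        · exact hRK h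
      · intro h
        by_cases hx : x ∈ R
        · exact Or.inr hx
        · exact Or.inl ⟨h, hx⟩
    · rw [Finset.disjoint_left]
      intro x hx hx2
      simp only [DK, Finset.mem_filter, Finset.mem_univ, true_and] at hx hx2
      exact hx.2 hx2
  have hle := Finset.card_le_card hsub
  rw [hU] at hle
  obtain ⟨r, rfl⟩ : ∃ r, q = r + 2 := ⟨q - 2, by omega⟩
  set c := Nat.card R with hc
  have hcpos : 0 < c := Nat.card_pos
  have hd : ∀ i, (D i).card = (r + 1) * c := by
    intro i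
    have := hDcard i
    nlinarith
  simp only [hd, Finset.sum_const, Finset.card_univ, smul_eq_mul] at hle
  rw [Nat.card_eq_fintype_card]
  by_contra hcon
  push Not at hcon
  have h1 : (r + 2 + 2) * ((r + 1) * c) ≤ Fintype.card ι * ((r + 1) * c) := Nat.mul_le_mul_right _ hcon
  nlinarith

/-- Conjugate family above a normal subgroup: at most `p` conjugates of a subgroup of index `p`
above a subgroup of index `p²` in a `p`-group. -/
theorem count_index (hG : IsPGroup p X) {K M R : Subgroup X} (hKtop : K ≠ ⊤)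
    (hn : Subgroup.normalizer (M : Set X) = K) (hMK : Nat.card K = p * Nat.card M) (hcR : Nat.card M = p * Nat.card R)
    (hRM : R ≤ M) (hMK' : M ≤ K)
    (hRn : ∀ g ∈ Subgroup.normalizer (K : Set X), ∀ r ∈ R, g * r * g⁻¹ ∈ R) :
    Nat.card (Subgroup.normalizer (K : Set X)) = p * Nat.card K := by
  classical
  set G := Subgroup.normalizer (K : Set X) with hG'
  have hKG : K ≤ G := Subgroup.le_normalizer
  let ι := ↥G ⧸ K.subgroupOf G
  let H : ι → Subgroup X := fun a => M.map (MulAut.conj ((Quotient.out a : G) : X)).toMonoidHom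
  have hmemconj : ∀ (g : G) (x : X), x ∈ M → (g : X) * x * (g : X)⁻¹ ∈ K := by
    intro g x hx
    exact (Subgroup.mem_normalizer_iff.1 g.2 x).1 (hMK' hx)
  have hRH : ∀ i, R ≤ H i := by
    intro i r hr
    refine ⟨((Quotient.out i : G) : X)⁻¹ * r * ((Quotient.out i : G) : X), ?_, ?_⟩
    · apply hRM
      have := hRn _ (G.inv_mem (Quotient.out i : G).2) r hr
      simpa using this
    · simp [mul_assoc]
  have hHK : ∀ i, H i ≤ K := by
    rintro i _ ⟨x, hx, rfl⟩
    exact hmemconj _ x hx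
  have hHc : ∀ i, Nat.card (H i) = p * Nat.card R := by
    intro i
    show Nat.card (M.map (MulAut.conj ((Quotient.out i : G) : X)).toMonoidHom) = _
    rw [card_map_conj, hcR]
  have hHne : ∀ i j : ι, i ≠ j → H i ≠ H j := by
    intro i j hij h
    apply hij
    have h1 : ((Quotient.out i : G) : X)⁻¹ * ((Quotient.out j : G) : X) ∈ Subgroup.normalizer (M : Set X) := by
      apply mem_normalizer_of_map_conj_eq
      have h2 := h
      simp only [H] at h2
      rw [map_conj_mul]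
      apply_fun (fun S => S.map (MulAut.conj ((Quotient.out i : G) : X)⁻¹).toMonoidHom) at h2
      rw [map_conj_map_conj_inv] at h2
      exact h2.symm
    rw [hn] at h1
    rw [← QuotientGroup.out_eq' i, ← QuotientGroup.out_eq' j, QuotientGroup.eq, Subgroup.mem_subgroupOf]
    exact h1
  have hHinf : ∀ i j, i ≠ j → H i ⊓ H j = R := by
    intro i j hij
    by_contra hne
    have h1 : R < H i ⊓ H j := lt_of_le_of_ne (le_inf (hRH i) (hRH j)) (Ne.symm hne)
    have h2 := card_mul_le_of_lt hG h1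
    rw [← hHc i] at h2
    have h3 := Subgroup.eq_of_le_of_card_ge (inf_le_left : H i ⊓ H j ≤ H i) h2
    have h4 : H i ≤ H j := inf_eq_left.1 h3
    have h5 := Subgroup.eq_of_le_of_card_ge h4 (by rw [hHc i, hHc j])
    exact hHne i j hij h5
  have hq := hp.out.two_le
  have hbound := count_family H hq hRH hHK hHc hHinf (hRM.trans hMK') (by rw [hMK, hcR]; ring)
  have hKlt : K < G := by
    obtain ⟨x, -, hx1, hx2⟩ := exists_mem_sdiff_normalizer (hG.to_subgroup ⊤) (lt_top_iff_ne_top.2 hKtop)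
    exact lt_of_le_of_ne hKG (fun h => hx1 (h ▸ hx2))
  have hcG := Subgroup.card_eq_card_quotient_mul_card_subgroup (K.subgroupOf G)
  have h0 : Nat.card (K.subgroupOf G) = Nat.card K := Nat.card_congr (Subgroup.subgroupOfEquivOfLe hKG).toEquiv
  rw [h0] at hcG
  change Nat.card G = Nat.card ι * Nat.card K at hcG
  have hpos : 0 < Nat.card K := Nat.card_pos
  have hdvd : Nat.card ι ∣ Nat.card G := ⟨_, hcG⟩
  obtain ⟨n, hn0⟩ := IsPGroup.iff_card.1 (hG.to_subgroup G)
  rw [hn0] at hdvd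
  obtain ⟨a, -, ha⟩ := (Nat.dvd_prime_pow hp.out).1 hdvd
  have hlow := card_mul_le_of_lt hG hKlt
  rw [hcG] at hlow ⊢
  have hiota : p ≤ Nat.card ι := Nat.le_of_mul_le_mul_right hlow hpos
  have hform : Nat.card ι = p := by
    rw [ha] at hbound hiota ⊢
    rcases a with _ | _ | a
    · simp only [pow_zero] at hiota
      omega
    · simp
    · exfalso
      have h1 : p ^ 2 ≤ p ^ (a + 1 + 1) := Nat.pow_le_pow_right hp.out.pos (by omega)
      nlinarith
  rw [hform]

/-- An abelian conjugate. -/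
theorem comm_of_conj {E : Subgroup X} (hab : ∀ a ∈ E, ∀ b ∈ E, a * b = b * a) (g : X) :
    ∀ u ∈ E.map (MulAut.conj g).toMonoidHom, ∀ v ∈ E.map (MulAut.conj g).toMonoidHom, u * v = v * u := by
  intro u hu v hv
  rw [mem_conj] at hu hv
  have h1 := hab _ hu _ hv
  have h2 : u * v = g * ((g⁻¹ * u * g) * (g⁻¹ * v * g)) * g⁻¹ := by group
  have h3 : v * u = g * ((g⁻¹ * v * g) * (g⁻¹ * u * g)) * g⁻¹ := by group
  rw [h2, h3, h1]

/-- The first step of the normalizer tower. -/
theorem soft_base (hG : IsPGroup p X) {E : Subgroup X} (hS : Soft p E)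
    (hKtop : Subgroup.normalizer (E : Set X) ≠ ⊤) :
    Nat.card (Subgroup.normalizer ((Subgroup.normalizer (E : Set X) : Subgroup X) : Set X)) =
      p * Nat.card (Subgroup.normalizer (E : Set X)) ∧
    ∀ a ∈ Subgroup.normalizer (E : Set X), ∀ b ∈ Subgroup.normalizer (E : Set X),
      ∀ k ∈ Subgroup.normalizer (E : Set X), ⁅a, b⁆ * k = k * ⁅a, b⁆ := by
  set K := Subgroup.normalizer (E : Set X) with hK
  have hEK : E ≤ K := Subgroup.le_normalizer
  obtain ⟨g, -, hg1, hg2⟩ := exists_mem_sdiff_normalizer (hG.to_subgroup ⊤) (lt_top_iff_ne_top.2 hKtop)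
  set E' := E.map (MulAut.conj g).toMonoidHom with hE'
  have hE'K : E' ≤ K := by
    rintro _ ⟨x, hx, rfl⟩
    exact (Subgroup.mem_normalizer_iff.1 hg2 x).1 (hEK hx)
  have hE'card : Nat.card E' = Nat.card E := card_map_conj E g
  have hne : E' ≠ E := fun h => hg1 (mem_normalizer_of_map_conj_eq h)
  have hnle : ¬ E ≤ E' := fun h => hne (Subgroup.eq_of_le_of_card_ge h (by rw [hE'card])).symm
  have hKnE' : K ≤ Subgroup.normalizer (E' : Set X) := by
    intro k hk
    apply mem_normalizer_of_map_conj_eq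
    have h1 : g⁻¹ * k * g ∈ K := by
      have := (Subgroup.mem_normalizer_iff.1 (Subgroup.inv_mem _ hg2) k).1 hk
      simpa using this
    have h2 : k * g = g * (g⁻¹ * k * g) := by group
    rw [hE', ← map_conj_mul, h2, map_conj_mul, map_conj_eq_of_mem_normalizer h1]
  have hcK : Nat.card K = p * Nat.card E := hS.nidx
  have hcK' : Nat.card K = p * Nat.card E' := by rw [hcK, hE'card]
  -- `K = E' ⊔ E`
  have hsup : E' ⊔ E = K := by
    have h1 : E < E' ⊔ E := by
      refine lt_of_le_of_ne le_sup_right ?_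
      intro h
      have h2 : E' ≤ E := by
        rw [h]
        exact le_sup_left
      exact hnle (Subgroup.eq_of_le_of_card_ge h2 (by rw [hE'card]) ▸ le_rfl)
    have h2 := card_mul_le_of_lt hG h1
    rw [← hcK] at h2
    exact Subgroup.eq_of_le_of_card_ge (sup_le hE'K hEK) h2
  have hE'ab := comm_of_conj hS.ab g
  have hcen : ∀ z ∈ E' ⊓ E, ∀ k ∈ K, z * k = k * z := by
    intro z hz k hk
    have h1 : K ≤ Subgroup.centralizer ({z} : Set X) := by
      rw [← hsup]
      apply sup_le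
      · intro x hx
        rw [Subgroup.mem_centralizer_iff]
        rintro _ rfl
        exact hE'ab _ hz.1 _ hx
      · intro x hx
        rw [Subgroup.mem_centralizer_iff]
        rintro _ rfl
        exact hS.ab _ hz.2 _ hx
    have h2 := h1 hk
    rw [Subgroup.mem_centralizer_iff] at h2
    exact h2 z rfl
  set R := K ⊓ Subgroup.centralizer (K : Set X) with hR
  have hRE : R ≤ E := by
    intro r hr
    apply hS.sc
    rw [Subgroup.mem_centralizer_iff]
    intro h hh
    have h0 : r ∈ Subgroup.centralizer (K : Set X) := hr.2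
    exact Subgroup.mem_centralizer_iff.1 h0 h (hEK hh)
  have hRn : ∀ h ∈ Subgroup.normalizer (K : Set X), ∀ r ∈ R, h * r * h⁻¹ ∈ R := by
    intro h hh r hr
    refine ⟨(Subgroup.mem_normalizer_iff.1 hh r).1 hr.1, Subgroup.mem_centralizer_iff.2 ?_⟩
    have h0 : r ∈ Subgroup.centralizer (K : Set X) := hr.2
    have h1 := Subgroup.mem_centralizer_iff.1 h0
    intro k hk
    have h2 : h⁻¹ * k * h ∈ K := by
      have := (Subgroup.mem_normalizer_iff.1 (Subgroup.inv_mem _ hh) k).1 hk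
      simpa using this
    have h3 := h1 _ h2
    calc k * (h * r * h⁻¹) = h * ((h⁻¹ * k * h) * r) * h⁻¹ := by group
      _ = h * (r * (h⁻¹ * k * h)) * h⁻¹ := by rw [h3]
      _ = h * r * h⁻¹ * k := by group
  have hRE' : R ≤ E' := by
    intro r hr
    rw [hE', mem_conj]
    exact hRE (hRn g⁻¹ (Subgroup.inv_mem _ hg2) r hr |> fun h => by simpa using h)
  have hinf : E' ⊓ E = R := by
    apply le_antisymm
    · intro z hz
      refine ⟨hEK hz.2, Subgroup.mem_centralizer_iff.2 ?_⟩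
      intro k hk
      exact (hcen z hz k hk).symm
    · exact le_inf hRE' hRE
  -- the index of `R` in `E`
  have hrel : E'.relIndex E = p := by
    have h1 : E'.relIndex K = p := by
      have h2 := card_inf_mul_relIndex E' K
      rw [inf_eq_left.2 hE'K, hcK'] at h2
      have h3 : 0 < Nat.card E' := Nat.card_pos
      have h4 : Nat.card E' * E'.relIndex K = Nat.card E' * p := by rw [h2]; ring
      exact Nat.eq_of_mul_eq_mul_left h3 h4
    haveI hnor : (E.subgroupOf K).Normal := (Subgroup.normal_subgroupOf_iff_le_normalizer hEK).2 le_rfl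
    have h5 := relIndex_dvd_index_of_normal_right (E'.subgroupOf K) (E.subgroupOf K)
    rw [Subgroup.relIndex_subgroupOf hEK] at h5
    have h6 : (E'.subgroupOf K).index = p := h1
    rw [h6] at h5
    rcases (Nat.dvd_prime hp.out).1 h5 with h7 | h7
    · exfalso
      rw [Subgroup.relIndex_eq_one] at h7
      exact hnle h7
    · exact h7
  have hcR : Nat.card E = p * Nat.card R := by
    have h1 := card_inf_mul_relIndex E' E
    rw [hinf, hrel] at h1
    rw [← h1]
    ring
  refine ⟨count_index hG hKtop rfl hcK hcR hRE hEK hRn, ?_⟩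
  intro a ha b hb k hk
  have h1 : ⁅a, b⁆ ∈ E := comm_mem_of_prime_index hEK le_rfl hcK ha hb
  have h2 : ⁅a, b⁆ ∈ E' := comm_mem_of_prime_index hE'K hKnE' hcK' ha hb
  exact hcen _ ⟨h2, h1⟩ k hk

/-- The conclusion of the main theorem. -/
def SoftConcl (p : ℕ) {Y : Type*} [Group Y] (E K : Subgroup Y) : Prop :=
  Nat.card (Subgroup.normalizer (K : Set Y)) = p * Nat.card K ∧
  (K ≠ E → (∀ a ∈ Subgroup.normalizer (E : Set Y), ∀ b ∈ Subgroup.normalizer (E : Set Y), ∀ k ∈ K,
      ⁅a, b⁆ * k = k * ⁅a, b⁆) ∧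
    ∀ n, Nat.card K = Nat.card E * p ^ n → K.lowerCentralSeries (n + 1) = ⊥)

theorem soft_center_conj (K : Subgroup X) :
    ∀ h ∈ Subgroup.normalizer (K : Set X), ∀ r ∈ K ⊓ Subgroup.centralizer (K : Set X),
      h * r * h⁻¹ ∈ K ⊓ Subgroup.centralizer (K : Set X) := by
  intro h hh r hr
  refine ⟨(Subgroup.mem_normalizer_iff.1 hh r).1 hr.1, Subgroup.mem_centralizer_iff.2 ?_⟩
  have h0 : r ∈ Subgroup.centralizer (K : Set X) := hr.2
  have h1 := Subgroup.mem_centralizer_iff.1 h0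
  intro k hk
  have h2 : h⁻¹ * k * h ∈ K := by
    have := (Subgroup.mem_normalizer_iff.1 (Subgroup.inv_mem _ hh) k).1 hk
    simpa using this
  have h3 := h1 _ h2
  calc k * (h * r * h⁻¹) = h * ((h⁻¹ * k * h) * r) * h⁻¹ := by group
    _ = h * (r * (h⁻¹ * k * h)) * h⁻¹ := by rw [h3]
    _ = h * r * h⁻¹ * k := by group

theorem soft_step (hG : IsPGroup p X) {E K : Subgroup X} (hS : Soft p E)
    (hN₁K : Subgroup.normalizer (E : Set X) < K) (hKtop : K ≠ ⊤)
    (hN₂ : Nat.card (Subgroup.normalizer ((Subgroup.normalizer (E : Set X) : Subgroup X) : Set X)) =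
      p * Nat.card (Subgroup.normalizer (E : Set X)))
    (hCK : ∀ a ∈ Subgroup.normalizer (E : Set X), ∀ b ∈ Subgroup.normalizer (E : Set X), ∀ k ∈ K,
      ⁅a, b⁆ * k = k * ⁅a, b⁆)
    (IH : ∀ (Y : Type u) [Group Y] [Finite Y], Nat.card Y < Nat.card X → IsPGroup p Y →
      ∀ E₁ : Subgroup Y, Soft p E₁ → ∀ K₁ : Subgroup Y, E₁ ≤ K₁ → K₁ ≠ ⊤ → SoftConcl p E₁ K₁) :
    SoftConcl p E K := by
  classical
  set N₁ := Subgroup.normalizer (E : Set X) with hN₁
  have hEN₁ : E ≤ N₁ := Subgroup.le_normalizer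
  have hEK : E ≤ K := hEN₁.trans hN₁K.le
  set G := Subgroup.normalizer (K : Set X) with hG'
  have hKG : K ≤ G := Subgroup.le_normalizer
  obtain ⟨g, -, hg1, hg2⟩ := exists_mem_sdiff_normalizer (hG.to_subgroup ⊤) (lt_top_iff_ne_top.2 hKtop)
  set Z := K ⊓ Subgroup.centralizer (K : Set X) with hZ
  have hZE : Z ≤ E := by
    intro r hr
    apply hS.sc
    have h0 : r ∈ Subgroup.centralizer (K : Set X) := hr.2
    exact Subgroup.mem_centralizer_iff.2 (fun h hh => Subgroup.mem_centralizer_iff.1 h0 h (hEK hh))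
  have hZG : Z ≤ G := inf_le_left.trans hKG
  have hZcen : ∀ z ∈ Z, ∀ k ∈ K, z * k = k * z := by
    intro z hz k hk
    have h0 : z ∈ Subgroup.centralizer (K : Set X) := hz.2
    exact (Subgroup.mem_centralizer_iff.1 h0 k hk).symm
  let Zc : Subgroup G := Z.subgroupOf G
  haveI hZcn : Zc.Normal := ⟨fun z hz t => Subgroup.mem_subgroupOf.2
    (soft_center_conj K t t.2 z (Subgroup.mem_subgroupOf.1 hz))⟩
  let f : G →* G ⧸ Zc := QuotientGroup.mk' Zc
  have hfeq : ∀ s t : G, f s = f t ↔ ((s : X)⁻¹ * t) ∈ Z := by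
    intro s t
    show ((s : G ⧸ Zc) = t) ↔ _
    rw [QuotientGroup.eq, Subgroup.mem_subgroupOf]
    rfl
  have hsurj : Function.Surjective f := QuotientGroup.mk'_surjective Zc
  let bar : Subgroup X → Subgroup (G ⧸ Zc) := fun H => (H.subgroupOf G).map f
  have hbar : ∀ H : Subgroup X, Z ≤ H → ∀ t : G, f t ∈ bar H ↔ (t : X) ∈ H := by
    intro H hH t
    constructor
    · rintro ⟨s, hs, hst⟩
      have h1 := (hfeq s t).1 hst
      have h2 : (s : X) ∈ H := Subgroup.mem_subgroupOf.1 hs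
      have h3 := H.mul_mem h2 (hH h1)
      simpa using h3
    · intro ht
      exact ⟨t, Subgroup.mem_subgroupOf.2 ht, rfl⟩
  have hcardZc : Nat.card Zc = Nat.card Z := Nat.card_congr (Subgroup.subgroupOfEquivOfLe hZG).toEquiv
  have hcardG : Nat.card G = Nat.card (G ⧸ Zc) * Nat.card Z := by
    rw [← hcardZc]
    exact Subgroup.card_eq_card_quotient_mul_card_subgroup Zc
  have hkerf : f.ker = Zc := QuotientGroup.ker_mk' Zc
  have hbarcard : ∀ H : Subgroup X, Z ≤ H → H ≤ G → Nat.card (bar H) * Nat.card Z = Nat.card H := by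
    intro H hH hHG
    have h1 := Subgroup.index_map (H.subgroupOf G) f
    have h2 : (H.subgroupOf G) ⊔ f.ker = H.subgroupOf G := by
      rw [hkerf]
      exact sup_eq_left.2 (fun x hx => Subgroup.mem_subgroupOf.2 (hH (Subgroup.mem_subgroupOf.1 hx)))
    rw [h2, MonoidHom.range_eq_top.2 hsurj, Subgroup.index_top, mul_one] at h1
    have h3 := Subgroup.card_mul_index (bar H)
    have h4 := Subgroup.card_mul_index (H.subgroupOf G)
    have h5 : Nat.card (H.subgroupOf G) = Nat.card H := Nat.card_congr (Subgroup.subgroupOfEquivOfLe hHG).toEquiv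
    have h6 : (bar H).index = (H.subgroupOf G).index := h1
    rw [h6] at h3
    rw [h5] at h4
    have h7 : 0 < (H.subgroupOf G).index := Nat.pos_of_ne_zero Subgroup.index_ne_zero_of_finite
    have h8 : Nat.card (bar H) * Nat.card Z * (H.subgroupOf G).index = Nat.card H * (H.subgroupOf G).index := by
      rw [h4, hcardG, ← h3]
      ring
    exact Nat.eq_of_mul_eq_mul_right h7 h8
  have hN₁G : N₁ ≤ G := hN₁K.le.trans hKG
  have hZN₁ : Z ≤ N₁ := hZE.trans hEN₁
  have hZK : Z ≤ K := inf_le_left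
  set N₂ := Subgroup.normalizer (N₁ : Set X) with hN₂def
  have hN₂K : N₂ ≤ K := grow_le hG hN₁K hN₂
  have hN₁N₂ : N₁ ≤ N₂ := Subgroup.le_normalizer
  have hCZ : ∀ a ∈ N₁, ∀ b ∈ N₁, ⁅a, b⁆ ∈ Z := by
    intro a ha b hb
    refine ⟨?_, Subgroup.mem_centralizer_iff.2 (fun k hk => (hCK a ha b hb k hk).symm)⟩
    have ha' := hN₁K.le ha
    have hb' := hN₁K.le hb
    rw [commutatorElement_def]
    exact K.mul_mem (K.mul_mem (K.mul_mem ha' hb') (K.inv_mem ha')) (K.inv_mem hb')
  -- softness of the image of `N₁`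
  have hSoft : Soft p (bar N₁) := by
    refine ⟨?_, ?_, ?_⟩
    · rintro _ ⟨t₁, ht₁, rfl⟩ _ ⟨t₂, ht₂, rfl⟩
      rw [← map_mul, ← map_mul, hfeq]
      have h1 : (t₁ : X) ∈ N₁ := Subgroup.mem_subgroupOf.1 ht₁
      have h2 : (t₂ : X) ∈ N₁ := Subgroup.mem_subgroupOf.1 ht₂
      have h3 := hCZ _ (N₁.inv_mem h2) _ (N₁.inv_mem h1)
      have h4 : ((t₁ * t₂ : G) : X)⁻¹ * ((t₂ * t₁ : G) : X) = ⁅((t₂ : X)⁻¹), ((t₁ : X)⁻¹)⁆ := by
        simp only [Subgroup.coe_mul, commutatorElement_def]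
        group
      rw [h4]
      exact h3
    · intro x hx
      obtain ⟨t, rfl⟩ := hsurj x
      rw [hbar N₁ hZN₁]
      have h1 : (t : X)⁻¹ ∈ N₁ := by
        rw [hN₁, mem_normalizer_of_map_conj_eq_iff_le]
        rintro _ ⟨e, he, rfl⟩
        have heG : e ∈ G := hKG (hEK he)
        have h2 : f ⟨e, heG⟩ ∈ bar N₁ := (hbar N₁ hZN₁ _).2 (hEN₁ he)
        have h3 := Subgroup.mem_centralizer_iff.1 hx _ h2
        rw [← map_mul, ← map_mul, hfeq] at h3
        have h4 := hZE h3
        have h5 : ((⟨e, heG⟩ * t : G) : X)⁻¹ * ((t * ⟨e, heG⟩ : G) : X) = (t : X)⁻¹ * e⁻¹ * t * e := by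
          simp only [Subgroup.coe_mul]
          group
        rw [h5] at h4
        have h6 : (t : X)⁻¹ * e⁻¹ * t ∈ E := by
          have := E.mul_mem h4 (E.inv_mem he)
          simpa [mul_assoc] using this
        have h7 := E.inv_mem h6
        have h8 : ((MulAut.conj (t : X)⁻¹).toMonoidHom e) = ((t : X)⁻¹ * e⁻¹ * t)⁻¹ := by
          simp [mul_assoc]
        rw [h8]
        exact h7
      simpa using N₁.inv_mem h1
    · have hnorm : Subgroup.normalizer ((bar N₁ : Subgroup _) : Set (G ⧸ Zc)) = bar N₂ := by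
        ext x
        obtain ⟨t, rfl⟩ := hsurj x
        rw [hbar N₂ (hZN₁.trans hN₁N₂) t]
        constructor
        · intro hx
          rw [hN₂def, mem_normalizer_of_map_conj_eq_iff_le]
          rintro _ ⟨a, ha, rfl⟩
          have haG : a ∈ G := hN₁G ha
          have h2 : f ⟨a, haG⟩ ∈ bar N₁ := (hbar N₁ hZN₁ _).2 ha
          have h3 := (Subgroup.mem_normalizer_iff.1 hx _).1 h2
          rw [← map_inv, ← map_mul, ← map_mul, hbar N₁ hZN₁] at h3
          exact h3
        · intro ht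
          rw [Subgroup.mem_normalizer_iff]
          intro h
          obtain ⟨s, rfl⟩ := hsurj h
          rw [← map_inv, ← map_mul, ← map_mul, hbar N₁ hZN₁, hbar N₁ hZN₁]
          exact Subgroup.mem_normalizer_iff.1 ht s
      rw [hnorm]
      have h1 := hbarcard N₂ (hZN₁.trans hN₁N₂) (hN₂K.trans hKG)
      have h2 := hbarcard N₁ hZN₁ hN₁G
      rw [hN₂, ← h2] at h1
      have h3 : 0 < Nat.card Z := Nat.card_pos
      have h4 : Nat.card (bar N₂) * Nat.card Z = (p * Nat.card (bar N₁)) * Nat.card Z := by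
        rw [h1]
        ring
      exact Nat.eq_of_mul_eq_mul_right h3 h4
  have hEKbar : bar N₁ ≤ bar K := by
    rintro _ ⟨t, ht, rfl⟩
    exact ⟨t, Subgroup.mem_subgroupOf.2 (hN₁K.le (Subgroup.mem_subgroupOf.1 ht)), rfl⟩
  have hKbartop : bar K ≠ ⊤ := by
    intro h
    have h1 : f ⟨g, hg2⟩ ∈ bar K := by
      rw [h]
      exact Subgroup.mem_top _
    exact hg1 ((hbar K hZK _).1 h1)
  have hZnt : 1 < Nat.card Z := by
    rw [Subgroup.one_lt_card_iff_ne_bot]
    intro hbot
    have hKnt : Nontrivial K := by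
      have h1 : E < K := lt_of_le_of_lt hEN₁ hN₁K
      obtain ⟨x, hxK, hxE⟩ := SetLike.exists_of_lt h1
      refine ⟨⟨⟨x, hxK⟩, 1, ?_⟩⟩
      intro h
      apply hxE
      have h2 : x = 1 := congrArg Subtype.val h
      rw [h2]
      exact E.one_mem
    have h3 := (hG.to_subgroup K).center_nontrivial
    obtain ⟨z, hz⟩ := Subgroup.bot_or_exists_ne_one (Subgroup.center K) |>.resolve_left (by
      intro h
      rw [h] at h3
      exact (not_nontrivial_iff_subsingleton.2 (inferInstance : Subsingleton (⊥ : Subgroup K))) h3)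
    obtain ⟨hz1, hz2⟩ := hz
    have h4 : (z : X) ∈ Z := by
      refine ⟨z.2, Subgroup.mem_centralizer_iff.2 ?_⟩
      intro k hk
      have h5 := Subgroup.mem_center_iff.1 hz1 ⟨k, hk⟩
      exact congrArg Subtype.val h5
    rw [hbot, Subgroup.mem_bot] at h4
    exact hz2 (Subtype.ext h4)
  have hlt : Nat.card (G ⧸ Zc) < Nat.card X := by
    have h1 : Nat.card G ≤ Nat.card X := Subgroup.card_le_card_group G
    rw [hcardG] at h1
    have h2 : 0 < Nat.card (G ⧸ Zc) := Nat.card_pos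
    nlinarith
  obtain ⟨hc1, hc2⟩ := IH (G ⧸ Zc) hlt ((hG.to_subgroup G).to_quotient Zc) (bar N₁) hSoft (bar K) hEKbar hKbartop
  have hcbarK := hbarcard K hZK hKG
  have hcbarN := hbarcard N₁ hZN₁ hN₁G
  have hnormtop : Subgroup.normalizer ((bar K : Subgroup _) : Set (G ⧸ Zc)) = ⊤ := by
    rw [eq_top_iff]
    intro x _
    obtain ⟨t, rfl⟩ := hsurj x
    rw [Subgroup.mem_normalizer_iff]
    intro h
    obtain ⟨s, rfl⟩ := hsurj h
    rw [← map_inv, ← map_mul, ← map_mul, hbar K hZK, hbar K hZK]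
    exact Subgroup.mem_normalizer_iff.1 t.2 s
  rw [hnormtop, Subgroup.card_top] at hc1
  refine ⟨?_, ?_⟩
  · rw [hcardG, hc1, ← hcbarK]
    ring
  · intro _
    refine ⟨hCK, ?_⟩
    intro n hn
    have hKne : bar K ≠ bar N₁ := by
      intro h
      have h9 : K ≤ N₁ := by
        intro k hk
        have h2 : f ⟨k, hKG hk⟩ ∈ bar K := (hbar K hZK _).2 hk
        rw [h] at h2
        exact (hbar N₁ hZN₁ _).1 h2
      exact hN₁K.not_ge h9
    obtain ⟨-, hlcs⟩ := hc2 hKne
    have hcE : Nat.card N₁ = p * Nat.card E := hS.nidx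
    rcases n with _ | n
    · exfalso
      rw [pow_zero, mul_one] at hn
      have h1 : E = K := Subgroup.eq_of_le_of_card_ge hEK (by rw [hn])
      exact hN₁K.not_ge (h1 ▸ hEN₁)
    have hcb : Nat.card (bar K) = Nat.card (bar N₁) * p ^ n := by
      have h3 : 0 < Nat.card Z := Nat.card_pos
      apply Nat.eq_of_mul_eq_mul_right h3
      rw [hcbarK, hn, mul_right_comm, hcbarN, hcE, pow_succ]
      ring
    have h1 := hlcs n hcb
    have h2 := Subgroup.map_lowerCentralSeries (K.subgroupOf G) f (n + 1)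
    have h3 : ((K.subgroupOf G).map f).lowerCentralSeries (n + 1) = ⊥ := h1
    rw [h3, Subgroup.map_eq_bot_iff] at h2
    have h4 := Subgroup.map_lowerCentralSeries (K.subgroupOf G) G.subtype (n + 1)
    have h5 : (K.subgroupOf G).map G.subtype = K := by
      rw [Subgroup.subgroupOf_map_subtype]
      exact inf_eq_left.2 hKG
    rw [h5] at h4
    have h6 : K.lowerCentralSeries (n + 1) ≤ Z := by
      rw [← h4]
      rintro _ ⟨t, ht, rfl⟩
      have h7 := h2 ht
      rw [hkerf] at h7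
      exact Subgroup.mem_subgroupOf.1 h7
    rw [Subgroup.lowerCentralSeries_succ, eq_bot_iff, Subgroup.commutator_le]
    intro x hx k hk
    rw [Subgroup.mem_bot, commutatorElement_eq_one_iff_mul_comm]
    exact hZcen x (h6 hx) k hk

/-- The normal subgroup trick: `E ⊓ ...`: commutators of `N₁` central in `K`. -/
theorem soft_comm_central (hG : IsPGroup p X) {E M K : Subgroup X} (hS : Soft p E) (hEM : E ≤ M) (hMlt : M < K)
    (hKM : K ≤ Subgroup.normalizer (M : Set X)) (hnM : Subgroup.normalizer (M : Set X) = K)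
    (hcM : Nat.card K = p * Nat.card M) (hN₁M : Subgroup.normalizer (E : Set X) ≤ M)
    (huniq : ∀ J : Subgroup X, E ≤ J → J < K → J ≤ M)
    (hCM : ∀ a ∈ Subgroup.normalizer (E : Set X), ∀ b ∈ Subgroup.normalizer (E : Set X), ∀ k ∈ M,
      ⁅a, b⁆ * k = k * ⁅a, b⁆)
    {g : X} (hg1 : g ∉ K) (hg2 : g ∈ Subgroup.normalizer (K : Set X)) :
    ∀ a ∈ Subgroup.normalizer (E : Set X), ∀ b ∈ Subgroup.normalizer (E : Set X), ∀ k ∈ K,
      ⁅a, b⁆ * k = k * ⁅a, b⁆ := by
  classical
  set N₁ := Subgroup.normalizer (E : Set X) with hN₁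
  have hEN₁ : E ≤ N₁ := Subgroup.le_normalizer
  have hEK : E ≤ K := hEM.trans hMlt.le
  have hcommM : ∀ a ∈ N₁, ∀ b ∈ N₁, ⁅a, b⁆ ∈ M := by
    intro a ha b hb
    have ha' := hN₁M ha
    have hb' := hN₁M hb
    rw [commutatorElement_def]
    exact M.mul_mem (M.mul_mem (M.mul_mem ha' hb') (M.inv_mem ha')) (M.inv_mem hb')
  have hcentral : ∀ (S : Subgroup X) (c : X), (∀ k ∈ M, c * k = k * c) → (∀ k ∈ S, c * k = k * c) → M ⊔ S = K →
      ∀ k ∈ K, c * k = k * c := by
    intro S c h1 h2 h3 k hk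
    have h4 : K ≤ Subgroup.centralizer ({c} : Set X) := by
      rw [← h3]
      apply sup_le
      · intro x hx
        rw [Subgroup.mem_centralizer_iff]
        rintro _ rfl
        exact h1 x hx
      · intro x hx
        rw [Subgroup.mem_centralizer_iff]
        rintro _ rfl
        exact h2 x hx
    have h5 := h4 hk
    rw [Subgroup.mem_centralizer_iff] at h5
    exact h5 c rfl
  have hsup_of_not_le : ∀ S : Subgroup X, S ≤ K → ¬ S ≤ M → M ⊔ S = K := by
    intro S hSK hSM
    have h1 : M < M ⊔ S := by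
      refine lt_of_le_of_ne le_sup_left ?_
      intro h
      exact hSM (by rw [h]; exact le_sup_right)
    have h2 := card_mul_le_of_lt hG h1
    rw [← hcM] at h2
    exact Subgroup.eq_of_le_of_card_ge (sup_le hMlt.le hSK) h2
  -- conjugates
  have hginv : g⁻¹ ∈ Subgroup.normalizer (K : Set X) := Subgroup.inv_mem _ hg2
  set M₁ := M.map (MulAut.conj g⁻¹).toMonoidHom with hM₁
  have hM₁K : M₁ ≤ K := by
    rintro _ ⟨x, hx, rfl⟩
    exact (Subgroup.mem_normalizer_iff.1 hginv x).1 (hMlt.le hx)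
  have hKnM₁ : K ≤ Subgroup.normalizer (M₁ : Set X) := by
    intro k hk
    apply mem_normalizer_of_map_conj_eq
    have h1 : g * k * g⁻¹ ∈ K := (Subgroup.mem_normalizer_iff.1 hg2 k).1 hk
    have h2 : k * g⁻¹ = g⁻¹ * (g * k * g⁻¹) := by group
    rw [hM₁, ← map_conj_mul, h2, map_conj_mul, map_conj_eq_of_mem_normalizer (hKM h1)]
  have hM₁card : Nat.card M₁ = Nat.card M := card_map_conj M g⁻¹
  have hM₁ne : ¬ M₁ ≤ M := by
    intro h
    have h1 : M₁ = M := Subgroup.eq_of_le_of_card_ge h (by rw [hM₁card])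
    have h2 : g⁻¹ ∈ Subgroup.normalizer (M : Set X) := mem_normalizer_of_map_conj_eq h1
    rw [hnM] at h2
    exact hg1 (by simpa using K.inv_mem h2)
  -- the centre of `M₁`
  set W := M₁ ⊓ Subgroup.centralizer (M₁ : Set X) with hW
  have hKnW : K ≤ Subgroup.normalizer (W : Set X) := by
    intro k hk
    have h1 := hKnM₁ hk
    rw [Subgroup.mem_normalizer_iff]
    intro x
    constructor
    · exact soft_center_conj M₁ k h1 x
    · intro hx
      have h9 := soft_center_conj M₁ k⁻¹ (Subgroup.inv_mem _ h1) _ hx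
      have h10 : k⁻¹ * (k * x * k⁻¹) * k⁻¹⁻¹ = x := by group
      rw [h10] at h9
      exact h9
  intro a ha b hb
  have hcW : g⁻¹ * ⁅a, b⁆ * g ∈ W := by
    have h0 : (MulAut.conj g⁻¹).toMonoidHom ⁅a, b⁆ = g⁻¹ * ⁅a, b⁆ * g := by
      show g⁻¹ * _ * g⁻¹⁻¹ = _
      rw [inv_inv]
    refine ⟨⟨_, hcommM a ha b hb, h0⟩, Subgroup.mem_centralizer_iff.2 ?_⟩
    intro k hk
    obtain ⟨m, hm, rfl⟩ := hk
    have h1 := hCM a ha b hb m hm
    have h2 : (MulAut.conj g⁻¹).toMonoidHom m = g⁻¹ * m * g := by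
      show g⁻¹ * _ * g⁻¹⁻¹ = _
      rw [inv_inv]
    rw [h2]
    calc g⁻¹ * m * g * (g⁻¹ * ⁅a, b⁆ * g) = g⁻¹ * (m * ⁅a, b⁆) * g := by group
      _ = g⁻¹ * (⁅a, b⁆ * m) * g := by rw [h1]
      _ = g⁻¹ * ⁅a, b⁆ * g * (g⁻¹ * m * g) := by group
  by_cases hWE : W ≤ E
  · -- `⁅a, b⁆` lies in the conjugate `g E g⁻¹`
    set E' := E.map (MulAut.conj g).toMonoidHom with hE'
    have hE'K : E' ≤ K := by
      rintro _ ⟨x, hx, rfl⟩
      exact (Subgroup.mem_normalizer_iff.1 hg2 x).1 (hEK hx)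
    have hcE' : ⁅a, b⁆ ∈ E' := by
      rw [hE', mem_conj]
      exact hWE hcW
    have hE'ab := comm_of_conj hS.ab g
    have hE'M : ¬ E' ≤ M := by
      intro h
      have h1 : E ≤ M₁ := by
        intro e he
        rw [hM₁, mem_conj]
        simpa using h (conj_mem_conj (g := g) he)
      have hM₁lt : M₁ < K := lt_of_le_of_ne hM₁K (fun h2 => by
        have h3 := Subgroup.card_le_of_le (le_of_eq h2.symm)
        rw [hM₁card] at h3
        exact absurd (Subgroup.eq_of_le_of_card_ge hMlt.le h3) hMlt.ne)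
      exact hM₁ne (huniq M₁ h1 hM₁lt)
    exact hcentral E' _ (hCM a ha b hb) (fun k hk => hE'ab _ hcE' _ hk) (hsup_of_not_le E' hE'K hE'M)
  · -- an element of `W` in `N₁ \ E`
    have hWK : W ≤ K := inf_le_left.trans hM₁K
    have hEnW : E ≤ Subgroup.normalizer (W : Set X) := hEK.trans hKnW
    have hEltL : E < W ⊔ E := by
      refine lt_of_le_of_ne le_sup_right ?_
      intro h
      exact hWE (by rw [h]; exact le_sup_left)
    obtain ⟨t, htL, htE, htN⟩ := exists_mem_sdiff_normalizer (hG.to_subgroup (W ⊔ E)) hEltL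
    have hN₁L : N₁ ≤ W ⊔ E := by
      have h1 : E < (W ⊔ E) ⊓ N₁ := by
        refine lt_of_le_of_ne (le_inf le_sup_right hEN₁) ?_
        intro h
        exact htE (h ▸ ⟨htL, htN⟩)
      have h2 := card_mul_le_of_lt hG h1
      rw [← hS.nidx] at h2
      exact inf_eq_right.1 (Subgroup.eq_of_le_of_card_ge inf_le_right h2)
    obtain ⟨w₁, hw₁, e₁, he₁, rfl⟩ := H01.exists_mul_of_mem_sup hEnW (hN₁L ha)
    obtain ⟨w₂, hw₂, e₂, he₂, rfl⟩ := H01.exists_mul_of_mem_sup hEnW (hN₁L hb)
    have hcW' : ⁅w₁ * e₁, w₂ * e₂⁆ ∈ W := by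
      have h1 : ⁅w₁ * e₁, w₂ * e₂⁆ = w₁ * (e₁ * w₂ * e₁⁻¹) * (e₂ * w₁⁻¹ * e₂⁻¹) * w₂⁻¹ := by
        have h2 := hS.ab e₂ he₂ e₁⁻¹ (E.inv_mem he₁)
        have h3 : e₁ * e₂ * e₁⁻¹ = e₂ := by
          rw [mul_assoc, h2]
          group
        rw [commutatorElement_def]
        calc w₁ * e₁ * (w₂ * e₂) * (w₁ * e₁)⁻¹ * (w₂ * e₂)⁻¹
            = w₁ * (e₁ * w₂ * e₁⁻¹) * (e₁ * e₂ * e₁⁻¹) * w₁⁻¹ * e₂⁻¹ * w₂⁻¹ := by group
          _ = w₁ * (e₁ * w₂ * e₁⁻¹) * e₂ * w₁⁻¹ * e₂⁻¹ * w₂⁻¹ := by rw [h3]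
          _ = _ := by group
      rw [h1]
      exact W.mul_mem (W.mul_mem (W.mul_mem hw₁ ((Subgroup.mem_normalizer_iff.1 (hEnW he₁) w₂).1 hw₂))
        ((Subgroup.mem_normalizer_iff.1 (hEnW he₂) _).1 (W.inv_mem hw₁))) (W.inv_mem hw₂)
    have hcM₁ : ∀ k ∈ M₁, ⁅w₁ * e₁, w₂ * e₂⁆ * k = k * ⁅w₁ * e₁, w₂ * e₂⁆ := by
      intro k hk
      have h0 : ⁅w₁ * e₁, w₂ * e₂⁆ ∈ Subgroup.centralizer (M₁ : Set X) := hcW'.2
      exact (Subgroup.mem_centralizer_iff.1 h0 k hk).symm
    exact hcentral M₁ _ (hCM _ ha _ hb) hcM₁ (hsup_of_not_le M₁ hM₁K hM₁ne)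

/-- Main theorem on soft subgroups. -/
theorem soft_main (p : ℕ) [hp : Fact p.Prime] : ∀ (m : ℕ) (Y : Type u) [Group Y] [Finite Y], Nat.card Y = m →
    IsPGroup p Y → ∀ E : Subgroup Y, Soft p E → ∀ K : Subgroup Y, E ≤ K → K ≠ ⊤ → SoftConcl p E K := by
  intro m
  induction m using Nat.strong_induction_on with
  | _ m IHm =>
  intro Y _ _ hcard hG E hS K
  induction hK : Nat.card K using Nat.strong_induction_on generalizing K with
  | _ c IHc =>
  intro hEK hKtop
  by_cases hKE : K = E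
  · subst hKE
    exact ⟨hS.nidx, fun h => absurd rfl h⟩
  have IHK : ∀ J : Subgroup Y, J < K → E ≤ J → SoftConcl p E J := by
    intro J hJK hEJ
    have h1 : Nat.card J < c := by
      rw [← hK]
      by_contra hcon
      push Not at hcon
      exact hJK.ne (Subgroup.eq_of_le_of_card_ge hJK.le hcon)
    exact IHc _ h1 J rfl hEJ (ne_top_of_lt hJK)
  have hEltK : E < K := lt_of_le_of_ne hEK (Ne.symm hKE)
  have hN₁K : Subgroup.normalizer (E : Set Y) ≤ K := grow_le hG hEltK hS.nidx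
  -- a maximal proper overgroup of `E` in `K`
  let S : Set (Subgroup Y) := {J | E ≤ J ∧ J < K}
  have hES : E ∈ S := ⟨le_rfl, hEltK⟩
  obtain ⟨M, hEM', hmax⟩ := (Set.toFinite S).exists_le_maximal hES
  obtain ⟨hEM, hMlt⟩ := hmax.1
  have hMS := IHK M hMlt hEM
  have hKnM : K ≤ Subgroup.normalizer (M : Set Y) := by
    obtain ⟨x, hxK, hxM, hxN⟩ := exists_mem_sdiff_normalizer (hG.to_subgroup K) hMlt
    by_contra hcon
    have h1 : Subgroup.normalizer (M : Set Y) ⊓ K < K := lt_of_le_of_ne inf_le_right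
      (fun h => hcon (inf_eq_right.1 h))
    have h2 : Subgroup.normalizer (M : Set Y) ⊓ K ∈ S :=
      ⟨le_inf (hEM.trans Subgroup.le_normalizer) hEK, h1⟩
    have h3 := hmax.2 h2 (le_inf Subgroup.le_normalizer hMlt.le)
    exact hxM (h3 ⟨hxN, hxK⟩)
  have hnM : Subgroup.normalizer (M : Set Y) = K := le_antisymm (grow_le hG hMlt hMS.1) hKnM
  have hcM : Nat.card K = p * Nat.card M := by
    rw [← hnM]
    exact hMS.1
  have huniq : ∀ J : Subgroup Y, E ≤ J → J < K → J ≤ M := by
    intro J hEJ hJK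
    have h1 : J ⊓ M < K := lt_of_le_of_lt inf_le_left hJK
    rcases soft_comparable hG (IHK _ h1 (le_inf hEJ hEM)).1 with h2 | h2
    · exact h2
    · exact hmax.2 ⟨hEJ, hJK⟩ h2
  by_cases hME : M = E
  · -- the base case
    subst hME
    have hKeq : Subgroup.normalizer (M : Set Y) = K := hnM
    subst hKeq
    obtain ⟨h1, h2⟩ := soft_base hG hS hKtop
    refine ⟨h1, fun _ => ⟨h2, ?_⟩⟩
    intro n hn
    have hn1 : n = 1 := by
      have h3 : Nat.card (Subgroup.normalizer (M : Set Y)) = p * Nat.card M := hS.nidx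
      rw [h3] at hn
      have h4 : 0 < Nat.card M := Nat.card_pos
      have h5 : Nat.card M * p = Nat.card M * p ^ n := by rw [← hn]; ring
      have h6 := Nat.eq_of_mul_eq_mul_left h4 h5
      have h7 : p ^ 1 = p ^ n := by rw [pow_one]; exact h6
      exact (Nat.pow_right_injective hp.out.two_le h7).symm
    subst hn1
    rw [Subgroup.lowerCentralSeries_succ, eq_bot_iff, Subgroup.commutator_le]
    intro x hx k hk
    rw [Subgroup.mem_bot, commutatorElement_eq_one_iff_mul_comm]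
    have hle : (Subgroup.normalizer (M : Set Y)).lowerCentralSeries 1 ≤
        Subgroup.normalizer (M : Set Y) ⊓ Subgroup.centralizer ((Subgroup.normalizer (M : Set Y) : Subgroup Y) : Set Y) := by
      rw [Subgroup.lowerCentralSeries_succ, Subgroup.lowerCentralSeries_zero, Subgroup.commutator_le]
      intro a ha b hb
      refine ⟨?_, Subgroup.mem_centralizer_iff.2 (fun t ht => (h2 a ha b hb t ht).symm)⟩
      rw [commutatorElement_def]
      exact Subgroup.mul_mem _ (Subgroup.mul_mem _ (Subgroup.mul_mem _ ha hb) (Subgroup.inv_mem _ ha)) (Subgroup.inv_mem _ hb)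
    have h8 := hle hx
    have h9 : x ∈ Subgroup.centralizer ((Subgroup.normalizer (M : Set Y) : Subgroup Y) : Set Y) := h8.2
    exact (Subgroup.mem_centralizer_iff.1 h9 k hk).symm
  · -- the inductive case
    have hEltM : E < M := lt_of_le_of_ne hEM (Ne.symm hME)
    have hN₁M : Subgroup.normalizer (E : Set Y) ≤ M := grow_le hG hEltM hS.nidx
    have hCM := (hMS.2 hME).1
    obtain ⟨g, -, hg1, hg2⟩ := exists_mem_sdiff_normalizer (hG.to_subgroup ⊤) (lt_top_iff_ne_top.2 hKtop)
    have hCK := soft_comm_central hG hS hEM hMlt hKnM hnM hcM hN₁M huniq hCM hg1 hg2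
    have hN₁lt : Subgroup.normalizer (E : Set Y) < K := lt_of_le_of_lt hN₁M hMlt
    have hN₁S := IHK _ hN₁lt Subgroup.le_normalizer
    refine soft_step hG hS hN₁lt hKtop hN₁S.1 hCK ?_
    intro Z _ _ hZ hZp E₁ hE₁ K₁ hEK₁ hK₁
    exact IHm _ (hcard ▸ hZ) Z rfl hZp E₁ hE₁ K₁ hEK₁ hK₁

/-- Lower bound for the class. -/
theorem soft_class_lb (hG : IsPGroup p X) {E K : Subgroup X} (hS : Soft p E) (hEK : E ≤ K) (hKtop : K ≠ ⊤)
    [Group.IsNilpotent ↥K]
    (hall : ∀ J : Subgroup X, E ≤ J → J ≠ ⊤ → Nat.card (Subgroup.normalizer (J : Set X)) = p * Nat.card J)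
    {n : ℕ} (hn : Nat.card K = Nat.card E * p ^ n) (hne : Nat.card K ≠ 1) :
    n + 1 ≤ Group.nilpotencyClass ↥K := by
  classical
  let Z : ℕ → Subgroup X := fun j => (Subgroup.upperCentralSeries ↥K j).map K.subtype
  let H : ℕ → Subgroup X := fun j => E ⊔ Z j
  have hZK : ∀ j, Z j ≤ K := by
    rintro j _ ⟨x, -, rfl⟩
    exact x.2
  have hHK : ∀ j, H j ≤ K := fun j => sup_le hEK (hZK j)
  have hHtop : ∀ j, H j ≠ ⊤ := fun j h => hKtop (top_le_iff.1 (h ▸ hHK j))
  have hcard : ∀ j, Nat.card (H (j + 1)) ≤ Nat.card E * p ^ j := by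
    intro j
    induction j with
    | zero =>
      have h1 : Z 1 ≤ E := by
        rintro _ ⟨x, hx, rfl⟩
        apply hS.sc
        rw [Subgroup.upperCentralSeries_one] at hx
        refine Subgroup.mem_centralizer_iff.2 ?_
        intro h hh
        have h2 := Subgroup.mem_center_iff.1 hx ⟨h, hEK hh⟩
        exact congrArg Subtype.val h2
      have h2 : H 1 = E := sup_eq_left.2 h1
      simp only [zero_add, pow_zero, mul_one]
      rw [h2]
    | succ j ih =>
      have h1 : H (j + 1 + 1) ≤ Subgroup.normalizer (H (j + 1) : Set X) := by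
        apply sup_le
        · exact (le_sup_left : E ≤ H (j + 1)).trans Subgroup.le_normalizer
        · rintro _ ⟨x, hx, rfl⟩
          rw [mem_normalizer_of_map_conj_eq_iff_le]
          rintro _ ⟨h, hh, rfl⟩
          have hhK : h ∈ K := hHK _ hh
          have h2 := Subgroup.mem_upperCentralSeries_succ_iff.1 hx ⟨h, hhK⟩
          have h3 : ((⁅x, ⟨h, hhK⟩⁆ : K) : X) ∈ H (j + 1) := Subgroup.mem_sup_right ⟨_, h2, rfl⟩
          have h4 : (K.subtype x * h * (K.subtype x)⁻¹) = ((⁅x, ⟨h, hhK⟩⁆ : K) : X) * h := by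
            simp only [commutatorElement_def, Subgroup.coe_subtype, Subgroup.coe_mul, Subgroup.coe_inv]
            group
          show K.subtype x * h * (K.subtype x)⁻¹ ∈ H (j + 1)
          rw [h4]
          exact Subgroup.mul_mem _ h3 hh
      have h2 := Subgroup.card_le_of_le h1
      rw [hall _ (le_sup_left) (hHtop _)] at h2
      calc Nat.card (H (j + 1 + 1)) ≤ p * Nat.card (H (j + 1)) := h2
        _ ≤ p * (Nat.card E * p ^ j) := Nat.mul_le_mul_left _ ih
        _ = Nat.card E * p ^ (j + 1) := by ring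
  set c := Group.nilpotencyClass ↥K with hc
  have htop : Subgroup.upperCentralSeries ↥K c = ⊤ := Subgroup.upperCentralSeries_nilpotencyClass
  have hZc : Z c = K := by
    show (Subgroup.upperCentralSeries ↥K c).map K.subtype = K
    rw [htop, ← MonoidHom.range_eq_map, Subgroup.range_subtype]
  have hHc : H c = K := by
    show E ⊔ Z c = K
    rw [hZc]
    exact sup_eq_right.2 hEK
  rcases c with _ | c
  · exfalso
    apply hne
    have h1 : (⊤ : Subgroup ↥K) = ⊥ := by
      rw [← htop]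
      rfl
    rw [← Nat.card_congr (Subgroup.topEquiv (G := ↥K)).toEquiv, h1, Subgroup.card_bot]
  · have h1 := hcard c
    rw [hHc, hn] at h1
    have h2 : 0 < Nat.card E := Nat.card_pos
    have h3 := Nat.le_of_mul_le_mul_left h1 h2
    have h4 := (Nat.pow_le_pow_iff_right hp.out.one_lt).1 h3
    omega

end

end Cfsg.Agent.H18
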